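import Cfsg.Prelude.Def_LocalStructure
import Cfsg.Agent.Lib.Helper55.Subn3
import Mathlib

set_option autoImplicit false
open Cfsg
open scoped Pointwise commutatorElement

namespace Cfsg.Agent.Lib.Helper56

variable {G : Type*} [Group G]

/-- the ambient Frattini subgroup of a subgroup -/
abbrev frattOf (A : Subgroup G) : Subgroup G := (frattini ↥A).map A.subtype

theorem frattOf_le (A : Subgroup G) : frattOf A ≤ A := Subgroup.map_subtype_le _

theorem normalizer_le_normalizer_frattOf (A : Subgroup G) :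
    Subgroup.normalizer (A : Set G) ≤ Subgroup.normalizer ((frattOf A : Subgroup G) : Set G) :=
  Cfsg.Agent.Lib.Helper55.normalizer_le_normalizer_map_of_characteristic _

/-- Burnside (ambient form, prime power order): an element `c` of `q`-power order normalizing the
`p`-group `A` and acting trivially on `A/Φ(A)` centralizes `A` -/
theorem burnside_prime_pow [Finite G] {p q : ℕ} [Fact p.Prime] [hq : Fact q.Prime] (hpq : p ≠ q)
    (A : Subgroup G) (hA : IsPGroup p A) (c : G)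
    (hcA : c ∈ Subgroup.normalizer (A : Set G)) (k : ℕ) (hc : c ^ q ^ k = 1)
    (h : ∀ x ∈ A, c * x * c⁻¹ * x⁻¹ ∈ frattOf A) :
    c ∈ Subgroup.centralizer (A : Set G) := by
  classical
  set Φ := frattOf A with hΦ
  have hΦP : Φ ≤ A := frattOf_le A
  have hnorm : ∀ g ∈ Subgroup.normalizer (A : Set G), ∀ y, y ∈ Φ ↔ g * y * g⁻¹ ∈ Φ := by
    intro g hg y
    exact Subgroup.mem_normalizer_iff.mp (normalizer_le_normalizer_frattOf A hg) y
  have hΦcard : ¬ q ∣ Nat.card Φ := by
    obtain ⟨m, hm⟩ := IsPGroup.iff_card.mp (hA.to_le hΦP)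
    rw [hm]
    intro hd
    exact hpq ((Nat.prime_dvd_prime_iff_eq hq.out Fact.out).mp (hq.out.dvd_of_dvd_pow hd)).symm
  have key : ∀ x ∈ A, ∃ y ∈ A, c * y * c⁻¹ = y ∧ x⁻¹ * y ∈ Φ := by
    intro x hx
    set f : Equiv.Perm G := MulAut.toPerm G (MulAut.conj c) with hf
    have hfa : ∀ y, f y = c * y * c⁻¹ := fun y => rfl
    have hxN : x⁻¹ ∈ Subgroup.normalizer (A : Set G) :=
      Subgroup.le_normalizer (A.inv_mem hx)
    have hφ₀ : x⁻¹ * c * x * c⁻¹ ∈ Φ := by
      have := (hnorm x⁻¹ hxN _).mp (h x hx)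
      have e : x⁻¹ * (c * x * c⁻¹ * x⁻¹) * x⁻¹⁻¹ = x⁻¹ * c * x * c⁻¹ := by group
      rwa [e] at this
    have hinv : ∀ y, x⁻¹ * f y ∈ Φ ↔ x⁻¹ * y ∈ Φ := by
      intro y
      have e : x⁻¹ * f y = (x⁻¹ * c * x * c⁻¹) * (c * (x⁻¹ * y) * c⁻¹) := by
        rw [hfa]; group
      rw [e, Subgroup.mul_mem_cancel_left _ hφ₀]
      exact (hnorm c hcA _).symm
    set σ : Equiv.Perm {y // x⁻¹ * y ∈ Φ} := f.subtypePerm hinv with hσ
    have hσpow : σ ^ q ^ k = 1 := by
      rw [hσ, Equiv.Perm.subtypePerm_pow]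
      have : f ^ q ^ k = 1 := by
        rw [hf, ← map_pow, ← map_pow, hc, map_one, map_one]
      ext y
      simp [Equiv.Perm.subtypePerm_apply, this]
    have : Fintype {y // x⁻¹ * y ∈ Φ} := Fintype.ofFinite _
    have hcard : ¬ q ∣ Fintype.card {y // x⁻¹ * y ∈ Φ} := by
      have e : {y // x⁻¹ * y ∈ Φ} ≃ Φ :=
        { toFun := fun y => ⟨x⁻¹ * y.1, y.2⟩
          invFun := fun φ => ⟨x * φ.1, by simp⟩
          left_inv := fun y => by simp
          right_inv := fun φ => by simp }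
      rw [← Nat.card_eq_fintype_card, Nat.card_congr e]
      exact hΦcard
    obtain ⟨y, hy⟩ := Equiv.Perm.exists_fixed_point_of_prime hcard hσpow
    refine ⟨y.1, ?_, ?_, y.2⟩
    · have : y.1 = x * (x⁻¹ * y.1) := by group
      rw [this]
      exact A.mul_mem hx (hΦP y.2)
    · have := congrArg Subtype.val hy
      exact this
  set K : Subgroup ↥A := (Subgroup.centralizer ({c} : Set G)).subgroupOf A with hK
  have hsup : K ⊔ frattini ↥A = ⊤ := by
    rw [eq_top_iff]
    intro x _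
    obtain ⟨y, hyP, hyc, hyΦ⟩ := key x.1 x.2
    have e : x = (⟨y, hyP⟩ : ↥A) * ((⟨y, hyP⟩ : ↥A)⁻¹ * x) := by group
    rw [e]
    refine Subgroup.mul_mem _ (Subgroup.mem_sup_left ?_) (Subgroup.mem_sup_right ?_)
    · rw [hK, Subgroup.mem_subgroupOf, Subgroup.mem_centralizer_iff]
      intro z hz
      rw [Set.mem_singleton_iff] at hz
      subst hz
      show z * y = y * z
      have : z * y * z⁻¹ * z = y * z := by rw [hyc]
      rw [← this]; group
    · rw [← Subgroup.mem_map_iff_mem A.subtype_injective]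
      have h1 : (x.1⁻¹ * y)⁻¹ ∈ Φ := Φ.inv_mem hyΦ
      have e2 : A.subtype ((⟨y, hyP⟩ : ↥A)⁻¹ * x) = (x.1⁻¹ * y)⁻¹ := by
        simp
      rw [e2]; exact h1
  have hKtop : K = ⊤ := frattini_nongenerating hsup
  rw [Subgroup.mem_centralizer_iff]
  intro x hx
  have h1 : (⟨x, hx⟩ : ↥A) ∈ K := by rw [hKtop]; trivial
  rw [hK, Subgroup.mem_subgroupOf, Subgroup.mem_centralizer_iff] at h1
  exact (h1 c rfl).symm

/-- the subgroup of elements normalizing `A` and acting trivially on `A/Φ(A)` -/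
def frattStab (A : Subgroup G) : Subgroup G :=
  Subgroup.normalizer (A : Set G) ⊓ Cfsg.Agent.Lib.Helper55.stabMod A (frattOf A)

theorem mem_frattStab_iff (A : Subgroup G) (c : G) :
    c ∈ frattStab A ↔ c ∈ Subgroup.normalizer (A : Set G) ∧ ∀ x ∈ A, c * x * c⁻¹ * x⁻¹ ∈ frattOf A := by
  unfold frattStab
  rw [Subgroup.mem_inf, Cfsg.Agent.Lib.Helper55.mem_stabMod]
  constructor
  · rintro ⟨h1, _, h3⟩
    refine ⟨h1, fun x hx => ?_⟩
    have := (frattOf A).inv_mem (h3 x hx)
    have e : (⁅x, c⁆)⁻¹ = c * x * c⁻¹ * x⁻¹ := by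
      simp only [commutatorElement_def]; group
    rwa [e] at this
  · rintro ⟨h1, h3⟩
    refine ⟨h1, normalizer_le_normalizer_frattOf A h1, fun x hx => ?_⟩
    have := (frattOf A).inv_mem (h3 x hx)
    have e : (c * x * c⁻¹ * x⁻¹)⁻¹ = ⁅x, c⁆ := by
      simp only [commutatorElement_def]; group
    rwa [e] at this

/-- Burnside (ambient form): a `p'`-element normalizing the `p`-group `A` and acting trivially on
`A/Φ(A)` centralizes `A` -/
theorem burnside_coprime [Finite G] {p : ℕ} [hp : Fact p.Prime]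
    (A : Subgroup G) (hA : IsPGroup p A) :
    ∀ (n : ℕ) (c : G), orderOf c = n → n.Coprime p → c ∈ frattStab A →
      c ∈ Subgroup.centralizer (A : Set G) := by
  intro n
  induction n using Nat.strong_induction_on with
  | _ n ih =>
    intro c hcn hcop hcS
    by_cases hn1 : n = 1
    · rw [hn1] at hcn
      rw [orderOf_eq_one_iff.mp hcn]
      exact Subgroup.one_mem _
    have hn0 : n ≠ 0 := by
      rw [← hcn]; exact (orderOf_pos c).ne'
    obtain ⟨q, hqp, hqn⟩ : ∃ q : ℕ, q.Prime ∧ q ∣ n :=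
      ⟨n.minFac, Nat.minFac_prime hn1, Nat.minFac_dvd n⟩
    have hqF : Fact q.Prime := ⟨hqp⟩
    have hpq : p ≠ q := by
      intro e
      have : p ∣ n := e ▸ hqn
      have h1 : p ∣ Nat.gcd n p := Nat.dvd_gcd this dvd_rfl
      rw [hcop] at h1
      exact hp.out.one_lt.ne' (Nat.dvd_one.mp h1)
    obtain ⟨e, m, hm, hem⟩ := Nat.exists_eq_pow_mul_and_not_dvd hn0 q hqp.ne_one
    have he : e ≠ 0 := by
      intro he0
      rw [he0, pow_zero, one_mul] at hem
      exact hm (hem ▸ hqn)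
    have hm0 : m ≠ 0 := by
      intro h0; rw [h0, mul_zero] at hem; exact hn0 hem
    -- the two pieces
    have h1 : c ^ m ∈ Subgroup.centralizer (A : Set G) := by
      have hS := (mem_frattStab_iff A _).mp (Subgroup.pow_mem _ hcS m)
      refine burnside_prime_pow hpq A hA (c ^ m) hS.1 e ?_ hS.2
      rw [← pow_mul, mul_comm, ← hem, ← hcn, pow_orderOf_eq_one]
    have h2 : c ^ (q ^ e) ∈ Subgroup.centralizer (A : Set G) := by
      have ho : orderOf (c ^ (q ^ e)) = m := by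
        rw [orderOf_pow' c (pow_ne_zero e hqp.ne_zero), hcn, hem,
          Nat.gcd_eq_right (Dvd.intro _ rfl)]
        exact Nat.mul_div_cancel_left m (pow_pos hqp.pos e)
      have hmn : m < n := by
        rw [hem]
        have : 1 < q ^ e := Nat.one_lt_pow he hqp.one_lt
        have hmpos : 0 < m := Nat.pos_of_ne_zero hm0
        nlinarith
      have hmcop : m.Coprime p := by
        apply Nat.Coprime.coprime_dvd_left _ hcop
        rw [hem]; exact Dvd.intro_left _ rfl
      exact ih m hmn _ ho hmcop (Subgroup.pow_mem _ hcS _)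
    have hcop2 : Nat.Coprime m (q ^ e) :=
      Nat.Coprime.pow_right e ((Nat.Prime.coprime_iff_not_dvd hqp).mpr hm).symm
    have hb := Int.gcd_eq_gcd_ab (m : ℤ) ((q ^ e : ℕ) : ℤ)
    have hg : Int.gcd (m : ℤ) ((q ^ e : ℕ) : ℤ) = 1 := by
      rw [Int.gcd_natCast_natCast]; exact hcop2
    rw [hg] at hb
    have hc1 : c = (c ^ m) ^ (Int.gcdA (m : ℤ) ((q ^ e : ℕ) : ℤ)) *
        (c ^ (q ^ e)) ^ (Int.gcdB (m : ℤ) ((q ^ e : ℕ) : ℤ)) := by
      rw [← zpow_natCast, ← zpow_natCast, ← zpow_mul, ← zpow_mul, ← zpow_add, ← hb]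
      simp
    rw [hc1]
    exact Subgroup.mul_mem _ (Subgroup.zpow_mem _ h1 _) (Subgroup.zpow_mem _ h2 _)

end Cfsg.Agent.Lib.Helper56
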