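import Cfsg.Prelude.Def_LocalStructure
import Cfsg.Agent.Lib.Helper56.FrakM
import Mathlib

set_option autoImplicit false
open Cfsg
open scoped Pointwise

namespace Cfsg.Agent.Lib.Helper56

variable {G : Type*} [Group G]

/-- with a large `p`-subgroup `Q ≤ S`, every subgroup `R ≥ S` with `O_p(R) ≠ 1` lies in `𝓛_G` -/
theorem large_mem_charP [Finite G] {p : ℕ} [Fact p.Prime] {Q : Subgroup G}
    (hL : Cfsg.IsLarge Q) (hQp : IsPGroup p Q) (S : Sylow p G) (hQS : Q ≤ (S : Subgroup G))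
    (R : Subgroup G) (hSR : (S : Subgroup G) ≤ R) (hR1 : Cfsg.pCoreOf p R ≠ ⊥) :
    R ∈ Cfsg.charPSubgroups p G := by
  have hQR := hQS.trans hSR
  have hp := large_centralizer_pCoreOf_isPGroup hL hQp R hQR hR1
  have hc := large_charp hL hQp R hQR hR1
  refine ⟨?_, ?_⟩
  · intro h
    apply hR1
    unfold Cfsg.pCoreOf
    rw [h, Subgroup.map_bot]
  · show Subgroup.centralizer ((Cfsg.pCoreOf p R : Subgroup G) : Set G) ≤ Cfsg.pCoreOf p R
    have hCS : Subgroup.centralizer ((Cfsg.pCoreOf p R : Subgroup G) : Set G) ≤ (S : Subgroup G) :=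
      pgroup_le_sylow_of_normalized S _ hp
        (hSR.trans ((le_normalizer_pCoreOf p R).trans (normalizer_le_normalizer_centralizer _)))
    exact fun x hx => hc (Subgroup.mem_inf.mpr ⟨hSR (hCS hx), hx⟩)

/-- for `M ∈ 𝔐_G`: every member of `𝓛_G` containing `M` lies in `M† = M C_G(Y_M)` -/
theorem frakM_le_dagger [Finite G] {p : ℕ} (M : Subgroup G) (hM : Cfsg.IsInFrakM p M)
    (X : Subgroup G) (hX : X ∈ Cfsg.charPSubgroups p G) (hMX : M ≤ X) :
    X ≤ M ⊔ Subgroup.centralizer ((Cfsg.largestPReducedOf p M : Subgroup G) : Set G) := by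
  obtain ⟨X', hXX', hmax⟩ := Finite.exists_le_maximal
    (p := fun L : Subgroup G => L ∈ Cfsg.charPSubgroups p G) (a := X) hX
  have hX'max : X' ∈ Cfsg.maxCharPSubgroups p G :=
    ⟨hmax.prop, fun L hL hle => le_antisymm (hmax.le_of_ge hL hle) hle⟩
  have h := hM.2.2.1 X' hX'max (hMX.trans hXX')
  rw [← h]; exact hXX'

/-- for `M ∈ 𝔐_G(S)` (with a large subgroup `Q ≤ S`): the normalizer of a nontrivial normal
`p`-subgroup of `M` lies in `M†` -/
theorem frakM_normalizer_le_dagger [Finite G] {p : ℕ} [Fact p.Prime] {Q : Subgroup G}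
    (hL : Cfsg.IsLarge Q) (hQp : IsPGroup p Q) (S : Sylow p G) (hQS : Q ≤ (S : Subgroup G))
    (M : Subgroup G) (hSM : (S : Subgroup G) ≤ M) (hM : Cfsg.IsInFrakM p M)
    (I : Subgroup G) (hI1 : I ≠ ⊥) (hIp : IsPGroup p I)
    (hMI : M ≤ Subgroup.normalizer (I : Set G)) :
    Subgroup.normalizer (I : Set G) ≤
      M ⊔ Subgroup.centralizer ((Cfsg.largestPReducedOf p M : Subgroup G) : Set G) := by
  apply frakM_le_dagger M hM _ _ hMI
  apply large_mem_charP hL hQp S hQS _ (hSM.trans hMI)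
  have h1 : I ≤ Cfsg.pCoreOf p (Subgroup.normalizer (I : Set G)) :=
    le_pCoreOf _ I Subgroup.le_normalizer le_rfl hIp
  intro h
  apply hI1
  rw [eq_bot_iff, ← h]
  exact h1

end Cfsg.Agent.Lib.Helper56
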