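import Cfsg.Prelude.Def_LocalStructure
import Cfsg.Agent.Lib.Helper56.Dagger
import Cfsg.Agent.Lib.Helper56.Burn
import Mathlib

set_option autoImplicit false
open Cfsg
open scoped Pointwise commutatorElement

namespace Cfsg.Agent.Lib.Helper56

variable {G : Type*} [Group G]

/-! ### `O^p(X)` in ambient form -/

/-- `O^p(X)` as a subgroup of the ambient group -/
abbrev opOf (p : ℕ) (X : Subgroup G) : Subgroup G := (Cfsg.pResidual p ↥X).map X.subtype

theorem opOf_le (p : ℕ) (X : Subgroup G) : opOf p X ≤ X := Subgroup.map_subtype_le _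

theorem mem_opOf {p : ℕ} {X : Subgroup G} {x : G} (hx : x ∈ X) (hc : (orderOf x).Coprime p) :
    x ∈ opOf p X := Cfsg.Agent.Lib.Helper55.mem_map_subtype_pResidual hx hc

theorem opOf_le_iff {p : ℕ} {X N : Subgroup G} :
    opOf p X ≤ N ↔ ∀ x ∈ X, (orderOf x).Coprime p → x ∈ N :=
  Cfsg.Agent.Lib.Helper55.map_subtype_pResidual_le_iff

theorem opOf_le_of_pow {p : ℕ} {X N : Subgroup G}
    (h : ∀ x ∈ X, ∃ k : ℕ, x ^ p ^ k ∈ N) : opOf p X ≤ N := by
  rw [opOf_le_iff]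
  intro x hx hc
  obtain ⟨k, hk⟩ := h x hx
  exact Cfsg.Agent.Lib.Helper55.mem_of_pow_mem_of_coprime hc hk

theorem opOf_mono {p : ℕ} {X X' : Subgroup G} (h : X ≤ X') : opOf p X ≤ opOf p X' :=
  Cfsg.Agent.Lib.Helper55.map_subtype_pResidual_mono h

theorem normalizer_le_normalizer_opOf (p : ℕ) (X : Subgroup G) :
    Subgroup.normalizer (X : Set G) ≤ Subgroup.normalizer ((opOf p X : Subgroup G) : Set G) := by
  apply Cfsg.Agent.Lib.Helper55.le_normalizer_of_conj_mem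
  intro n hn y hy
  have h1 : opOf p X ≤ (opOf p X).comap (MulAut.conj n).toMonoidHom := by
    rw [opOf_le_iff]
    intro x hx hc
    rw [Subgroup.mem_comap]
    show n * x * n⁻¹ ∈ opOf p X
    apply mem_opOf ((Subgroup.mem_normalizer_iff.mp hn x).mp hx)
    rw [Cfsg.Agent.Lib.Helper55.orderOf_conj_eq]
    exact hc
  exact h1 hy

theorem exists_pow_mem_opOf [Finite G] {p : ℕ} [Fact p.Prime] {X : Subgroup G} {x : G}
    (hx : x ∈ X) : ∃ k : ℕ, x ^ p ^ k ∈ opOf p X := by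
  obtain ⟨k, hk⟩ := Cfsg.Agent.Lib.Helper55.exists_pow_mem_pResidual (p := p) (⟨x, hx⟩ : X)
  exact ⟨k, ⟨_, hk, rfl⟩⟩

theorem opOf_opOf (p : ℕ) (X : Subgroup G) : opOf p (opOf p X) = opOf p X := by
  apply le_antisymm (opOf_le p _)
  rw [opOf_le_iff]
  intro x hx hc
  exact mem_opOf (mem_opOf hx hc) hc

/-- a `p'`-element of `N Q` (`Q` a `p`-group normalizing `N`) lies in `N` -/
theorem mem_of_mem_sup_of_coprime {p : ℕ} (N Qp : Subgroup G) (hQp : IsPGroup p Qp)
    (hQN : Qp ≤ Subgroup.normalizer (N : Set G)) {y : G} (hy : y ∈ N ⊔ Qp)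
    (hc : (orderOf y).Coprime p) : y ∈ N := by
  have h2 : y ∈ ((N ⊔ Qp : Subgroup G) : Set G) := hy
  rw [Subgroup.coe_mul_of_right_le_normalizer_left _ _ hQN] at h2
  obtain ⟨n, hn, q, hq, rfl⟩ := Set.mem_mul.mp h2
  obtain ⟨k, hk⟩ := hQp ⟨q, hq⟩
  have hk' : q ^ p ^ k = 1 := by simpa using congrArg Subtype.val hk
  have hc' : q⁻¹ * n * q ∈ N := by
    have := (Subgroup.mem_normalizer_iff.mp (Subgroup.inv_mem _ (hQN hq)) n).mp hn
    simpa using this
  obtain ⟨c', hc'N, e⟩ := Cfsg.Agent.Lib.Helper55.pow_mul_mem_normalizer (hQN hq) hc' (p ^ k)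
  have e2 : q * (q⁻¹ * n * q) = n * q := by group
  rw [e2, hk', one_mul] at e
  apply Cfsg.Agent.Lib.Helper55.mem_of_pow_mem_of_coprime hc (k := k)
  rw [e]; exact hc'N

/-- if `X ≤ N Q` with `Q` a `p`-group normalizing `N`, then `O^p(X) ≤ N` -/
theorem opOf_le_of_le_sup {p : ℕ} (N Qp X : Subgroup G) (hQp : IsPGroup p Qp)
    (hQN : Qp ≤ Subgroup.normalizer (N : Set G)) (hX : X ≤ N ⊔ Qp) : opOf p X ≤ N := by
  rw [opOf_le_iff]
  intro x hx hc
  exact mem_of_mem_sup_of_coprime N Qp hQp hQN (hX hx) hc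

/-! ### commutators of relatively normal subgroups -/

theorem commutator_le_of_le_normalizer (A X : Subgroup G)
    (h : X ≤ Subgroup.normalizer (A : Set G)) : ⁅A, X⁆ ≤ A := by
  rw [Subgroup.commutator_le]
  intro a ha x hx
  have h1 : x * a⁻¹ * x⁻¹ ∈ A := (Subgroup.mem_normalizer_iff.mp (h hx) _).mp (A.inv_mem ha)
  have e : ⁅a, x⁆ = a * (x * a⁻¹ * x⁻¹) := by
    simp only [commutatorElement_def]; group
  rw [e]; exact A.mul_mem ha h1

theorem commutator_le_of_le_normalizer' (A X : Subgroup G)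
    (h : X ≤ Subgroup.normalizer (A : Set G)) : ⁅X, A⁆ ≤ A := by
  rw [Subgroup.commutator_comm]; exact commutator_le_of_le_normalizer A X h

theorem le_normalizer_commutator_left (A B : Subgroup G) :
    A ≤ Subgroup.normalizer ((⁅A, B⁆ : Subgroup G) : Set G) := by
  apply Cfsg.Agent.Lib.Helper55.le_normalizer_of_conj_mem
  intro a' ha' y hy
  have h1 : ⁅A, B⁆ ≤ (⁅A, B⁆).comap (MulAut.conj a').toMonoidHom := by
    rw [Subgroup.commutator_le]
    intro a ha b hb
    rw [Subgroup.mem_comap]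
    show a' * ⁅a, b⁆ * a'⁻¹ ∈ ⁅A, B⁆
    have e : a' * ⁅a, b⁆ * a'⁻¹ = ⁅a' * a, b⁆ * (⁅a', b⁆)⁻¹ := by
      simp only [commutatorElement_def]; group
    rw [e]
    exact Subgroup.mul_mem _ (Subgroup.commutator_mem_commutator (A.mul_mem ha' ha) hb)
      (Subgroup.inv_mem _ (Subgroup.commutator_mem_commutator ha' hb))
  exact h1 hy

theorem le_normalizer_commutator_right (A B : Subgroup G) :
    B ≤ Subgroup.normalizer ((⁅A, B⁆ : Subgroup G) : Set G) := by
  rw [Subgroup.commutator_comm]; exact le_normalizer_commutator_left B A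

/-! ### weak closures -/

theorem conj_le_weakClosure (Q X : Subgroup G) (g : G)
    (h : Q.map (MulAut.conj g).toMonoidHom ≤ X) :
    Q.map (MulAut.conj g).toMonoidHom ≤ Cfsg.weakClosure Q X :=
  le_iSup (fun g : {g : G // Q.map (MulAut.conj g).toMonoidHom ≤ X} =>
    Q.map (MulAut.conj (g : G)).toMonoidHom) ⟨g, h⟩

theorem le_weakClosure (Q X : Subgroup G) (h : Q ≤ X) : Q ≤ Cfsg.weakClosure Q X := by
  have h1 := conj_le_weakClosure Q X 1 (by rw [conj_one_map]; exact h)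
  rwa [conj_one_map] at h1

theorem weakClosure_le_iff (Q X Y : Subgroup G) :
    Cfsg.weakClosure Q X ≤ Y ↔
      ∀ g : G, Q.map (MulAut.conj g).toMonoidHom ≤ X → Q.map (MulAut.conj g).toMonoidHom ≤ Y := by
  unfold Cfsg.weakClosure
  rw [iSup_le_iff]
  exact ⟨fun h g hg => h ⟨g, hg⟩, fun h g => h g.1 g.2⟩

theorem weakClosure_le (Q X : Subgroup G) : Cfsg.weakClosure Q X ≤ X :=
  (weakClosure_le_iff Q X X).mpr (fun _ h => h)

theorem le_normalizer_weakClosure (Q X : Subgroup G) :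
    X ≤ Subgroup.normalizer ((Cfsg.weakClosure Q X : Subgroup G) : Set G) := by
  apply Cfsg.Agent.Lib.Helper55.le_normalizer_of_conj_mem
  intro x hx y hy
  have h1 : Cfsg.weakClosure Q X ≤ (Cfsg.weakClosure Q X).comap (MulAut.conj x).toMonoidHom := by
    rw [weakClosure_le_iff]
    intro g hg
    rw [← Subgroup.map_le_iff_le_comap, conj_map_map]
    apply conj_le_weakClosure
    rw [← conj_map_map]
    rintro _ ⟨u, hu, rfl⟩
    exact X.mul_mem (X.mul_mem hx (hg hu)) (X.inv_mem hx)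
  exact h1 hy

/-- for a weakly closed `Q ≤ X`: the weak closure of `Q` in `X` is generated by the
`X`-conjugates of `Q` -/
theorem weakClosure_le_of_conj [Finite G] {p : ℕ} [Fact p.Prime] {Q : Subgroup G}
    (hwc : Cfsg.IsWeaklyClosedSubgroup p Q) (X : Subgroup G) (hQX : Q ≤ X) (Y : Subgroup G)
    (h : ∀ x ∈ X, Q.map (MulAut.conj x).toMonoidHom ≤ Y) : Cfsg.weakClosure Q X ≤ Y := by
  rw [weakClosure_le_iff]
  intro g hg
  obtain ⟨k, hk, e⟩ := wc_subgroup_conj hwc X hQX g hg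
  rw [e]; exact h k hk

/-- for a weakly closed `Q ≤ X`: the weak closure `W` of `Q` in `X` is generated by the
`W`-conjugates of `Q` -/
theorem weakClosure_le_of_conj' [Finite G] {p : ℕ} [Fact p.Prime] {Q : Subgroup G}
    (hwc : Cfsg.IsWeaklyClosedSubgroup p Q) (X : Subgroup G) (hQX : Q ≤ X) (Y : Subgroup G)
    (h : ∀ w ∈ Cfsg.weakClosure Q X, Q.map (MulAut.conj w).toMonoidHom ≤ Y) :
    Cfsg.weakClosure Q X ≤ Y := by
  rw [weakClosure_le_iff]
  intro g hg
  obtain ⟨k, hk, e⟩ := wc_subgroup_conj hwc (Cfsg.weakClosure Q X) (le_weakClosure Q X hQX) g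
    (conj_le_weakClosure Q X g hg)
  rw [e]; exact h k hk

/-- a Sylow `p`-subgroup of `W` containing the `p`-subgroup `Q ≤ W`, in ambient form -/
theorem exists_sylIn_ge [Finite G] {p : ℕ} [Fact p.Prime] (Q W : Subgroup G)
    (hQp : IsPGroup p Q) (hQW : Q ≤ W) :
    ∃ T : Subgroup G, Cfsg.Agent.Lib.Helper55.SylIn p T W ∧ Q ≤ T := by
  have hQ' : IsPGroup p (Q.subgroupOf W) := hQp.comap_of_injective W.subtype W.subtype_injective
  obtain ⟨T, hT⟩ := hQ'.exists_le_sylow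
  refine ⟨(T : Subgroup ↥W).map W.subtype, Cfsg.Agent.Lib.Helper55.sylIn_map_sylow T, ?_⟩
  intro q hq
  exact Subgroup.mem_map.mpr ⟨⟨q, hQW hq⟩, hT (Subgroup.mem_subgroupOf.mpr hq), rfl⟩

end Cfsg.Agent.Lib.Helper56
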