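import Cfsg.Prelude.Def_LocalStructure
import Cfsg.Agent.Lib.Helper56.WcRes
import Cfsg.Agent.Lib.Helper56.AxB
import Mathlib

set_option autoImplicit false
open Cfsg
open scoped Pointwise commutatorElement

namespace Cfsg.Agent.Lib.Helper56

variable {G : Type*} [Group G]

/-! ### copies of general lemmas -/

theorem coatom_comap_surj {G Q : Type*} [Group G] [Group Q] (f : G →* Q)
    (hf : Function.Surjective f) (X : Subgroup Q) (hX : IsCoatom X) : IsCoatom (X.comap f) := by
  refine ⟨?_, ?_⟩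
  · intro htop
    have := Subgroup.map_comap_eq_self_of_surjective hf X
    rw [htop, Subgroup.map_top_of_surjective f hf] at this
    exact hX.1 this.symm
  · intro Z hZ
    have hk : f.ker ≤ Z := (Subgroup.ker_le_comap f X).trans hZ.le
    have hcm : (Z.map f).comap f = Z := by
      rw [Subgroup.comap_map_eq, sup_eq_left.mpr hk]
    rw [← hcm] at hZ
    have h1 : X < Z.map f := (Subgroup.comap_lt_comap_of_surjective hf).mp hZ
    have h2 := hX.2 _ h1
    rw [← hcm, h2, Subgroup.comap_top]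

theorem index_eq_relIndex_of_sup {L : Type*} [Group L] [Finite L] (N K : Subgroup L) [N.Normal]
    (h : K ⊔ N = ⊤) : K.index = K.relIndex N := by
  have e1 : N.relIndex (K ⊔ N) = N.relIndex K := Subgroup.relIndex_sup_right K N
  rw [h, Subgroup.relIndex_top_right] at e1
  have e2 : (K ⊓ N).relIndex K * K.index = (K ⊓ N).index := Subgroup.relIndex_mul_index inf_le_left
  have e3 : (K ⊓ N).relIndex N * N.index = (K ⊓ N).index := Subgroup.relIndex_mul_index inf_le_right
  rw [Subgroup.inf_relIndex_left] at e2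
  rw [Subgroup.inf_relIndex_right] at e3
  rw [← e1] at e2
  have hN0 : N.index ≠ 0 := Subgroup.index_ne_zero_of_finite
  have : N.index * K.index = N.index * K.relIndex N := by rw [e2, ← e3, mul_comm]
  exact Nat.eq_of_mul_eq_mul_left (Nat.pos_of_ne_zero hN0) this

/-- if `L = K N` with `N` normal and every `p`-subgroup of `N` lies in `K`, then `K` contains a
conjugate of each Sylow `p`-subgroup of `L` -/
theorem exists_conj_le_of_sup_top {L : Type*} [Group L] [Finite L] {p : ℕ} [Fact p.Prime]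
    (N K : Subgroup L) [N.Normal] (h : K ⊔ N = ⊤)
    (hN : ∀ X : Subgroup L, X ≤ N → IsPGroup p X → X ≤ K) (P : Sylow p L) :
    ∃ g : L, ∀ t ∈ (P : Subgroup L), g⁻¹ * t * g ∈ K := by
  have hidx : ¬ p ∣ K.index := by
    rw [index_eq_relIndex_of_sup N K h]
    obtain ⟨P'⟩ : Nonempty (Sylow p ↥N) := inferInstance
    have hle : (P' : Subgroup ↥N) ≤ K.subgroupOf N := by
      intro x hx
      rw [Subgroup.mem_subgroupOf]
      exact hN ((P' : Subgroup ↥N).map N.subtype) (Subgroup.map_subtype_le _) (P'.2.map _)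
        ⟨x, hx, rfl⟩
    intro hdvd
    exact P'.not_dvd_index (dvd_trans hdvd (Subgroup.index_dvd_of_le hle))
  obtain ⟨q, hq⟩ := IsPGroup.nonempty_fixed_point_of_prime_not_dvd_card P.2 (L ⧸ K)
    (by rw [← Subgroup.index_eq_card]; exact hidx)
  obtain ⟨g, rfl⟩ := QuotientGroup.mk_surjective q
  refine ⟨g, fun t ht => ?_⟩
  have h1 := hq ⟨t, ht⟩
  have h2 : ((t * g : L) : L ⧸ K) = (g : L ⧸ K) := h1
  rw [QuotientGroup.eq] at h2
  have := K.inv_mem h2
  simpa [mul_assoc] using this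

/-! ### `Y_X`: monotonicity and nontriviality -/

theorem charP_of_mem {p : ℕ} {X : Subgroup G} (hX : X ∈ Cfsg.charPSubgroups p G) :
    X ⊓ Subgroup.centralizer ((Cfsg.pCoreOf p X : Subgroup G) : Set G) ≤ Cfsg.pCoreOf p X :=
  inf_le_right.trans hX.2

theorem pCoreOf_ne_bot_of_mem {p : ℕ} {X : Subgroup G} (hX : X ∈ Cfsg.charPSubgroups p G) :
    Cfsg.pCoreOf p X ≠ ⊥ := pCoreOf_ne_bot' X hX.1

/-- monotonicity of `Y` on overgroups of a Sylow subgroup -/
theorem largest_mono [Finite G] {p : ℕ} [Fact p.Prime] (S : Sylow p G) {A B : Subgroup G}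
    (hSA : (S : Subgroup G) ≤ A) (hAB : A ≤ B)
    (hB : B ⊓ Subgroup.centralizer ((Cfsg.pCoreOf p B : Subgroup G) : Set G) ≤ Cfsg.pCoreOf p B) :
    Cfsg.largestPReducedOf p A ≤ Cfsg.largestPReducedOf p B := by
  obtain ⟨V, hXV, hLV, hmin⟩ :=
    Cfsg.Agent.Lib.Helper55.exists_invariant_closure (Cfsg.largestPReducedOf p A) B
  have h := Cfsg.Agent.Lib.Helper55.pred_closure hB
    (Cfsg.Agent.Lib.Helper55.sylIn_of_sylow S (hSA.trans hAB)) hSA hAB
    (Cfsg.Agent.Lib.Helper55.pred_largestPReducedOf A) hXV hLV hmin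
  exact hXV.trans h.le_largest

/-- `Y_X ≠ 1` for `X ∈ 𝓛` containing a Sylow subgroup -/
theorem largest_ne_bot [Finite G] {p : ℕ} [hp : Fact p.Prime] (S : Sylow p G) {X : Subgroup G}
    (hSX : (S : Subgroup G) ≤ X) (hX : X ∈ Cfsg.charPSubgroups p G) :
    Cfsg.largestPReducedOf p X ≠ ⊥ := by
  have hchar := charP_of_mem hX
  have h1 := (Cfsg.Agent.Lib.Helper55.pred_sylowCenterClosure hchar).le_largest
  have h2 := Cfsg.Agent.Lib.Helper55.zOf_le_sylowCenterClosure
    (Cfsg.Agent.Lib.Helper55.sylIn_of_sylow S hSX)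
  have hS1 : (S : Subgroup G) ≠ ⊥ := by
    intro h
    apply pCoreOf_ne_bot_of_mem hX
    rw [eq_bot_iff, ← h]
    exact Cfsg.Agent.Lib.Helper55.pCoreOf_le_sylow S hSX
  have hZ1 := center_ne_bot_of_pgroup (S : Subgroup G) S.2 hS1
  set Z := (S : Subgroup G) ⊓ Subgroup.centralizer ((S : Subgroup G) : Set G) with hZ
  have hZp : IsPGroup p Z := S.2.to_le inf_le_left
  have hnt : Nontrivial Z := (Subgroup.nontrivial_iff_ne_bot Z).mpr hZ1
  obtain ⟨n, hn⟩ := IsPGroup.iff_card.mp hZp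
  have hn0 : n ≠ 0 := by
    intro h0
    rw [h0, pow_zero] at hn
    have := Finite.one_lt_card (α := Z)
    omega
  have hdvd : p ∣ Nat.card Z := by rw [hn]; exact dvd_pow_self p hn0
  obtain ⟨x, hx⟩ := exists_prime_orderOf_dvd_card' p hdvd
  have hx1 : (x : G) ≠ 1 := by
    intro h
    have : x = 1 := Subtype.ext h
    rw [this, orderOf_one] at hx
    exact hp.out.one_lt.ne hx
  have hxp : (x : G) ^ p = 1 := by
    have := pow_orderOf_eq_one x
    rw [hx] at this
    exact_mod_cast congrArg Subtype.val this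
  have hmem : (x : G) ∈ Cfsg.largestPReducedOf p X :=
    h1 (h2 (Cfsg.Agent.Lib.Helper55.mem_omegaOne x.2 hxp))
  intro hbot
  rw [hbot, Subgroup.mem_bot] at hmem
  exact hx1 hmem

/-- a normal `p`-subgroup of the bigger group lies in `O_p` of every subgroup over a Sylow
subgroup -/
theorem pCoreOf_le_pCoreOf_of_sylow [Finite G] {p : ℕ} [Fact p.Prime] (S : Sylow p G)
    {A B : Subgroup G} (hSA : (S : Subgroup G) ≤ A) (hAB : A ≤ B) :
    Cfsg.pCoreOf p B ≤ Cfsg.pCoreOf p A :=
  le_pCoreOf A _ ((Cfsg.Agent.Lib.Helper55.pCoreOf_le_sylow S (hSA.trans hAB)).trans hSA)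
    (hAB.trans (le_normalizer_pCoreOf p B)) (pCoreOf_isPGroup p B)

end Cfsg.Agent.Lib.Helper56
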