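import Cfsg.Prelude.Def_LocalStructure
import Cfsg.Agent.Lib.Helper56.BasicProp
import Mathlib

set_option autoImplicit false
open Cfsg
open scoped Pointwise commutatorElement

namespace Cfsg.Agent.Lib.Helper56

variable {G : Type*} [Group G]

/-- the normalizer of `Y_{X₀}` for `X₀ ∈ 𝓛(L)` with `|Y_{X₀}|` maximal -/
theorem step_Mt [Finite G] {p : ℕ} [Fact p.Prime] (S : Sylow p G)
    (h𝓗 : ∀ X : Subgroup G, (S : Subgroup G) ≤ X → Cfsg.pCoreOf p X ≠ ⊥ →
      X ∈ Cfsg.charPSubgroups p G)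
    (L X₀ : Subgroup G) (hSL : (S : Subgroup G) ≤ L)
    (hX₀ : X₀ ∈ Cfsg.charPSubgroups p G) (hLX₀ : L ≤ X₀)
    (hmax : ∀ X ∈ Cfsg.charPSubgroups p G, L ≤ X →
      Nat.card (Cfsg.largestPReducedOf p X) ≤ Nat.card (Cfsg.largestPReducedOf p X₀)) :
    Subgroup.normalizer ((Cfsg.largestPReducedOf p X₀ : Subgroup G) : Set G) ∈
        Cfsg.charPSubgroups p G ∧
      Cfsg.largestPReducedOf p
        (Subgroup.normalizer ((Cfsg.largestPReducedOf p X₀ : Subgroup G) : Set G)) =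
        Cfsg.largestPReducedOf p X₀ ∧
      ∀ X ∈ Cfsg.charPSubgroups p G, L ≤ X →
        Cfsg.largestPReducedOf p X₀ ≤ Cfsg.largestPReducedOf p X →
        X ≤ Subgroup.normalizer ((Cfsg.largestPReducedOf p X₀ : Subgroup G) : Set G) := by
  set Y₀ := Cfsg.largestPReducedOf p X₀ with hY₀
  have hSX₀ : (S : Subgroup G) ≤ X₀ := hSL.trans hLX₀
  have hX₀Mt : X₀ ≤ Subgroup.normalizer (Y₀ : Set G) := le_normalizer_largestPReducedOf p X₀
  have hY₀ne : Y₀ ≠ ⊥ := largest_ne_bot S hSX₀ hX₀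
  have hY₀p : IsPGroup p Y₀ := (Cfsg.Agent.Lib.Helper55.pred_largestPReducedOf X₀).isPGroup
  have hcore : Y₀ ≤ Cfsg.pCoreOf p (Subgroup.normalizer (Y₀ : Set G)) :=
    le_pCoreOf _ Y₀ Subgroup.le_normalizer le_rfl hY₀p
  have hMt : Subgroup.normalizer (Y₀ : Set G) ∈ Cfsg.charPSubgroups p G :=
    h𝓗 _ (hSX₀.trans hX₀Mt) (fun h => hY₀ne (by rw [eq_bot_iff, ← h]; exact hcore))
  have hle : Y₀ ≤ Cfsg.largestPReducedOf p (Subgroup.normalizer (Y₀ : Set G)) :=
    largest_mono S hSX₀ hX₀Mt (charP_of_mem hMt)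
  have hcard := hmax _ hMt (hLX₀.trans hX₀Mt)
  refine ⟨hMt, (Subgroup.eq_of_le_of_card_ge hle hcard).symm, ?_⟩
  intro X hX hLX hYX
  have h1 : Y₀ = Cfsg.largestPReducedOf p X := Subgroup.eq_of_le_of_card_ge hYX (hmax X hX hLX)
  rw [h1]
  exact le_normalizer_largestPReducedOf p X

/-- a minimal `M` with `S ≤ M ≤ M̃`, `M C_G(Y) = M̃` has the basic property as soon as `M̃` is the
only maximal member of `𝓛` over `M` -/
theorem frakM_of_min [Finite G] {p : ℕ} [Fact p.Prime] (S : Sylow p G)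
    (h𝓗 : ∀ X : Subgroup G, (S : Subgroup G) ≤ X → Cfsg.pCoreOf p X ≠ ⊥ →
      X ∈ Cfsg.charPSubgroups p G)
    (Mt : Subgroup G) (hSMt : (S : Subgroup G) ≤ Mt) (hMt : Mt ∈ Cfsg.charPSubgroups p G)
    (hCMt : Subgroup.centralizer ((Cfsg.largestPReducedOf p Mt : Subgroup G) : Set G) ≤ Mt)
    (hMtmax : ∀ X ∈ Cfsg.charPSubgroups p G, Mt ≤ X → X = Mt)
    (M : Subgroup G)
    (hM : Minimal (fun M' : Subgroup G => (S : Subgroup G) ≤ M' ∧ M' ≤ Mt ∧
      M' ⊔ Subgroup.centralizer ((Cfsg.largestPReducedOf p Mt : Subgroup G) : Set G) = Mt) M) :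
    M ∈ Cfsg.charPSubgroups p G ∧
      Cfsg.largestPReducedOf p M = Cfsg.largestPReducedOf p Mt ∧
      ((∀ X ∈ Cfsg.charPSubgroups p G, M ≤ X → X ≤ Mt) → Cfsg.IsInFrakM p M) := by
  obtain ⟨hSM, hMMt, hMC⟩ := hM.prop
  set Y := Cfsg.largestPReducedOf p Mt with hY
  have hM𝓛 : M ∈ Cfsg.charPSubgroups p G :=
    h𝓗 M hSM (fun h => pCoreOf_ne_bot_of_mem hMt
      (by rw [eq_bot_iff, ← h]; exact pCoreOf_le_pCoreOf_of_sylow S hSM hMMt))
  have hYpred : Cfsg.Agent.Lib.Helper55.PRed p Mt Y :=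
    Cfsg.Agent.Lib.Helper55.pred_largestPReducedOf Mt
  have hYM : Y ≤ M :=
    hYpred.le_pCoreOf.trans ((Cfsg.Agent.Lib.Helper55.pCoreOf_le_sylow S hSMt).trans hSM)
  have hpredM : Cfsg.Agent.Lib.Helper55.PRed p M Y :=
    Cfsg.Agent.Lib.Helper55.PRed.of_sup_eq hYpred hYM (hMC.trans (sup_eq_left.mpr hCMt).symm)
  have hYMeq : Cfsg.largestPReducedOf p M = Y :=
    le_antisymm (largest_mono S hSM hMMt (charP_of_mem hMt)) hpredM.le_largest
  refine ⟨hM𝓛, hYMeq, fun huniq => ?_⟩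
  -- common facts
  have hMtNY : Mt ≤ Subgroup.normalizer (Y : Set G) := le_normalizer_largestPReducedOf p Mt
  have hMNC : M ≤ Subgroup.normalizer
      ((Subgroup.centralizer (Y : Set G) : Subgroup G) : Set G) :=
    hMMt.trans (hMtNY.trans (normalizer_le_normalizer_centralizer _))
  have hMCM : M ≤ Subgroup.normalizer
      ((M ⊓ Subgroup.centralizer (Y : Set G) : Subgroup G) : Set G) :=
    le_trans (le_inf Subgroup.le_normalizer hMNC) (normalizer_inf_le _ _)
  have hSylM : Cfsg.Agent.Lib.Helper55.SylIn p (S : Subgroup G) M :=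
    Cfsg.Agent.Lib.Helper55.sylIn_of_sylow S hSM
  have hTC := hSylM.inf_normalized inf_le_left hMCM
  have hfr := hTC.frattini inf_le_left hMCM
  have hSNTC : (S : Subgroup G) ≤ Subgroup.normalizer
      (((M ⊓ Subgroup.centralizer (Y : Set G)) ⊓ (S : Subgroup G) : Subgroup G) : Set G) :=
    le_trans (le_inf (hSM.trans hMCM) Subgroup.le_normalizer) (normalizer_inf_le _ _)
  have hMNTC : M ≤ Subgroup.normalizer
      (((M ⊓ Subgroup.centralizer (Y : Set G)) ⊓ (S : Subgroup G) : Subgroup G) : Set G) := by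
    have hP' : (S : Subgroup G) ≤ M ⊓ Subgroup.normalizer
        (((M ⊓ Subgroup.centralizer (Y : Set G)) ⊓ (S : Subgroup G) : Subgroup G) : Set G) ∧
        M ⊓ Subgroup.normalizer
        (((M ⊓ Subgroup.centralizer (Y : Set G)) ⊓ (S : Subgroup G) : Subgroup G) : Set G) ≤ Mt ∧
        (M ⊓ Subgroup.normalizer
        (((M ⊓ Subgroup.centralizer (Y : Set G)) ⊓ (S : Subgroup G) : Subgroup G) : Set G)) ⊔
          Subgroup.centralizer (Y : Set G) = Mt := by
      refine ⟨le_inf hSM hSNTC, inf_le_left.trans hMMt, ?_⟩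
      apply le_antisymm (sup_le (inf_le_left.trans hMMt) hCMt)
      rw [← hMC]
      refine sup_le ?_ le_sup_right
      intro g hg
      obtain ⟨a, ha, n, hn, rfl⟩ := hfr g hg
      exact Subgroup.mul_mem _ (Subgroup.mem_sup_left ha)
        (Subgroup.mem_sup_right (Subgroup.mem_inf.mp hn).2)
    exact (hM.le_of_le hP' inf_le_left).trans inf_le_right
  have hTCcore : (M ⊓ Subgroup.centralizer (Y : Set G)) ⊓ (S : Subgroup G) ≤ Cfsg.pCoreOf p M :=
    le_pCoreOf M _ (inf_le_left.trans inf_le_left) hMNTC (S.2.to_le inf_le_right)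
  unfold Cfsg.IsInFrakM
  rw [hYMeq, hMC]
  refine ⟨hM𝓛, ⟨hMt, fun X hX hle => hMtmax X hX hle⟩, ?_, rfl, ?_, ?_⟩
  · intro X hX hMX
    exact (hX.2 Mt hMt (huniq X hX.1 hMX)).symm
  · rw [Cfsg.Agent.Lib.Helper55.isPClosed_subgroup_iff]
    exact hTC.pClos (inf_le_left.trans hMNTC)
  · simp_rw [frattini, Order.radical, le_iInf_iff]
    intro Xb hXb
    rw [Subgroup.map_le_iff_le_comap]
    have hX' : IsCoatom (Xb.comap (QuotientGroup.mk' (Cfsg.pCore p ↥M))) :=
      coatom_comap_surj _ (QuotientGroup.mk'_surjective _) Xb hXb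
    have hcoreX' : Cfsg.pCore p ↥M ≤ Xb.comap (QuotientGroup.mk' (Cfsg.pCore p ↥M)) := by
      intro x hx
      rw [Subgroup.mem_comap]
      have : (QuotientGroup.mk' (Cfsg.pCore p ↥M)) x = 1 := (QuotientGroup.eq_one_iff x).mpr hx
      rw [this]; exact Subgroup.one_mem _
    by_contra hnot
    haveI hK'n : ((M ⊓ Subgroup.centralizer (Y : Set G)).subgroupOf M).Normal :=
      (Subgroup.normal_subgroupOf_iff_le_normalizer inf_le_left).mpr hMCM
    have hsup : Xb.comap (QuotientGroup.mk' (Cfsg.pCore p ↥M)) ⊔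
        (M ⊓ Subgroup.centralizer (Y : Set G)).subgroupOf M = ⊤ :=
      hX'.2 _ (left_lt_sup.mpr hnot)
    have hNp : ∀ Z : Subgroup ↥M, Z ≤ (M ⊓ Subgroup.centralizer (Y : Set G)).subgroupOf M →
        IsPGroup p Z → Z ≤ Xb.comap (QuotientGroup.mk' (Cfsg.pCore p ↥M)) := by
      intro Z hZK hZp z hz
      apply hcoreX'
      have hZ₀CM : Z.map M.subtype ≤ M ⊓ Subgroup.centralizer (Y : Set G) := by
        rintro _ ⟨z', hz', rfl⟩
        exact Subgroup.mem_subgroupOf.mp (hZK hz')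
      have hpg : IsPGroup p ((((M ⊓ Subgroup.centralizer (Y : Set G)) ⊓ (S : Subgroup G)) ⊔
          Z.map M.subtype : Subgroup G)) :=
        IsPGroup.to_sup_of_normal_left' hTC.isPGroup (hZp.map _)
          (hZ₀CM.trans (inf_le_left.trans hMNTC))
      have h1 := hTC.le_of_le le_sup_left (sup_le hTC.le hZ₀CM) hpg
      have h2 : (z : G) ∈ Cfsg.pCoreOf p M :=
        hTCcore (h1 (Subgroup.mem_sup_right ⟨z, hz, rfl⟩))
      obtain ⟨_, h3⟩ := (mem_pCoreOf_iff p M (z : G)).mp h2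
      exact h3
    obtain ⟨g, hg⟩ := exists_conj_le_of_sup_top _ _ hsup hNp hSylM.toSylow
    -- the conjugate of the coatom
    set X' := Xb.comap (QuotientGroup.mk' (Cfsg.pCore p ↥M)) with hX'def
    have hP'' : (S : Subgroup G) ≤ (X'.map M.subtype).map (MulAut.conj (g : G)).toMonoidHom ∧
        (X'.map M.subtype).map (MulAut.conj (g : G)).toMonoidHom ≤ Mt ∧
        (X'.map M.subtype).map (MulAut.conj (g : G)).toMonoidHom ⊔
          Subgroup.centralizer (Y : Set G) = Mt := by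
      have hle : (X'.map M.subtype).map (MulAut.conj (g : G)).toMonoidHom ≤ M := by
        intro y hy
        rw [mem_conj_iff] at hy
        have h1 : (g : G)⁻¹ * y * g ∈ M := Subgroup.map_subtype_le _ hy
        have e : y = (g : G) * ((g : G)⁻¹ * y * g) * (g : G)⁻¹ := by group
        rw [e]
        exact M.mul_mem (M.mul_mem g.2 h1) (M.inv_mem g.2)
      refine ⟨?_, hle.trans hMMt, ?_⟩
      · intro s hs
        rw [mem_conj_iff]
        have h1 : (⟨s, hSM hs⟩ : ↥M) ∈ (hSylM.toSylow : Subgroup ↥M) := by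
          rw [hSylM.coe_toSylow, Subgroup.mem_subgroupOf]
          exact hs
        exact ⟨_, hg _ h1, rfl⟩
      · apply le_antisymm (sup_le (hle.trans hMMt) hCMt)
        rw [← hMC]
        refine sup_le ?_ le_sup_right
        intro m hm
        have hm' : (g⁻¹ * ⟨m, hm⟩ * g : ↥M) ∈
            ((X' ⊔ (M ⊓ Subgroup.centralizer (Y : Set G)).subgroupOf M : Subgroup ↥M) : Set ↥M) := by
          rw [hsup]; trivial
        rw [Subgroup.mul_normal] at hm'
        obtain ⟨x, hx, k, hk, e⟩ := Set.mem_mul.mp hm'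
        have e2 : m = ((g : G) * (x : G) * (g : G)⁻¹) * ((g : G) * (k : G) * (g : G)⁻¹) := by
          have e3 : ((g⁻¹ * ⟨m, hm⟩ * g : ↥M) : G) = (x : G) * (k : G) := by
            rw [← e]; rfl
          have e4 : ((g⁻¹ * ⟨m, hm⟩ * g : ↥M) : G) = (g : G)⁻¹ * m * g := rfl
          rw [e4] at e3
          have : m = (g : G) * ((g : G)⁻¹ * m * g) * (g : G)⁻¹ := by group
          rw [this, e3]; group
        rw [e2]
        refine Subgroup.mul_mem _ (Subgroup.mem_sup_left ?_) (Subgroup.mem_sup_right ?_)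
        · exact conj_mem_conj _ (g : G) ⟨x, hx, rfl⟩
        · have hkC : (k : G) ∈ Subgroup.centralizer (Y : Set G) :=
            (Subgroup.mem_inf.mp (Subgroup.mem_subgroupOf.mp hk)).2
          exact (Subgroup.mem_normalizer_iff.mp (hMNC g.2) _).mp hkC
    have hMle : M ≤ (X'.map M.subtype).map (MulAut.conj (g : G)).toMonoidHom := by
      apply hM.le_of_le hP''
      intro y hy
      rw [mem_conj_iff] at hy
      have h1 : (g : G)⁻¹ * y * g ∈ M := Subgroup.map_subtype_le _ hy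
      have e : y = (g : G) * ((g : G)⁻¹ * y * g) * (g : G)⁻¹ := by group
      rw [e]
      exact M.mul_mem (M.mul_mem g.2 h1) (M.inv_mem g.2)
    apply hX'.1
    rw [eq_top_iff]
    intro x' _
    have h1 := hMle (g * x' * g⁻¹).2
    rw [mem_conj_iff] at h1
    obtain ⟨y, hy, hyx⟩ := h1
    have e : y = x' := by
      apply Subtype.ext
      rw [Subgroup.coe_subtype] at hyx
      rw [hyx]
      show (g : G)⁻¹ * ((g : G) * (x' : G) * (g : G)⁻¹) * (g : G) = (x' : G)
      group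
    rw [← e]; exact hy

end Cfsg.Agent.Lib.Helper56
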