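import Cfsg.Prelude.Def_LocalStructure
import Cfsg.Agent.Lib.Helper56.BasicProp2
import Mathlib

set_option autoImplicit false
open Cfsg
open scoped Pointwise commutatorElement

namespace Cfsg.Agent.Lib.Helper56

variable {G : Type*} [Group G]

/-- pushing `L ≤ M̃ = M C_G(Y_{M̃})` into `M` modulo `C_G(Y_{M̃})` -/
theorem step_L1 [Finite G] {p : ℕ} [Fact p.Prime] (S : Sylow p G)
    (h𝓗 : ∀ X : Subgroup G, (S : Subgroup G) ≤ X → Cfsg.pCoreOf p X ≠ ⊥ →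
      X ∈ Cfsg.charPSubgroups p G)
    (Mt M L : Subgroup G) (hMt : Mt ∈ Cfsg.charPSubgroups p G)
    (hSM : (S : Subgroup G) ≤ M) (hMMt : M ≤ Mt)
    (hMC : M ⊔ Subgroup.centralizer ((Cfsg.largestPReducedOf p Mt : Subgroup G) : Set G) = Mt)
    (hM : M ∈ Cfsg.charPSubgroups p G)
    (hSL : (S : Subgroup G) ≤ L) (hLMt : L ≤ Mt) :
    ∃ L₁ : Subgroup G, (S : Subgroup G) ≤ L₁ ∧ L₁ ≤ M ∧ L₁ ∈ Cfsg.charPSubgroups p G ∧
      Cfsg.largestPReducedOf p L = Cfsg.largestPReducedOf p L₁ ∧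
      Cfsg.largestPReducedOf p L₁ ≤ Cfsg.largestPReducedOf p M ∧
      L ⊔ Subgroup.centralizer ((Cfsg.largestPReducedOf p L : Subgroup G) : Set G) =
        L₁ ⊔ Subgroup.centralizer ((Cfsg.largestPReducedOf p L : Subgroup G) : Set G) := by
  set C := Subgroup.centralizer ((Cfsg.largestPReducedOf p Mt : Subgroup G) : Set G) with hC
  have hCMt : C ≤ Mt := by rw [← hMC]; exact le_sup_right
  have hLC : L ⊔ C ≤ Mt := sup_le hLMt hCMt
  have hMtNC : Mt ≤ Subgroup.normalizer (C : Set G) :=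
    (le_normalizer_largestPReducedOf p Mt).trans (normalizer_le_normalizer_centralizer _)
  have hded : ((L ⊔ C) ⊓ M) ⊔ C = L ⊔ C := by
    apply le_antisymm (sup_le inf_le_left le_sup_right)
    intro x hx
    have hx' : x ∈ ((M ⊔ C : Subgroup G) : Set G) := by rw [hMC]; exact hLC hx
    rw [Subgroup.coe_mul_of_left_le_normalizer_right M C (hMMt.trans hMtNC)] at hx'
    obtain ⟨m, hm, c, hc, rfl⟩ := Set.mem_mul.mp hx'
    have hm' : m ∈ L ⊔ C := by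
      have h1 := Subgroup.mul_mem _ hx (Subgroup.inv_mem _ (Subgroup.mem_sup_right (S := L) hc))
      simpa using h1
    exact Subgroup.mul_mem _ (Subgroup.mem_sup_left (Subgroup.mem_inf.mpr ⟨hm', hm⟩))
      (Subgroup.mem_sup_right hc)
  have hSLC : (S : Subgroup G) ≤ L ⊔ C := hSL.trans le_sup_left
  have hSL₁ : (S : Subgroup G) ≤ (L ⊔ C) ⊓ M := le_inf hSLC hSM
  have hLC𝓛 : L ⊔ C ∈ Cfsg.charPSubgroups p G :=
    h𝓗 _ hSLC (fun h => pCoreOf_ne_bot_of_mem hMt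
      (by rw [eq_bot_iff, ← h]; exact pCoreOf_le_pCoreOf_of_sylow S hSLC hLC))
  have hL₁𝓛 : (L ⊔ C) ⊓ M ∈ Cfsg.charPSubgroups p G :=
    h𝓗 _ hSL₁ (fun h => pCoreOf_ne_bot_of_mem hMt
      (by rw [eq_bot_iff, ← h]; exact pCoreOf_le_pCoreOf_of_sylow S hSL₁ (inf_le_right.trans hMMt)))
  have hpred : Cfsg.Agent.Lib.Helper55.PRed p (L ⊔ C) (Cfsg.largestPReducedOf p (L ⊔ C)) :=
    Cfsg.Agent.Lib.Helper55.pred_largestPReducedOf (L ⊔ C)
  have hYle : Cfsg.largestPReducedOf p (L ⊔ C) ≤ Cfsg.largestPReducedOf p Mt :=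
    largest_mono S hSLC hLC (charP_of_mem hMt)
  have hCle : C ≤ Subgroup.centralizer ((Cfsg.largestPReducedOf p (L ⊔ C) : Subgroup G) : Set G) :=
    Subgroup.centralizer_le (fun x hx => hYle hx)
  have hYS : Cfsg.largestPReducedOf p (L ⊔ C) ≤ (S : Subgroup G) :=
    hpred.le_pCoreOf.trans (Cfsg.Agent.Lib.Helper55.pCoreOf_le_sylow S hSLC)
  have e1 : L ⊔ Subgroup.centralizer ((Cfsg.largestPReducedOf p (L ⊔ C) : Subgroup G) : Set G) =
      (L ⊔ C) ⊔ Subgroup.centralizer ((Cfsg.largestPReducedOf p (L ⊔ C) : Subgroup G) : Set G) := by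
    rw [sup_assoc, sup_eq_right.mpr hCle]
  have e2 : ((L ⊔ C) ⊓ M) ⊔
      Subgroup.centralizer ((Cfsg.largestPReducedOf p (L ⊔ C) : Subgroup G) : Set G) =
      (L ⊔ C) ⊔ Subgroup.centralizer ((Cfsg.largestPReducedOf p (L ⊔ C) : Subgroup G) : Set G) := by
    have h3 : (L ⊔ C) ⊔
        Subgroup.centralizer ((Cfsg.largestPReducedOf p (L ⊔ C) : Subgroup G) : Set G) =
        (((L ⊔ C) ⊓ M) ⊔ C) ⊔
        Subgroup.centralizer ((Cfsg.largestPReducedOf p (L ⊔ C) : Subgroup G) : Set G) := by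
      rw [hded]
    rw [h3, sup_assoc, sup_eq_right.mpr hCle]
  have hYL : Cfsg.largestPReducedOf p L = Cfsg.largestPReducedOf p (L ⊔ C) :=
    le_antisymm (largest_mono S hSL le_sup_left (charP_of_mem hLC𝓛))
      (Cfsg.Agent.Lib.Helper55.PRed.of_sup_eq hpred (hYS.trans hSL) e1).le_largest
  have hYL₁ : Cfsg.largestPReducedOf p ((L ⊔ C) ⊓ M) = Cfsg.largestPReducedOf p (L ⊔ C) :=
    le_antisymm (largest_mono S hSL₁ inf_le_left (charP_of_mem hLC𝓛))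
      (Cfsg.Agent.Lib.Helper55.PRed.of_sup_eq hpred (hYS.trans hSL₁) e2).le_largest
  refine ⟨(L ⊔ C) ⊓ M, hSL₁, inf_le_right, hL₁𝓛, hYL.trans hYL₁.symm,
    largest_mono S hSL₁ inf_le_right (charP_of_mem hM), ?_⟩
  rw [hYL, e1, e2]

/-- the induction behind the basic property -/
theorem basic_core [Finite G] {p : ℕ} [Fact p.Prime] (S : Sylow p G)
    (h𝓗 : ∀ X : Subgroup G, (S : Subgroup G) ≤ X → Cfsg.pCoreOf p X ≠ ⊥ →
      X ∈ Cfsg.charPSubgroups p G) :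
    ∀ (k : ℕ) (L X₀ : Subgroup G), (S : Subgroup G) ≤ L →
      X₀ ∈ Cfsg.charPSubgroups p G → L ≤ X₀ →
      (∀ X ∈ Cfsg.charPSubgroups p G, L ≤ X →
        Nat.card (Cfsg.largestPReducedOf p X) ≤ Nat.card (Cfsg.largestPReducedOf p X₀)) →
      Nat.card G - Nat.card (Cfsg.largestPReducedOf p X₀) = k →
      ∃ M Ls : Subgroup G, (S : Subgroup G) ≤ M ∧ Cfsg.IsInFrakM p M ∧ (S : Subgroup G) ≤ Ls ∧
        Ls ≤ M ∧ Ls ∈ Cfsg.charPSubgroups p G ∧
        Cfsg.largestPReducedOf p L = Cfsg.largestPReducedOf p Ls ∧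
        Cfsg.largestPReducedOf p Ls ≤ Cfsg.largestPReducedOf p M ∧
        L ⊔ Subgroup.centralizer ((Cfsg.largestPReducedOf p L : Subgroup G) : Set G) =
          Ls ⊔ Subgroup.centralizer ((Cfsg.largestPReducedOf p L : Subgroup G) : Set G) := by
  intro k
  induction k using Nat.strong_induction_on with
  | _ k ih =>
  intro L X₀ hSL hX₀ hLX₀ hmax hk
  obtain ⟨hMt, hYMt, hMtbig⟩ := step_Mt S h𝓗 L X₀ hSL hX₀ hLX₀ hmax
  set Mt := Subgroup.normalizer ((Cfsg.largestPReducedOf p X₀ : Subgroup G) : Set G) with hMtdef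
  have hSX₀ : (S : Subgroup G) ≤ X₀ := hSL.trans hLX₀
  have hX₀Mt : X₀ ≤ Mt := le_normalizer_largestPReducedOf p X₀
  have hSMt : (S : Subgroup G) ≤ Mt := hSX₀.trans hX₀Mt
  have hCMt : Subgroup.centralizer ((Cfsg.largestPReducedOf p Mt : Subgroup G) : Set G) ≤ Mt := by
    rw [hYMt]; exact Subgroup.centralizer_le_normalizer _
  have hMtmax : ∀ X ∈ Cfsg.charPSubgroups p G, Mt ≤ X → X = Mt := by
    intro X hX hle
    apply le_antisymm _ hle
    apply hMtbig X hX (hLX₀.trans (hX₀Mt.trans hle))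
    rw [← hYMt]
    exact largest_mono S hSMt hle (charP_of_mem hX)
  obtain ⟨M, hMle, hMmin⟩ := Finite.exists_le_minimal
    (p := fun M' : Subgroup G => (S : Subgroup G) ≤ M' ∧ M' ≤ Mt ∧
      M' ⊔ Subgroup.centralizer ((Cfsg.largestPReducedOf p Mt : Subgroup G) : Set G) = Mt)
    (a := Mt) ⟨hSMt, le_rfl, sup_eq_left.mpr hCMt⟩
  obtain ⟨hSM, hMMt, hMC⟩ := hMmin.prop
  obtain ⟨hM𝓛, hYM, hfrak⟩ := frakM_of_min S h𝓗 Mt hSMt hMt hCMt hMtmax M hMmin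
  obtain ⟨L₁, hSL₁, hL₁M, hL₁𝓛, hYL₁, hYL₁M, hsup₁⟩ :=
    step_L1 S h𝓗 Mt M L hMt hSM hMMt hMC hM𝓛 hSL (hLX₀.trans hX₀Mt)
  by_cases huniq : ∀ X ∈ Cfsg.charPSubgroups p G, M ≤ X → X ≤ Mt
  · exact ⟨M, L₁, hSM, hfrak huniq, hSL₁, hL₁M, hL₁𝓛, hYL₁, hYL₁M, hsup₁⟩
  · push Not at huniq
    obtain ⟨X, hX, hMX, hXMt⟩ := huniq
    -- `Y_X` is strictly bigger than `Y_{X₀}`
    have hYX : Cfsg.largestPReducedOf p X₀ ≤ Cfsg.largestPReducedOf p X := by
      rw [← hYMt, ← hYM]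
      exact largest_mono S hSM hMX (charP_of_mem hX)
    have hlt : Nat.card (Cfsg.largestPReducedOf p X₀) < Nat.card (Cfsg.largestPReducedOf p X) := by
      by_contra hnot
      push Not at hnot
      have heq : Cfsg.largestPReducedOf p X₀ = Cfsg.largestPReducedOf p X :=
        Subgroup.eq_of_le_of_card_ge hYX hnot
      apply hXMt
      rw [hMtdef, heq]
      exact le_normalizer_largestPReducedOf p X
    -- choose `X₁` over `L₁` with `Y` of maximal order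
    obtain ⟨X₁, ⟨hX₁, hL₁X₁⟩, hX₁max⟩ := Set.exists_max_image
      {X' : Subgroup G | X' ∈ Cfsg.charPSubgroups p G ∧ L₁ ≤ X'}
      (fun X' => Nat.card (Cfsg.largestPReducedOf p X')) (Set.toFinite _)
      ⟨X, hX, hL₁M.trans hMX⟩
    have hlt₁ : Nat.card (Cfsg.largestPReducedOf p X₀) <
        Nat.card (Cfsg.largestPReducedOf p X₁) :=
      lt_of_lt_of_le hlt (hX₁max X ⟨hX, hL₁M.trans hMX⟩)
    have hle₁ : Nat.card (Cfsg.largestPReducedOf p X₁) ≤ Nat.card G :=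
      Subgroup.card_le_card_group _
    obtain ⟨M', Ls, hSM', hM'frak, hSLs, hLsM', hLs𝓛, hYLs, hYLsM', hsup'⟩ :=
      ih (Nat.card G - Nat.card (Cfsg.largestPReducedOf p X₁)) (by omega) L₁ X₁ hSL₁ hX₁ hL₁X₁
        (fun X' hX' hle => hX₁max X' ⟨hX', hle⟩) rfl
    refine ⟨M', Ls, hSM', hM'frak, hSLs, hLsM', hLs𝓛, hYL₁.trans hYLs, hYLsM', ?_⟩
    rw [hsup₁, hYL₁, hsup']

/-- the basic property: every `L ∈ 𝓛` over a Sylow subgroup is, modulo `C_G(Y_L)`, inside some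
`M ∈ 𝔐` -/
theorem basic_property [Finite G] {p : ℕ} [Fact p.Prime] (S : Sylow p G)
    (h𝓗 : ∀ X : Subgroup G, (S : Subgroup G) ≤ X → Cfsg.pCoreOf p X ≠ ⊥ →
      X ∈ Cfsg.charPSubgroups p G)
    (L : Subgroup G) (hSL : (S : Subgroup G) ≤ L) (hL : L ∈ Cfsg.charPSubgroups p G) :
    ∃ M Ls : Subgroup G, (S : Subgroup G) ≤ M ∧ Cfsg.IsInFrakM p M ∧ (S : Subgroup G) ≤ Ls ∧
      Ls ≤ M ∧ Ls ∈ Cfsg.charPSubgroups p G ∧
      Cfsg.largestPReducedOf p L = Cfsg.largestPReducedOf p Ls ∧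
      Cfsg.largestPReducedOf p Ls ≤ Cfsg.largestPReducedOf p M ∧
      L ⊔ Subgroup.centralizer ((Cfsg.largestPReducedOf p L : Subgroup G) : Set G) =
        Ls ⊔ Subgroup.centralizer ((Cfsg.largestPReducedOf p L : Subgroup G) : Set G) := by
  obtain ⟨X₀, ⟨hX₀, hLX₀⟩, hX₀max⟩ := Set.exists_max_image
    {X' : Subgroup G | X' ∈ Cfsg.charPSubgroups p G ∧ L ≤ X'}
    (fun X' => Nat.card (Cfsg.largestPReducedOf p X')) (Set.toFinite _)
    ⟨L, hL, le_rfl⟩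
  exact basic_core S h𝓗 _ L X₀ hSL hX₀ hLX₀ (fun X' hX' hle => hX₀max X' ⟨hX', hle⟩) rfl

/-- in a group of parabolic characteristic `p`, every subgroup over a Sylow subgroup with
`O_p ≠ 1` lies in `𝓛` -/
theorem parabolic_mem_charP [Finite G] {p : ℕ} [Fact p.Prime]
    (hH : Cfsg.IsOfParabolicCharacteristic p G) (T : Sylow p G)
    (X : Subgroup G) (hTX : (T : Subgroup G) ≤ X) (hX1 : Cfsg.pCoreOf p X ≠ ⊥) :
    X ∈ Cfsg.charPSubgroups p G := by
  have hPp : IsPGroup p (Cfsg.pCoreOf p X) := pCoreOf_isPGroup p X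
  have hXN : X ≤ Subgroup.normalizer ((Cfsg.pCoreOf p X : Subgroup G) : Set G) :=
    le_normalizer_pCoreOf p X
  have hTN := hTX.trans hXN
  have hchar := charp_of_subtype _ (hH (Cfsg.pCoreOf p X) hPp hX1 ⟨T, hTN⟩)
  have h1 : Cfsg.pCoreOf p X ≤
      Cfsg.pCoreOf p (Subgroup.normalizer ((Cfsg.pCoreOf p X : Subgroup G) : Set G)) :=
    le_pCoreOf _ _ Subgroup.le_normalizer le_rfl hPp
  have h2 : Cfsg.pCoreOf p (Subgroup.normalizer ((Cfsg.pCoreOf p X : Subgroup G) : Set G)) ≤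
      Cfsg.pCoreOf p X :=
    le_pCoreOf X _ ((Cfsg.Agent.Lib.Helper55.pCoreOf_le_sylow T hTN).trans hTX)
      (hXN.trans (le_normalizer_pCoreOf p _)) (pCoreOf_isPGroup p _)
  have h3 : Cfsg.pCoreOf p (Subgroup.normalizer ((Cfsg.pCoreOf p X : Subgroup G) : Set G)) =
      Cfsg.pCoreOf p X := le_antisymm h2 h1
  rw [h3] at hchar
  refine ⟨?_, ?_⟩
  · intro h
    apply hX1
    unfold Cfsg.pCoreOf
    rw [h, Subgroup.map_bot]
  · show Subgroup.centralizer ((Cfsg.pCoreOf p X : Subgroup G) : Set G) ≤ Cfsg.pCoreOf p X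
    intro x hx
    exact hchar (Subgroup.mem_inf.mpr ⟨Subgroup.centralizer_le_normalizer _ hx, hx⟩)

/-- the weak closure is monotone in the subgroup -/
theorem weakClosure_mono (Q : Subgroup G) {A B : Subgroup G} (h : A ≤ B) :
    Cfsg.weakClosure Q A ≤ Cfsg.weakClosure Q B := by
  rw [weakClosure_le_iff]
  intro g hg
  exact conj_le_weakClosure Q B g (hg.trans h)

/-- if `A D = B D` with `D ≤ N_G(Q)` normalized by `A` and `B`, the weak closures of the weakly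
closed subgroup `Q` in `A` and `B` compare -/
theorem weakClosure_le_of_sup_eq [Finite G] {p : ℕ} [Fact p.Prime] {Q : Subgroup G}
    (hwc : Cfsg.IsWeaklyClosedSubgroup p Q) (A B D : Subgroup G) (hQA : Q ≤ A) (hQB : Q ≤ B)
    (hD : D ≤ Subgroup.normalizer (Q : Set G))
    (hBD : B ≤ Subgroup.normalizer (D : Set G))
    (h : A ⊔ D = B ⊔ D) : Cfsg.weakClosure Q A ≤ Cfsg.weakClosure Q B := by
  apply weakClosure_le_of_conj hwc A hQA
  intro a ha
  have ha' : a ∈ ((B ⊔ D : Subgroup G) : Set G) := by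
    rw [← h]; exact Subgroup.mem_sup_left ha
  rw [Subgroup.coe_mul_of_left_le_normalizer_right B D hBD] at ha'
  obtain ⟨b, hb, d, hd, rfl⟩ := Set.mem_mul.mp ha'
  rw [← conj_map_map, conj_eq_of_mem_normalizer Q d (hD hd)]
  apply conj_le_weakClosure
  rintro _ ⟨q, hq, rfl⟩
  exact B.mul_mem (B.mul_mem hb (hQB hq)) (B.inv_mem hb)

end Cfsg.Agent.Lib.Helper56
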