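import Cfsg.Prelude.Def_LocalStructure
import Cfsg.Agent.Lib.Helper56.BasicProp3
import Cfsg.Agent.Lib.Helper55.SE
import Mathlib

set_option autoImplicit false
open Cfsg
open scoped Pointwise commutatorElement
open Cfsg.Agent.Lib.Helper55 (cj mem_cj cj_mono cj_mul cj_one cj_inv_cj cj_cj_inv cj_normalizer
  cj_isPGroup cj_ne_bot cj_eq_self_of_mem cj_eq_self_of_mem_normalizer mem_normalizer_of_cj_eq
  SylIn sylIn_of_sylow exists_sylIn)

namespace Cfsg.Agent.Lib.Helper56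

variable {G : Type*} [Group G]

/-! ### `p`-groups: normalizers grow, mutually normalizing conjugates -/

theorem exists_mem_normalizer_not_mem [Finite G] {p : ℕ} [Fact p.Prime] (R A : Subgroup G)
    (hR : IsPGroup p R) (hAR : A ≤ R) (hne : A ≠ R) :
    ∃ r ∈ R, r ∈ Subgroup.normalizer (A : Set G) ∧ r ∉ A := by
  have hnil : Group.IsNilpotent R := hR.isNilpotent
  have hnc : NormalizerCondition R := Group.normalizerCondition_of_isNilpotent
  have hlt : A.subgroupOf R < ⊤ := by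
    rw [lt_top_iff_ne_top]
    intro h
    exact hne (le_antisymm hAR (Subgroup.subgroupOf_eq_top.mp h))
  have h1 := hnc _ hlt
  obtain ⟨r, hrN, hrA⟩ := SetLike.exists_of_lt h1
  refine ⟨r, r.2, ?_, fun h => hrA (Subgroup.mem_subgroupOf.mpr h)⟩
  apply mem_normalizer_of_conj_eq
  apply conj_eq_of_le
  rintro _ ⟨a, ha, rfl⟩
  have h2 := (Subgroup.mem_normalizer_iff.mp hrN ⟨a, hAR ha⟩).mp (Subgroup.mem_subgroupOf.mpr ha)
  exact Subgroup.mem_subgroupOf.mp h2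

theorem exists_conj_normalizing [Finite G] {p : ℕ} [Fact p.Prime] (R A : Subgroup G)
    (hR : IsPGroup p R) (hAR : A ≤ R) (hn : ¬ R ≤ Subgroup.normalizer (A : Set G)) :
    ∃ r : G, cj r A ≠ A ∧ cj r A ≤ Subgroup.normalizer (A : Set G) ∧
      A ≤ Subgroup.normalizer ((cj r A : Subgroup G) : Set G) := by
  have hN1 : R ⊓ Subgroup.normalizer (A : Set G) ≠ R := by
    intro h
    apply hn
    rw [← h]
    exact inf_le_right
  obtain ⟨r, hrR, hrN, hrn⟩ := exists_mem_normalizer_not_mem R _ hR inf_le_left hN1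
  have hrA : r ∉ Subgroup.normalizer (A : Set G) := fun h => hrn (Subgroup.mem_inf.mpr ⟨hrR, h⟩)
  have hcj : cj r (R ⊓ Subgroup.normalizer (A : Set G)) = R ⊓ Subgroup.normalizer (A : Set G) :=
    cj_eq_self_of_mem_normalizer hrN
  have hA1 : A ≤ R ⊓ Subgroup.normalizer (A : Set G) := le_inf hAR Subgroup.le_normalizer
  refine ⟨r, fun h => hrA (mem_normalizer_of_cj_eq h), ?_, ?_⟩
  · calc cj r A ≤ cj r (R ⊓ Subgroup.normalizer (A : Set G)) := cj_mono hA1
      _ = R ⊓ Subgroup.normalizer (A : Set G) := hcj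
      _ ≤ _ := inf_le_right
  · calc A ≤ R ⊓ Subgroup.normalizer (A : Set G) := hA1
      _ = cj r (R ⊓ Subgroup.normalizer (A : Set G)) := hcj.symm
      _ ≤ cj r (Subgroup.normalizer (A : Set G)) := cj_mono inf_le_right
      _ = _ := cj_normalizer r A

/-- two distinct conjugates inside a `p`-group give two distinct mutually normalizing
conjugates -/
theorem exists_mutually_normalizing [Finite G] {p : ℕ} [Fact p.Prime] (R A : Subgroup G) (g : G)
    (hR : IsPGroup p R) (hAR : A ≤ R) (hgR : cj g A ≤ R) (hne : cj g A ≠ A) :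
    ∃ x : G, cj x A ≠ A ∧ cj x A ≤ Subgroup.normalizer (A : Set G) ∧
      A ≤ Subgroup.normalizer ((cj x A : Subgroup G) : Set G) := by
  by_cases h1 : R ≤ Subgroup.normalizer (A : Set G)
  · by_cases h2 : R ≤ Subgroup.normalizer ((cj g A : Subgroup G) : Set G)
    · exact ⟨g, hne, hgR.trans h1, hAR.trans h2⟩
    · obtain ⟨r, hr1, hr2, hr3⟩ := exists_conj_normalizing R (cj g A) hR hgR h2
      have e : cj (g⁻¹ * r * g) A = cj g⁻¹ (cj r (cj g A)) := by rw [cj_mul, cj_mul]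
      refine ⟨g⁻¹ * r * g, ?_, ?_, ?_⟩
      · intro h
        apply hr1
        rw [e] at h
        have h' := congrArg (cj g) h
        rwa [cj_cj_inv] at h'
      · rw [e]
        calc cj g⁻¹ (cj r (cj g A))
            ≤ cj g⁻¹ (Subgroup.normalizer ((cj g A : Subgroup G) : Set G)) := cj_mono hr2
          _ = Subgroup.normalizer ((cj g⁻¹ (cj g A) : Subgroup G) : Set G) := cj_normalizer _ _
          _ = _ := by rw [cj_inv_cj]
      · rw [e]
        calc A = cj g⁻¹ (cj g A) := (cj_inv_cj g A).symm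
          _ ≤ cj g⁻¹ (Subgroup.normalizer ((cj r (cj g A) : Subgroup G) : Set G)) := cj_mono hr3
          _ = _ := cj_normalizer _ _
  · exact exists_conj_normalizing R A hR hAR h1

/-! ### the asymmetric case -/

/-- for `M ∈ 𝔐`: a `p`-subgroup of `C_M(Y_M)` lies in `O_p(M)` -/
theorem frakM_pgroup_le_pCoreOf [Finite G] {p : ℕ} [Fact p.Prime] (M : Subgroup G)
    (hM : Cfsg.IsInFrakM p M) (X : Subgroup G) (hXM : X ≤ M)
    (hXC : X ≤ Subgroup.centralizer ((Cfsg.largestPReducedOf p M : Subgroup G) : Set G))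
    (hX : IsPGroup p X) : X ≤ Cfsg.pCoreOf p M := by
  have hpc := hM.2.2.2.2.1
  have h1 := pclosed_pgroup_le_pCoreOf _ hpc X (le_inf hXM hXC) hX
  refine h1.trans (pCoreOf_le_pCoreOf_of_normal M _ inf_le_left ?_)
  refine le_trans ?_ (normalizer_inf_le _ _)
  exact le_inf Subgroup.le_normalizer (le_normalizer_centralizer_Y p M)

/-- the chain argument: in the asymmetric case, along any chain of conjugates of `M` in which
neighbours contain each other's `O_p`, the `Y`'s lie in the `O_p`'s -/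
theorem asym_chain [Finite G] {p : ℕ} [Fact p.Prime] (M : Subgroup G)
    (hM : Cfsg.IsInFrakM p M)
    (hasym : ¬ Cfsg.IsSymmetricIn (Cfsg.largestPReducedOf p M)) :
    ∀ (n : ℕ), ∀ x ∈ ({e : G | cj e (Cfsg.pCoreOf p M) ≤ M ∧
        Cfsg.pCoreOf p M ≤ cj e M} : Set G) ^ n,
      Cfsg.largestPReducedOf p M ≤ cj x (Cfsg.pCoreOf p M) ∧
        cj x (Cfsg.largestPReducedOf p M) ≤ Cfsg.pCoreOf p M := by
  have hpred : Cfsg.Agent.Lib.Helper55.PRed p M (Cfsg.largestPReducedOf p M) :=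
    Cfsg.Agent.Lib.Helper55.pred_largestPReducedOf M
  have hYP : Cfsg.largestPReducedOf p M ≤ Cfsg.pCoreOf p M := hpred.le_pCoreOf
  have hYp : IsPGroup p (Cfsg.largestPReducedOf p M) := hpred.isPGroup
  have hMNY := le_normalizer_largestPReducedOf p M
  intro n
  induction n with
  | zero =>
    intro x hx
    rw [pow_zero, Set.mem_one] at hx
    subst hx
    rw [cj_one, cj_one]
    exact ⟨hYP, hYP⟩
  | succ n ih =>
    intro x hx
    have hx2 := hx
    rw [pow_succ] at hx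
    rw [pow_succ'] at hx2
    obtain ⟨x', hx', e, he, rfl⟩ := Set.mem_mul.mp hx
    obtain ⟨e'', he'', x'', hx'', hxeq⟩ := Set.mem_mul.mp hx2
    -- `Y ≤ M^x`
    have h1 : Cfsg.largestPReducedOf p M ≤ cj (x' * e) M := by
      rw [cj_mul]
      exact (ih x' hx').1.trans (cj_mono he.2)
    -- `Y^x ≤ M`
    have h2 : cj (x' * e) (Cfsg.largestPReducedOf p M) ≤ M := by
      rw [← hxeq, cj_mul]
      exact (cj_mono (ih x'' hx'').2).trans he''.1
    -- the two normalize each other, hence commute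
    have h3 : cj (x' * e) (Cfsg.largestPReducedOf p M) ≤
        Subgroup.normalizer ((Cfsg.largestPReducedOf p M : Subgroup G) : Set G) := h2.trans hMNY
    have h4 : Cfsg.largestPReducedOf p M ≤ Subgroup.normalizer
        ((cj (x' * e) (Cfsg.largestPReducedOf p M) : Subgroup G) : Set G) := by
      rw [← cj_normalizer]
      exact h1.trans (cj_mono hMNY)
    have hcomm : ⁅Cfsg.largestPReducedOf p M, cj (x' * e) (Cfsg.largestPReducedOf p M)⁆ = ⊥ := by
      by_contra hne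
      exact hasym ⟨x' * e, hne, le_inf (commutator_le_of_le_normalizer _ _ h3)
        (commutator_le_of_le_normalizer' _ _ h4)⟩
    have h5 : Cfsg.largestPReducedOf p M ≤ Subgroup.centralizer
        ((cj (x' * e) (Cfsg.largestPReducedOf p M) : Subgroup G) : Set G) :=
      Subgroup.commutator_eq_bot_iff_le_centralizer.mp hcomm
    have h6 : cj (x' * e) (Cfsg.largestPReducedOf p M) ≤ Subgroup.centralizer
        ((Cfsg.largestPReducedOf p M : Subgroup G) : Set G) := by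
      apply Subgroup.commutator_eq_bot_iff_le_centralizer.mp
      rw [Subgroup.commutator_comm]; exact hcomm
    refine ⟨?_, frakM_pgroup_le_pCoreOf M hM _ h2 h6 (cj_isPGroup hYp)⟩
    -- `Y^{x⁻¹} ≤ C_M(Y)`
    have h7 : cj (x' * e)⁻¹ (Cfsg.largestPReducedOf p M) ≤ M := by
      have := cj_mono (g := (x' * e)⁻¹) h1
      rwa [cj_inv_cj] at this
    have h8 : cj (x' * e)⁻¹ (Cfsg.largestPReducedOf p M) ≤ Subgroup.centralizer
        ((Cfsg.largestPReducedOf p M : Subgroup G) : Set G) := by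
      intro z hz
      rw [mem_cj, inv_inv] at hz
      have hz2 := h5 hz
      rw [mem_centralizer_conj_iff] at hz2
      have e1 : (x' * e)⁻¹ * ((x' * e) * z * (x' * e)⁻¹) * (x' * e) = z := by group
      rwa [e1] at hz2
    have h9 := frakM_pgroup_le_pCoreOf M hM _ h7 h8 (cj_isPGroup hYp)
    have := cj_mono (g := x' * e) h9
    rwa [cj_cj_inv] at this

/-- Theorem A: in the asymmetric case, a conjugate `M^g` with `O_p(M)^g ≤ M` and
`O_p(M) ≤ M^g` has `g ∈ M†` -/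
theorem asym_mem_dagger [Finite G] {p : ℕ} [Fact p.Prime] (S : Sylow p G) (Q : Subgroup G)
    (hQp : IsPGroup p Q) (hQS : Q ≤ (S : Subgroup G)) (hQ : Cfsg.IsLarge Q)
    (M : Subgroup G) (hSM : (S : Subgroup G) ≤ M) (hM : Cfsg.IsInFrakM p M)
    (hasym : ¬ Cfsg.IsSymmetricIn (Cfsg.largestPReducedOf p M)) (g : G)
    (h1 : cj g (Cfsg.pCoreOf p M) ≤ M) (h2 : Cfsg.pCoreOf p M ≤ cj g M) :
    g ∈ M ⊔ Subgroup.centralizer ((Cfsg.largestPReducedOf p M : Subgroup G) : Set G) := by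
  have hchain := asym_chain M hM hasym
  generalize hE : ({e : G | cj e (Cfsg.pCoreOf p M) ≤ M ∧
        Cfsg.pCoreOf p M ≤ cj e M} : Set G) = E at hchain
  have hmemD : ∀ y : G, y ∈ (⨅ (x : G) (_ : ∃ n : ℕ, x ∈ E ^ n), cj x (Cfsg.pCoreOf p M)) ↔
      ∀ x : G, (∃ n : ℕ, x ∈ E ^ n) → y ∈ cj x (Cfsg.pCoreOf p M) := by
    intro y
    simp only [Subgroup.mem_iInf]
  generalize (⨅ (x : G) (_ : ∃ n : ℕ, x ∈ E ^ n), cj x (Cfsg.pCoreOf p M)) = D at hmemD
  have hYD : Cfsg.largestPReducedOf p M ≤ D := by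
    intro y hy
    rw [hmemD]
    rintro x ⟨n, hx⟩
    exact (hchain n x hx).1 hy
  have hDP : D ≤ Cfsg.pCoreOf p M := by
    intro y hy
    have := (hmemD y).mp hy 1 ⟨0, by rw [pow_zero]; exact Set.mem_one.mpr rfl⟩
    rwa [cj_one] at this
  have hEN : ∀ e ∈ E, e ∈ Subgroup.normalizer (D : Set G) := by
    intro e he
    have h : cj e⁻¹ D ≤ D := by
      intro z hz
      rw [mem_cj, inv_inv] at hz
      rw [hmemD]
      rintro x ⟨n, hx⟩
      have h3 := (hmemD _).mp hz (e * x)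
        ⟨n + 1, by rw [pow_succ']; exact Set.mul_mem_mul he hx⟩
      rw [mem_cj] at h3 ⊢
      have e1 : (e * x)⁻¹ * (e * z * e⁻¹) * (e * x) = x⁻¹ * z * x := by group
      rwa [e1] at h3
    have h4 : e⁻¹ ∈ Subgroup.normalizer (D : Set G) :=
      mem_normalizer_of_conj_eq D e⁻¹ (conj_eq_of_le D e⁻¹ h)
    simpa using Subgroup.inv_mem _ h4
  have hME : ∀ m ∈ M, m ∈ E := by
    intro m hm
    rw [← hE]
    refine ⟨?_, ?_⟩
    · rw [cj_eq_self_of_mem_normalizer (le_normalizer_pCoreOf p M hm)]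
      exact pCoreOf_le p M
    · rw [cj_eq_self_of_mem hm]
      exact pCoreOf_le p M
  have hgE : g ∈ E := by rw [← hE]; exact ⟨h1, h2⟩
  have hD1 : D ≠ ⊥ := by
    intro h
    apply largest_ne_bot S hSM hM.1
    rw [eq_bot_iff, ← h]; exact hYD
  have hDp : IsPGroup p D := (pCoreOf_isPGroup p M).to_le hDP
  exact frakM_normalizer_le_dagger hQ hQp S hQS M hSM hM D hD1 hDp
    (fun m hm => hEN m (hME m hm)) (hEN g hgE)

/-- `N_G(O_p(M)) ≤ M†` -/
theorem frakM_normalizer_pCoreOf_le [Finite G] {p : ℕ} [Fact p.Prime] (S : Sylow p G)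
    (Q : Subgroup G) (hQp : IsPGroup p Q) (hQS : Q ≤ (S : Subgroup G)) (hQ : Cfsg.IsLarge Q)
    (M : Subgroup G) (hSM : (S : Subgroup G) ≤ M) (hM : Cfsg.IsInFrakM p M) :
    Subgroup.normalizer ((Cfsg.pCoreOf p M : Subgroup G) : Set G) ≤
      M ⊔ Subgroup.centralizer ((Cfsg.largestPReducedOf p M : Subgroup G) : Set G) :=
  frakM_normalizer_le_dagger hQ hQp S hQS M hSM hM _ (pCoreOf_ne_bot_of_mem hM.1)
    (pCoreOf_isPGroup p M) (le_normalizer_pCoreOf p M)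

/-- an `M†`-conjugate of `O_p(M)` inside `M` equals `O_p(M)` -/
theorem frakM_pCoreOf_conj_eq' [Finite G] {p : ℕ} [Fact p.Prime] (S : Sylow p G) (M : Subgroup G)
    (hSM : (S : Subgroup G) ≤ M) (hM : Cfsg.IsInFrakM p M) (g : G)
    (hg : g ∈ M ⊔ Subgroup.centralizer ((Cfsg.largestPReducedOf p M : Subgroup G) : Set G))
    (hgM : cj g (Cfsg.pCoreOf p M) ≤ M) : cj g (Cfsg.pCoreOf p M) = Cfsg.pCoreOf p M := by
  have hsyl : SylIn p (S : Subgroup G) M := sylIn_of_sylow S hSM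
  obtain ⟨m, hm, hle⟩ := hsyl.exists_le_cj hgM (cj_isPGroup (pCoreOf_isPGroup p M))
  have h4 : cj (m⁻¹ * g) (Cfsg.pCoreOf p M) ≤ (S : Subgroup G) := by
    rw [cj_mul]
    have := cj_mono (g := m⁻¹) hle
    rwa [cj_inv_cj] at this
  have h5 := frakM_pCoreOf_conj_eq S M hSM hM (m⁻¹ * g)
    (Subgroup.mul_mem _ (Subgroup.mem_sup_left (M.inv_mem hm)) hg) h4
  have h6 : cj m⁻¹ (cj g (Cfsg.pCoreOf p M)) = Cfsg.pCoreOf p M := by rw [← cj_mul]; exact h5
  have h7 := congrArg (cj m) h6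
  rw [cj_cj_inv, cj_eq_self_of_mem_normalizer (le_normalizer_pCoreOf p M hm)] at h7
  exact h7

/-- a conjugate of `O_p(M)` normalizing `O_p(M)` can be moved into `M` by an element of
`C_G(Y_M)` normalizing `O_p(M)` -/
theorem frakM_adjust [Finite G] {p : ℕ} [Fact p.Prime] (S : Sylow p G) (Q : Subgroup G)
    (hQp : IsPGroup p Q) (hQS : Q ≤ (S : Subgroup G)) (hQ : Cfsg.IsLarge Q)
    (M : Subgroup G) (hSM : (S : Subgroup G) ≤ M) (hM : Cfsg.IsInFrakM p M) (y : G)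
    (hy : cj y (Cfsg.pCoreOf p M) ≤
      Subgroup.normalizer ((Cfsg.pCoreOf p M : Subgroup G) : Set G)) :
    ∃ c : G, cj c (Cfsg.pCoreOf p M) = Cfsg.pCoreOf p M ∧
      cj (c * y) (Cfsg.pCoreOf p M) ≤ M := by
  have hPp : IsPGroup p (Cfsg.pCoreOf p M) := pCoreOf_isPGroup p M
  have hNP := frakM_normalizer_pCoreOf_le S Q hQp hQS hQ M hSM hM
  have hRp : IsPGroup p (Cfsg.pCoreOf p M ⊔ cj y (Cfsg.pCoreOf p M) : Subgroup G) :=
    IsPGroup.to_sup_of_normal_left' hPp (cj_isPGroup hPp) hy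
  have hRN := (sup_le Subgroup.le_normalizer hy).trans hNP
  have hsyl : SylIn p (S : Subgroup G)
      (M ⊔ Subgroup.centralizer ((Cfsg.largestPReducedOf p M : Subgroup G) : Set G)) :=
    sylIn_of_sylow S (hSM.trans le_sup_left)
  obtain ⟨l, hl, hRl⟩ := hsyl.exists_le_cj hRN hRp
  have hMC := le_normalizer_centralizer_Y p M
  have hl' : l ∈ ((Subgroup.centralizer ((Cfsg.largestPReducedOf p M : Subgroup G) : Set G) :
      Subgroup G) : Set G) * (M : Set G) := by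
    rw [← Subgroup.coe_mul_of_right_le_normalizer_left _ M hMC, sup_comm]; exact hl
  obtain ⟨c, hc, m, hm, rfl⟩ := Set.mem_mul.mp hl'
  have h1 : cj c⁻¹ (Cfsg.pCoreOf p M ⊔ cj y (Cfsg.pCoreOf p M)) ≤ cj m (S : Subgroup G) := by
    have := cj_mono (g := c⁻¹) hRl
    rwa [cj_mul, cj_inv_cj] at this
  have h2 : cj m (S : Subgroup G) ≤ M := by
    have := cj_mono (g := m) hSM
    rwa [cj_eq_self_of_mem hm] at this
  have hmP : cj m (Cfsg.pCoreOf p M) = Cfsg.pCoreOf p M :=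
    cj_eq_self_of_mem_normalizer (le_normalizer_pCoreOf p M hm)
  have h3 : cj c⁻¹ (Cfsg.pCoreOf p M) = Cfsg.pCoreOf p M := by
    have h4 : cj (m⁻¹ * c⁻¹) (Cfsg.pCoreOf p M) ≤ (S : Subgroup G) := by
      rw [cj_mul]
      have := cj_mono (g := m⁻¹) ((cj_mono (g := c⁻¹)
        (le_sup_left : Cfsg.pCoreOf p M ≤ Cfsg.pCoreOf p M ⊔ cj y (Cfsg.pCoreOf p M))).trans h1)
      rwa [cj_inv_cj] at this
    have h5 := frakM_pCoreOf_conj_eq S M hSM hM (m⁻¹ * c⁻¹)
      (Subgroup.mul_mem _ (Subgroup.mem_sup_left (M.inv_mem hm))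
        (Subgroup.mem_sup_right (Subgroup.inv_mem _ hc))) h4
    have h6 : cj m⁻¹ (cj c⁻¹ (Cfsg.pCoreOf p M)) = Cfsg.pCoreOf p M := by
      rw [← cj_mul]; exact h5
    have h7 := congrArg (cj m) h6
    rw [cj_cj_inv, hmP] at h7
    exact h7
  refine ⟨c⁻¹, h3, ?_⟩
  rw [cj_mul]
  exact ((cj_mono (g := c⁻¹)
    (le_sup_right : cj y (Cfsg.pCoreOf p M) ≤ Cfsg.pCoreOf p M ⊔ cj y (Cfsg.pCoreOf p M))).trans
      h1).trans h2

/-- in the asymmetric case `O_p(M)` is a weakly closed subgroup of `G` -/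
theorem asym_wc [Finite G] {p : ℕ} [Fact p.Prime] (S : Sylow p G) (Q : Subgroup G)
    (hQp : IsPGroup p Q) (hQS : Q ≤ (S : Subgroup G)) (hQ : Cfsg.IsLarge Q)
    (M : Subgroup G) (hSM : (S : Subgroup G) ≤ M) (hM : Cfsg.IsInFrakM p M)
    (hasym : ¬ Cfsg.IsSymmetricIn (Cfsg.largestPReducedOf p M)) :
    Cfsg.IsWeaklyClosedSubgroup p (Cfsg.pCoreOf p M) := by
  have hPS : Cfsg.pCoreOf p M ≤ (S : Subgroup G) :=
    Cfsg.Agent.Lib.Helper55.pCoreOf_le_sylow S hSM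
  refine ⟨S, hPS, fun g hg => ?_⟩
  by_contra hne
  obtain ⟨x, hx1, hx2, hx3⟩ := exists_mutually_normalizing (S : Subgroup G)
    (Cfsg.pCoreOf p M) g S.2 hPS hg hne
  obtain ⟨c₁, hc₁, hc₁M⟩ := frakM_adjust S Q hQp hQS hQ M hSM hM x hx2
  have hx₁ne : cj (c₁ * x) (Cfsg.pCoreOf p M) ≠ Cfsg.pCoreOf p M := by
    intro h
    apply hx1
    rw [cj_mul] at h
    have h' := congrArg (cj c₁⁻¹) h
    rw [cj_inv_cj] at h'
    have h'' : cj c₁⁻¹ (Cfsg.pCoreOf p M) = Cfsg.pCoreOf p M := by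
      have := congrArg (cj c₁⁻¹) hc₁
      rw [cj_inv_cj] at this
      exact this.symm
    rw [h''] at h'
    exact h'
  have hx₁n : cj (c₁ * x)⁻¹ (Cfsg.pCoreOf p M) ≤
      Subgroup.normalizer ((Cfsg.pCoreOf p M : Subgroup G) : Set G) := by
    have h1 : Cfsg.pCoreOf p M ≤ Subgroup.normalizer
        ((cj (c₁ * x) (Cfsg.pCoreOf p M) : Subgroup G) : Set G) := by
      rw [cj_mul, ← cj_normalizer]
      calc Cfsg.pCoreOf p M = cj c₁ (Cfsg.pCoreOf p M) := hc₁.symm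
        _ ≤ _ := cj_mono hx3
    have h2 := cj_mono (g := (c₁ * x)⁻¹) h1
    rwa [cj_normalizer, cj_inv_cj] at h2
  obtain ⟨c₂, hc₂, hc₂M⟩ := frakM_adjust S Q hQp hQS hQ M hSM hM (c₁ * x)⁻¹ hx₁n
  have hc₂' : cj c₂⁻¹ (Cfsg.pCoreOf p M) = Cfsg.pCoreOf p M := by
    have := congrArg (cj c₂⁻¹) hc₂
    rw [cj_inv_cj] at this
    exact this.symm
  have hg'1 : cj ((c₁ * x) * c₂⁻¹) (Cfsg.pCoreOf p M) = cj (c₁ * x) (Cfsg.pCoreOf p M) := by
    rw [cj_mul, hc₂']
  have hg'2 : Cfsg.pCoreOf p M ≤ cj ((c₁ * x) * c₂⁻¹) M := by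
    have := cj_mono (g := (c₁ * x) * c₂⁻¹) hc₂M
    rw [← cj_mul] at this
    have e : (c₁ * x) * c₂⁻¹ * (c₂ * (c₁ * x)⁻¹) = 1 := by group
    rwa [e, cj_one] at this
  have hmem := asym_mem_dagger S Q hQp hQS hQ M hSM hM hasym ((c₁ * x) * c₂⁻¹)
    (by rw [hg'1]; exact hc₁M) hg'2
  have := frakM_pCoreOf_conj_eq' S M hSM hM _ hmem (by rw [hg'1]; exact hc₁M)
  rw [hg'1] at this
  exact hx₁ne this

/-- in the asymmetric case, `L ∩ M†` contains a Sylow `p`-subgroup of every `L ≥ O_p(M)` -/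
theorem asym_parabolic [Finite G] {p : ℕ} [Fact p.Prime] (S : Sylow p G) (Q : Subgroup G)
    (hQp : IsPGroup p Q) (hQS : Q ≤ (S : Subgroup G)) (hQ : Cfsg.IsLarge Q)
    (M : Subgroup G) (hSM : (S : Subgroup G) ≤ M) (hM : Cfsg.IsInFrakM p M)
    (hasym : ¬ Cfsg.IsSymmetricIn (Cfsg.largestPReducedOf p M))
    (L : Subgroup G) (hPL : Cfsg.pCoreOf p M ≤ L) :
    ∃ T : Subgroup G, SylIn p T L ∧ Cfsg.pCoreOf p M ≤ T ∧
      T ≤ M ⊔ Subgroup.centralizer ((Cfsg.largestPReducedOf p M : Subgroup G) : Set G) := by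
  have hwc := asym_wc S Q hQp hQS hQ M hSM hM hasym
  have hPp : IsPGroup p (Cfsg.pCoreOf p M) := pCoreOf_isPGroup p M
  have hNP := frakM_normalizer_pCoreOf_le S Q hQp hQS hQ M hSM hM
  obtain ⟨T₀, hT₀, hPT₀⟩ := exists_sylIn_ge (Cfsg.pCoreOf p M)
    (L ⊓ (M ⊔ Subgroup.centralizer ((Cfsg.largestPReducedOf p M : Subgroup G) : Set G))) hPp
    (le_inf hPL ((pCoreOf_le p M).trans le_sup_left))
  obtain ⟨T₁, hT₁, hT₀T₁⟩ := exists_sylIn_ge T₀ L hT₀.isPGroup (hT₀.le.trans inf_le_left)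
  have hNT₀ : Subgroup.normalizer (T₀ : Set G) ≤
      M ⊔ Subgroup.centralizer ((Cfsg.largestPReducedOf p M : Subgroup G) : Set G) :=
    (wc_normalizer_le hwc T₀ hT₀.isPGroup hPT₀).trans hNP
  have heq : T₀ = T₁ := by
    by_contra hne
    obtain ⟨r, hrT₁, hrN, hrT₀⟩ := exists_mem_normalizer_not_mem T₁ T₀ hT₁.isPGroup hT₀T₁ hne
    apply hrT₀
    have h1 : T₁ ⊓ Subgroup.normalizer (T₀ : Set G) ≤ T₀ :=
      hT₀.le_of_le (le_inf hT₀T₁ Subgroup.le_normalizer)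
        (le_inf (inf_le_left.trans hT₁.le) (inf_le_right.trans hNT₀))
        (hT₁.isPGroup.to_le inf_le_left)
    exact h1 (Subgroup.mem_inf.mpr ⟨hrT₁, hrN⟩)
  refine ⟨T₁, hT₁, hPT₀.trans hT₀T₁, ?_⟩
  rw [← heq]
  exact hT₀.le.trans inf_le_right

/-- in the asymmetric case `M` controls fusion in `Y_M` -/
theorem asym_fusion [Finite G] {p : ℕ} [Fact p.Prime] (S : Sylow p G) (Q : Subgroup G)
    (hQp : IsPGroup p Q) (hQS : Q ≤ (S : Subgroup G)) (hQ : Cfsg.IsLarge Q)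
    (M : Subgroup G) (hSM : (S : Subgroup G) ≤ M) (hM : Cfsg.IsInFrakM p M)
    (hasym : ¬ Cfsg.IsSymmetricIn (Cfsg.largestPReducedOf p M))
    (x : G) (hx : x ∈ Cfsg.largestPReducedOf p M) (g : G)
    (hgx : g * x * g⁻¹ ∈ Cfsg.largestPReducedOf p M) :
    ∃ m ∈ M, m * x * m⁻¹ = g * x * g⁻¹ := by
  have hwc := asym_wc S Q hQp hQS hQ M hSM hM hasym
  have hPp : IsPGroup p (Cfsg.pCoreOf p M) := pCoreOf_isPGroup p M
  have hNP := frakM_normalizer_pCoreOf_le S Q hQp hQS hQ M hSM hM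
  have hPC : Cfsg.pCoreOf p M ≤
      Subgroup.centralizer ((Cfsg.largestPReducedOf p M : Subgroup G) : Set G) :=
    (Cfsg.Agent.Lib.Helper55.pred_largestPReducedOf M).pCoreOf_le_centralizer
  have hMC := le_normalizer_centralizer_Y p M
  have hPL : Cfsg.pCoreOf p M ≤ Subgroup.centralizer ({g * x * g⁻¹} : Set G) := by
    intro z hz
    rw [Subgroup.mem_centralizer_iff]
    intro w hw
    rw [Set.mem_singleton_iff] at hw
    subst hw
    exact Subgroup.mem_centralizer_iff.mp (hPC hz) _ hgx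
  have hgPL : cj g (Cfsg.pCoreOf p M) ≤ Subgroup.centralizer ({g * x * g⁻¹} : Set G) := by
    intro z hz
    rw [mem_cj] at hz
    have h1 := Subgroup.mem_centralizer_iff.mp (hPC hz) x hx
    rw [Subgroup.mem_centralizer_iff]
    intro w hw
    rw [Set.mem_singleton_iff] at hw
    subst hw
    have e1 : g * x * g⁻¹ * z = g * (x * (g⁻¹ * z * g)) * g⁻¹ := by group
    rw [e1, h1]; group
  obtain ⟨T₁, hT₁, hPT₁⟩ := exists_sylIn_ge (Cfsg.pCoreOf p M) _ hPp hPL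
  obtain ⟨l, hl, hle⟩ := hT₁.exists_le_cj hgPL (cj_isPGroup hPp)
  have h2 : cj (l⁻¹ * g) (Cfsg.pCoreOf p M) ≤ T₁ := by
    rw [cj_mul]
    have := cj_mono (g := l⁻¹) hle
    rwa [cj_inv_cj] at this
  have h3 := wc_conj_eq hwc T₁ hT₁.isPGroup hPT₁ (l⁻¹ * g) h2
  have h4 := hNP (mem_normalizer_of_conj_eq _ _ h3)
  have h4' : l⁻¹ * g ∈ ((M : Subgroup G) : Set G) *
      ((Subgroup.centralizer ((Cfsg.largestPReducedOf p M : Subgroup G) : Set G) : Subgroup G) :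
        Set G) := by
    rw [← Subgroup.coe_mul_of_left_le_normalizer_right M _ hMC]; exact h4
  obtain ⟨m, hm, c, hc, e⟩ := Set.mem_mul.mp h4'
  refine ⟨m, hm, ?_⟩
  have hcx : c * x * c⁻¹ = x := by
    have := Subgroup.mem_centralizer_iff.mp hc x hx
    rw [← this]; group
  have hlx : l⁻¹ * (g * x * g⁻¹) * l = g * x * g⁻¹ := by
    have := Subgroup.mem_centralizer_iff.mp hl (g * x * g⁻¹) (Set.mem_singleton _)
    rw [mul_assoc, this]; group
  have e2 : g = l * (m * c) := by rw [e]; group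
  calc m * x * m⁻¹ = m * (c * x * c⁻¹) * m⁻¹ := by rw [hcx]
    _ = l⁻¹ * (g * x * g⁻¹) * l := by rw [e2]; group
    _ = g * x * g⁻¹ := hlx

end Cfsg.Agent.Lib.Helper56
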