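import Cfsg.Prelude.Def_LocalStructure
import Cfsg.Agent.Lib.Helper56.AxB
import Mathlib

set_option autoImplicit false
open Cfsg
open scoped Pointwise

namespace Cfsg.Agent.Lib.Helper56

variable {G : Type*} [Group G]

local notation "⟪" Q ", " g "⟫" => Subgroup.map (MulEquiv.toMonoidHom (MulAut.conj g)) Q

/-- `S` is a maximal `p`-subgroup of `H` -/
def IsMaxP (p : ℕ) (H S : Subgroup G) : Prop :=
  S ≤ H ∧ IsPGroup p S ∧ ∀ Q : Subgroup G, Q ≤ H → IsPGroup p Q → S ≤ Q → Q = S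

/-- `(H, T, M)` is a `p`-minimal triple -/
def IsPMinTriple (p : ℕ) (H T M : Subgroup G) : Prop :=
  IsMaxP p H T ∧ M < H ∧ T ≤ M ∧ (∀ X : Subgroup G, X < H → T ≤ X → X ≤ M) ∧
    ¬ H ≤ Subgroup.normalizer (M : Set G)

/-- `L` is a good witness for the L-lemma relative to `M'` -/
def GoodW0 (p : ℕ) (H M' A L : Subgroup G) : Prop :=
  L ≤ H ∧ A ⊔ Cfsg.pCoreOf p H ≤ L ∧ L ⊓ M' < L ∧ A ⊔ Cfsg.pCoreOf p L ≤ L ⊓ M' ∧
    (∀ X : Subgroup G, A ⊔ Cfsg.pCoreOf p L ≤ X → X < L → X ≤ L ⊓ M') ∧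
    ¬ L ≤ Subgroup.normalizer ((L ⊓ M' : Subgroup G) : Set G)

theorem conj_lt_conj {Q R : Subgroup G} (g : G) (h : Q < R) : ⟪Q, g⟫ < ⟪R, g⟫ :=
  lt_of_le_of_ne (Subgroup.map_mono h.le) (fun e => h.ne (conj_map_injective g e))

theorem conj_inf (Q R : Subgroup G) (g : G) : ⟪Q ⊓ R, g⟫ = ⟪Q, g⟫ ⊓ ⟪R, g⟫ :=
  Subgroup.map_inf_eq Q R _ (MulAut.conj g).injective

theorem conj_inv_conj (Q : Subgroup G) (g : G) : ⟪⟪Q, g⟫, g⁻¹⟫ = Q := by
  rw [conj_map_map, inv_mul_cancel, conj_one_map]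

theorem conj_conj_inv (Q : Subgroup G) (g : G) : ⟪⟪Q, g⁻¹⟫, g⟫ = Q := by
  rw [conj_map_map, mul_inv_cancel, conj_one_map]

theorem conj_of_mem (H : Subgroup G) {h : G} (hh : h ∈ H) : ⟪H, h⟫ = H :=
  conj_eq_of_mem_normalizer H h (Subgroup.le_normalizer hh)

theorem conj_le_of_le_of_mem {Q H : Subgroup G} (hQ : Q ≤ H) {h : G} (hh : h ∈ H) : ⟪Q, h⟫ ≤ H := by
  have := Subgroup.map_mono (f := (MulAut.conj h).toMonoidHom) hQ
  rwa [conj_of_mem H hh] at this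

theorem card_conj [Finite G] (Q : Subgroup G) (g : G) : Nat.card ⟪Q, g⟫ = Nat.card Q :=
  Subgroup.card_map_of_injective (MulAut.conj g).injective

section sylow

variable [Finite G] {p : ℕ} [Fact p.Prime]

theorem exists_maxP (H P : Subgroup G) (hPH : P ≤ H) (hP : IsPGroup p P) :
    ∃ S, IsMaxP p H S ∧ P ≤ S := by
  obtain ⟨S, hPS, hmax⟩ :=
    Finite.exists_le_maximal (p := fun Q : Subgroup G => Q ≤ H ∧ IsPGroup p Q) (a := P) ⟨hPH, hP⟩
  refine ⟨S, ⟨hmax.prop.1, hmax.prop.2, ?_⟩, hPS⟩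
  intro Q hQH hQ hSQ
  exact le_antisymm (hmax.le_of_ge ⟨hQH, hQ⟩ hSQ) hSQ

theorem maxP_conj_le (H S P : Subgroup G) (hS : IsMaxP p H S) (hPH : P ≤ H) (hP : IsPGroup p P) :
    ∃ h ∈ H, P ≤ ⟪S, h⟫ := by
  have hS' : IsPGroup p (S.subgroupOf H) :=
    hS.2.1.comap_of_injective H.subtype H.subtype_injective
  obtain ⟨R, hR⟩ := hS'.exists_le_sylow
  have hRS : (R : Subgroup ↥H).map H.subtype = S := by
    apply hS.2.2 _ (Subgroup.map_subtype_le _) (R.2.map _)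
    intro s hs
    exact ⟨⟨s, hS.1 hs⟩, hR (by simpa [Subgroup.mem_subgroupOf] using hs), rfl⟩
  obtain ⟨k, hk, hconj⟩ := exists_conj_into_sylow_of H R P hPH hP
  refine ⟨k, hk, ?_⟩
  intro x hx
  rw [mem_conj_iff, ← hRS]
  exact hconj x hx

theorem maxP_conj (H S : Subgroup G) (hS : IsMaxP p H S) {h : G} (hh : h ∈ H) :
    IsMaxP p H ⟪S, h⟫ := by
  refine ⟨conj_le_of_le_of_mem hS.1 hh, hS.2.1.map _, ?_⟩
  intro Q hQH hQ hSQ
  obtain ⟨k, -, hk⟩ := maxP_conj_le H S Q hS hQH hQ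
  symm
  apply Subgroup.eq_of_le_of_card_ge hSQ
  rw [card_conj]
  have := Subgroup.card_le_of_le hk
  rwa [card_conj] at this

theorem pCoreOf_le_maxP (H S : Subgroup G) (hS : IsMaxP p H S) : Cfsg.pCoreOf p H ≤ S := by
  have hp : IsPGroup p (S ⊔ Cfsg.pCoreOf p H : Subgroup G) :=
    IsPGroup.to_sup_of_normal_right' hS.2.1 (pCoreOf_isPGroup p H)
      (hS.1.trans (le_normalizer_pCoreOf p H))
  have h := hS.2.2 _ (sup_le hS.1 (pCoreOf_le p H)) hp le_sup_left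
  rw [← h]
  exact le_sup_right

theorem exists_conj_in_normalizer (P B : Subgroup G) (hP : IsPGroup p P) (hBP : B ≤ P)
    (hn : ¬ P ≤ Subgroup.normalizer (B : Set G)) :
    ∃ x ∈ P, ⟪B, x⟫ ≠ B ∧ B ⊔ ⟪B, x⟫ ≤ P ⊓ Subgroup.normalizer (B : Set G) := by
  have hne : P ⊓ Subgroup.normalizer (B : Set G) ≠ P := fun h => hn (h ▸ inf_le_right)
  have hlt := pgroup_lt_normalizer P (P ⊓ Subgroup.normalizer (B : Set G)) hP inf_le_left hne
  obtain ⟨x, hx, hxn⟩ := SetLike.exists_of_lt hlt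
  obtain ⟨hxP, hxN⟩ := Subgroup.mem_inf.mp hx
  have hxB : x ∉ Subgroup.normalizer (B : Set G) := fun h => hxn (Subgroup.mem_inf.mpr ⟨hxP, h⟩)
  refine ⟨x, hxP, fun h => hxB (mem_normalizer_of_conj_eq B x h), ?_⟩
  apply sup_le (le_inf hBP Subgroup.le_normalizer)
  have h1 : ⟪B, x⟫ ≤ ⟪P ⊓ Subgroup.normalizer (B : Set G), x⟫ :=
    Subgroup.map_mono (le_inf hBP Subgroup.le_normalizer)
  rwa [conj_eq_of_mem_normalizer _ x hxN] at h1

theorem pCoreOf_conj_le (L : Subgroup G) (x : G) :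
    ⟪Cfsg.pCoreOf p L, x⟫ ≤ Cfsg.pCoreOf p ⟪L, x⟫ := by
  apply le_pCoreOf _ _ (Subgroup.map_mono (pCoreOf_le p L)) _ ((pCoreOf_isPGroup p L).map _)
  intro y hy
  rw [mem_normalizer_conj_iff]
  rw [mem_conj_iff] at hy
  exact le_normalizer_pCoreOf p L hy

theorem pCoreOf_conj (L : Subgroup G) (x : G) :
    Cfsg.pCoreOf p ⟪L, x⟫ = ⟪Cfsg.pCoreOf p L, x⟫ := by
  apply le_antisymm _ (pCoreOf_conj_le L x)
  have h := pCoreOf_conj_le (p := p) ⟪L, x⟫ x⁻¹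
  rw [conj_inv_conj] at h
  have h2 := (conj_map_le_iff _ _ _).mp h
  rwa [inv_inv] at h2

end sylow

section triple

variable [Finite G] {p : ℕ} [Fact p.Prime]

theorem triple_conj {H T M : Subgroup G} (hT : IsPMinTriple p H T M) {h : G} (hh : h ∈ H) :
    IsPMinTriple p H ⟪T, h⟫ ⟪M, h⟫ := by
  obtain ⟨h1, h2, h3, h4, h5⟩ := hT
  refine ⟨maxP_conj H T h1 hh, ?_, Subgroup.map_mono h3, ?_, ?_⟩
  · have := conj_lt_conj h h2
    rwa [conj_of_mem H hh] at this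
  · intro X hX hTX
    have hX' : ⟪X, h⁻¹⟫ < H := by
      have := conj_lt_conj h⁻¹ hX
      rwa [conj_of_mem H (H.inv_mem hh)] at this
    have h6 := h4 _ hX' ((conj_map_le_iff _ _ _).mp hTX)
    have h7 := (conj_map_le_iff _ _ _).mp h6
    rwa [inv_inv] at h7
  · intro hn
    apply h5
    intro y hy
    have h6 := hn (H.mul_mem (H.mul_mem hh hy) (H.inv_mem hh))
    rw [mem_normalizer_conj_iff] at h6
    have e : h⁻¹ * (h * y * h⁻¹) * h = y := by group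
    rwa [e] at h6

/-- the conclusion (b) of the L-lemma -/
theorem goodW0_gen {H M' A L : Subgroup G} (hW : GoodW0 p H M' A L) {x : G} (hx : x ∈ L)
    (hx0 : x ∉ L ⊓ M') : A ⊔ ⟪A, x⟫ ⊔ Cfsg.pCoreOf p L = L := by
  obtain ⟨w1, w2, w3, w4, w5, w6⟩ := hW
  have hAL : A ≤ L := (le_sup_left.trans w4).trans inf_le_left
  have hle : A ⊔ ⟪A, x⟫ ⊔ Cfsg.pCoreOf p L ≤ L :=
    sup_le (sup_le hAL (conj_le_of_le_of_mem hAL hx)) (pCoreOf_le p L)
  by_contra hne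
  have hlt : A ⊔ ⟪A, x⟫ ⊔ Cfsg.pCoreOf p L < L := lt_of_le_of_ne hle hne
  have h1 := w5 _ (sup_le (le_sup_left.trans le_sup_left) le_sup_right) hlt
  have hAx : ⟪A, x⟫ ≤ L ⊓ M' := ((le_sup_right : ⟪A, x⟫ ≤ A ⊔ ⟪A, x⟫).trans le_sup_left).trans h1
  -- the conjugate of L₀ by x⁻¹ contains A ⊔ O_p(L)
  have h2 : A ⊔ Cfsg.pCoreOf p L ≤ ⟪L ⊓ M', x⁻¹⟫ := by
    apply sup_le
    · have := (conj_map_le_iff _ _ _).mp hAx
      exact this
    · have h3 : ⟪Cfsg.pCoreOf p L, x⁻¹⟫ ≤ ⟪L ⊓ M', x⁻¹⟫ :=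
        Subgroup.map_mono (le_sup_right.trans w4)
      rwa [conj_eq_of_mem_normalizer _ _ (le_normalizer_pCoreOf p L (L.inv_mem hx))] at h3
  have h3 : ⟪L ⊓ M', x⁻¹⟫ < L := by
    have := conj_lt_conj x⁻¹ w3
    rwa [conj_of_mem L (L.inv_mem hx)] at this
  have h4 := conj_eq_of_le _ _ (w5 _ h2 h3)
  have h5 : x⁻¹ ∈ Subgroup.normalizer ((L ⊓ M' : Subgroup G) : Set G) :=
    mem_normalizer_of_conj_eq _ _ h4
  have h6 : x ∈ Subgroup.normalizer ((L ⊓ M' : Subgroup G) : Set G) := by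
    have := Subgroup.inv_mem _ h5
    rwa [inv_inv] at this
  -- L ⊓ N(L₀) is a proper subgroup containing A ⊔ O_p(L)
  have h7 : L ⊓ Subgroup.normalizer ((L ⊓ M' : Subgroup G) : Set G) < L :=
    lt_of_le_of_ne inf_le_left (fun e => w6 (e.ge.trans inf_le_right))
  have h8 := w5 _ (le_inf ((w4.trans inf_le_left)) (w4.trans Subgroup.le_normalizer)) h7
  exact hx0 (h8 (Subgroup.mem_inf.mpr ⟨hx, h6⟩))

theorem goodW0_not_le_pCoreOf {H M' A L : Subgroup G} (hW : GoodW0 p H M' A L) :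
    ¬ A ≤ Cfsg.pCoreOf p L := by
  obtain ⟨w1, w2, w3, w4, w5, w6⟩ := hW
  intro hA
  apply w6
  intro y hy
  have h2 : A ⊔ Cfsg.pCoreOf p L ≤ ⟪L ⊓ M', y⟫ := by
    apply sup_le (hA.trans _) _
    · have h3 : ⟪Cfsg.pCoreOf p L, y⟫ ≤ ⟪L ⊓ M', y⟫ := Subgroup.map_mono (le_sup_right.trans w4)
      rwa [conj_eq_of_mem_normalizer _ _ (le_normalizer_pCoreOf p L hy)] at h3
    · have h3 : ⟪Cfsg.pCoreOf p L, y⟫ ≤ ⟪L ⊓ M', y⟫ := Subgroup.map_mono (le_sup_right.trans w4)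
      rwa [conj_eq_of_mem_normalizer _ _ (le_normalizer_pCoreOf p L hy)] at h3
  have h3 : ⟪L ⊓ M', y⟫ < L := by
    have := conj_lt_conj y w3
    rwa [conj_of_mem L hy] at this
  exact mem_normalizer_of_conj_eq _ _ (conj_eq_of_le _ _ (w5 _ h2 h3))

theorem goodW0_triple {H M' A L : Subgroup G} (hW : GoodW0 p H M' A L) (hA : IsPGroup p A) :
    ∃ S, IsPMinTriple p L S (L ⊓ M') := by
  obtain ⟨w1, w2, w3, w4, w5, w6⟩ := hW
  have hAL : A ≤ L := (le_sup_left.trans w4).trans inf_le_left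
  have hP : IsPGroup p (A ⊔ Cfsg.pCoreOf p L : Subgroup G) :=
    IsPGroup.to_sup_of_normal_right' hA (pCoreOf_isPGroup p L)
      (hAL.trans (le_normalizer_pCoreOf p L))
  obtain ⟨S, hS, hPS⟩ := exists_maxP L _ (sup_le hAL (pCoreOf_le p L)) hP
  have hSL : S < L := by
    apply lt_of_le_of_ne hS.1
    intro e
    have hLp : IsPGroup p L := e ▸ hS.2.1
    have h1 : L ≤ Cfsg.pCoreOf p L := le_pCoreOf L L le_rfl Subgroup.le_normalizer hLp
    exact w3.not_ge ((h1.trans le_sup_right).trans w4)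
  exact ⟨S, hS, w3, w5 _ hPS hSL, fun X hX hSX => w5 _ (hPS.trans hSX) hX, w6⟩

theorem goodW0_of_sup {H M' A L : Subgroup G} (hW : GoodW0 p H M' (A ⊔ Cfsg.pCoreOf p H) L) :
    GoodW0 p H M' A L := by
  obtain ⟨w1, w2, w3, w4, w5, w6⟩ := hW
  have hO : Cfsg.pCoreOf p H ≤ Cfsg.pCoreOf p L :=
    le_pCoreOf L _ (le_sup_right.trans w2) (w1.trans (le_normalizer_pCoreOf p H))
      (pCoreOf_isPGroup p H)
  refine ⟨w1, (sup_le_sup_right le_sup_left _).trans w2,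
    w3, (sup_le_sup_right le_sup_left _).trans w4, ?_, w6⟩
  intro X hX hXL
  apply w5 X _ hXL
  exact sup_le (sup_le (le_sup_left.trans hX) ((hO.trans le_sup_right).trans hX))
    (le_sup_right.trans hX)

theorem goodW0_lift {H M₂ A' L₂ L : Subgroup G} (hL₂H : L₂ ≤ H)
    (hOL₂ : Cfsg.pCoreOf p H ≤ L₂) {l : G} (hl : l ∈ L₂)
    (hW : GoodW0 p L₂ ⟪L₂ ⊓ M₂, l⟫ A' L) : GoodW0 p H ⟪M₂, l⟫ A' L := by
  obtain ⟨w1, w2, w3, w4, w5, w6⟩ := hW
  have e : L ⊓ ⟪L₂ ⊓ M₂, l⟫ = L ⊓ ⟪M₂, l⟫ := by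
    rw [conj_inf, conj_of_mem L₂ hl, ← inf_assoc, inf_eq_left.mpr w1]
  rw [e] at w3 w4 w5 w6
  have hO : Cfsg.pCoreOf p H ≤ Cfsg.pCoreOf p L₂ :=
    le_pCoreOf L₂ _ hOL₂ (hL₂H.trans (le_normalizer_pCoreOf p H)) (pCoreOf_isPGroup p H)
  exact ⟨w1.trans hL₂H, sup_le (le_sup_left.trans w2) ((hO.trans le_sup_right).trans w2),
    w3, w4, w5, w6⟩

theorem goodW0_conj {H M' A L : Subgroup G} {x : G} (hx : x ∈ H)
    (hW : GoodW0 p H M' ⟪A, x⟫ L) : GoodW0 p H ⟪M', x⁻¹⟫ A ⟪L, x⁻¹⟫ := by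
  obtain ⟨w1, w2, w3, w4, w5, w6⟩ := hW
  have hxi : x⁻¹ ∈ H := H.inv_mem hx
  have eA : ⟪⟪A, x⟫, x⁻¹⟫ = A := conj_inv_conj A x
  have eO : ⟪Cfsg.pCoreOf p H, x⁻¹⟫ = Cfsg.pCoreOf p H :=
    conj_eq_of_mem_normalizer _ _ (le_normalizer_pCoreOf p H hxi)
  have eI : ⟪L ⊓ M', x⁻¹⟫ = ⟪L, x⁻¹⟫ ⊓ ⟪M', x⁻¹⟫ := conj_inf _ _ _
  have e5 : ⟪⟪A, x⟫ ⊔ Cfsg.pCoreOf p L, x⁻¹⟫ = A ⊔ Cfsg.pCoreOf p ⟪L, x⁻¹⟫ := by
    rw [Subgroup.map_sup, eA, pCoreOf_conj]
  refine ⟨conj_le_of_le_of_mem w1 hxi, ?_, ?_, ?_, ?_, ?_⟩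
  · have := Subgroup.map_mono (f := (MulAut.conj x⁻¹).toMonoidHom) w2
    rwa [Subgroup.map_sup, eA, eO] at this
  · have := conj_lt_conj x⁻¹ w3
    rwa [eI] at this
  · have := Subgroup.map_mono (f := (MulAut.conj x⁻¹).toMonoidHom) w4
    rwa [e5, eI] at this
  · intro X hX hXL
    have h1 : ⟪A, x⟫ ⊔ Cfsg.pCoreOf p L ≤ ⟪X, x⟫ := by
      have := Subgroup.map_mono (f := (MulAut.conj x).toMonoidHom) hX
      rwa [Subgroup.map_sup, ← pCoreOf_conj, conj_conj_inv] at this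
    have h2 : ⟪X, x⟫ < L := by
      have := conj_lt_conj x hXL
      rwa [conj_conj_inv] at this
    have h3 := Subgroup.map_mono (f := (MulAut.conj x⁻¹).toMonoidHom) (w5 _ h1 h2)
    rwa [conj_inv_conj, eI] at h3
  · intro hn
    apply w6
    intro y hy
    have hy' : x⁻¹ * y * x ∈ ⟪L, x⁻¹⟫ := by
      rw [mem_conj_iff]
      have e : x⁻¹⁻¹ * (x⁻¹ * y * x) * x⁻¹ = y := by group
      rw [e]; exact hy
    have h1 := hn hy'
    rw [← eI, mem_normalizer_conj_iff] at h1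
    have e : x⁻¹⁻¹ * (x⁻¹ * y * x) * x⁻¹ = y := by group
    rwa [e] at h1

end triple

section main

variable [Finite G] {p : ℕ} [Fact p.Prime]

theorem lLemma_direct (H T M B K : Subgroup G) (hT : IsPMinTriple p H T M)
    (hBT : B ≤ T) (hBp : IsPGroup p B) (hBO : ¬ B ≤ Cfsg.pCoreOf p H)
    (hOB : Cfsg.pCoreOf p H ≤ B) (hKH : K < H) (hBK : B ≤ K) (hKM : ¬ K ≤ M)
    (hF : ∀ x ∈ H, IsPGroup p ↥(B ⊔ ⟪B, x⟫) → ⟪B, x⟫ ≠ B →
      ∃ N : Subgroup G, Nat.card N = Nat.card M ∧ B ⊔ ⟪B, x⟫ ≤ N ∧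
        ∀ X : Subgroup G, X < H → B ⊔ ⟪B, x⟫ ≤ X → X ≤ N) :
    ∃ L, GoodW0 p H M B L := by
  obtain ⟨t1, t2, t3, t4, t5⟩ := hT
  have hU : ∀ x ∈ H, IsPGroup p ↥(B ⊔ ⟪B, x⟫) → ⟪B, x⟫ ≠ B → B ⊔ ⟪B, x⟫ ≤ M →
      ∀ X : Subgroup G, X < H → B ⊔ ⟪B, x⟫ ≤ X → X ≤ M := by
    intro x hx hp hne hle X hX hBX
    obtain ⟨N, hc, hN1, hN2⟩ := hF x hx hp hne
    have hMN : M = N := Subgroup.eq_of_le_of_card_ge (hN2 M t2 hle) hc.le
    rw [hMN]
    exact hN2 X hX hBX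
  have hBH : B ≤ H := hBT.trans t1.1
  have hNB : H ⊓ Subgroup.normalizer (B : Set G) < H := by
    apply lt_of_le_of_ne inf_le_left
    intro e
    exact hBO (le_pCoreOf H B hBH (e.ge.trans inf_le_right) hBp)
  have Fa : H ⊓ Subgroup.normalizer (B : Set G) ≤ M := by
    by_cases hTn : T ≤ Subgroup.normalizer (B : Set G)
    · exact t4 _ hNB (le_inf t1.1 hTn)
    · obtain ⟨x, hxT, hne, hle⟩ := exists_conj_in_normalizer T B t1.2.1 hBT hTn
      exact hU x (t1.1 hxT) (t1.2.1.to_le (hle.trans inf_le_left)) hne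
        (hle.trans (inf_le_left.trans t3)) _ hNB (hle.trans (inf_le_inf t1.1 le_rfl))
  have Fb : ∀ P : Subgroup G, P ≤ K → IsPGroup p P → B ≤ P →
      P ≤ Subgroup.normalizer (B : Set G) := by
    intro P hPK hP hBP
    by_contra hn
    obtain ⟨x, hxP, hne, hle⟩ := exists_conj_in_normalizer P B hP hBP hn
    exact hKM (hU x (hKH.le (hPK hxP)) (hP.to_le (hle.trans inf_le_left)) hne
      (hle.trans ((inf_le_inf (hPK.trans hKH.le) le_rfl).trans Fa)) K hKH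
      ((hle.trans inf_le_left).trans hPK))
  have Fc : ∀ k ∈ K, IsPGroup p ↥(B ⊔ ⟪B, k⟫) → ⟪B, k⟫ = B := by
    intro k hk hp
    by_contra hne
    have hPK : B ⊔ ⟪B, k⟫ ≤ K := sup_le hBK (conj_le_of_le_of_mem hBK hk)
    have hPN := Fb _ hPK hp le_sup_left
    exact hKM (hU k (hKH.le hk) hp hne ((le_inf (hPK.trans hKH.le) hPN).trans Fa) K hKH hPK)
  obtain ⟨L, hLK, hmin⟩ :=
    Finite.exists_le_minimal (p := fun L : Subgroup G => B ≤ L ∧ L ≤ K ∧ ¬ L ≤ M) (a := K)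
      ⟨hBK, le_rfl, hKM⟩
  obtain ⟨hBL, -, hLM⟩ := hmin.prop
  have h4 : B ⊔ Cfsg.pCoreOf p L ≤ L ⊓ M := by
    have hp : IsPGroup p (B ⊔ Cfsg.pCoreOf p L : Subgroup G) :=
      IsPGroup.to_sup_of_normal_right' hBp (pCoreOf_isPGroup p L)
        (hBL.trans (le_normalizer_pCoreOf p L))
    have hPL : B ⊔ Cfsg.pCoreOf p L ≤ L := sup_le hBL (pCoreOf_le p L)
    have hPN := Fb _ (hPL.trans hLK) hp le_sup_left
    exact le_inf hPL ((le_inf ((hPL.trans hLK).trans hKH.le) hPN).trans Fa)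
  refine ⟨L, hLK.trans hKH.le, sup_le hBL (hOB.trans hBL), inf_lt_left.mpr hLM, h4, ?_, ?_⟩
  · intro X hX hXL
    apply le_inf hXL.le
    by_contra hXM
    exact hXL.not_ge (hmin.le_of_le ⟨le_sup_left.trans hX, hXL.le.trans hLK, hXM⟩ hXL.le)
  · intro hn
    apply hLM
    suffices h : L ≤ L ⊓ M from h.trans inf_le_right
    obtain ⟨S, hS, hBS⟩ := exists_maxP (L ⊓ M) B (le_sup_left.trans h4) hBp
    intro l hl
    have hlN := hn hl
    have hS' : ⟪S, l⟫ ≤ L ⊓ M := by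
      have := Subgroup.map_mono (f := (MulAut.conj l).toMonoidHom) hS.1
      rwa [conj_eq_of_mem_normalizer _ _ hlN] at this
    obtain ⟨m, hm, hle⟩ := maxP_conj_le (L ⊓ M) S ⟪S, l⟫ hS hS' (hS.2.1.map _)
    have heq : ⟪S, l⟫ = ⟪S, m⟫ := by
      apply Subgroup.eq_of_le_of_card_ge hle
      rw [card_conj, card_conj]
    have hn' : ⟪S, m⁻¹ * l⟫ = S := by
      rw [← conj_map_map, heq, conj_inv_conj]
    have hmL : m ∈ L := (Subgroup.mem_inf.mp hm).1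
    have hnK : m⁻¹ * l ∈ K := hLK (L.mul_mem (L.inv_mem hmL) hl)
    have hBn : ⟪B, m⁻¹ * l⟫ ≤ S := by
      have := Subgroup.map_mono (f := (MulAut.conj (m⁻¹ * l)).toMonoidHom) hBS
      rwa [hn'] at this
    have hBeq := Fc _ hnK (hS.2.1.to_le (sup_le hBS hBn))
    have hnN : m⁻¹ * l ∈ Subgroup.normalizer (B : Set G) := mem_normalizer_of_conj_eq _ _ hBeq
    have hnM : m⁻¹ * l ∈ M := Fa (Subgroup.mem_inf.mpr ⟨hKH.le hnK, hnN⟩)
    have hnL0 : m⁻¹ * l ∈ L ⊓ M :=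
      Subgroup.mem_inf.mpr ⟨L.mul_mem (L.inv_mem hmL) hl, hnM⟩
    have e : l = m * (m⁻¹ * l) := by group
    rw [e]
    exact Subgroup.mul_mem _ hm hnL0

theorem lLemma_main :
    ∀ (n : ℕ) (H T M A : Subgroup G), Nat.card H ≤ n → IsPMinTriple p H T M → A ≤ H →
      IsPGroup p A → ¬ A ≤ Cfsg.pCoreOf p H → ∃ L g, g ∈ H ∧ GoodW0 p H ⟪M, g⟫ A L := by
  intro n
  induction n with
  | zero =>
    intro H T M A hc
    exact absurd hc (by have := Nat.card_pos (α := H); omega)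
  | succ n ih =>
    intro H T M A hc hT hAH hAp hAO
    -- inner induction
    have inner : ∀ (m : ℕ) (B : Subgroup G), B ≤ H → IsPGroup p B → ¬ B ≤ Cfsg.pCoreOf p H →
        Cfsg.pCoreOf p H ≤ B → Nat.card H - Nat.card B = m →
        ∃ L g, g ∈ H ∧ GoodW0 p H ⟪M, g⟫ B L := by
      intro m
      induction m using Nat.strong_induction_on with
      | _ m ihm =>
        intro B hBH hBp hBO hOB hm
        obtain ⟨h, hh, hBT⟩ := maxP_conj_le H T B hT.1 hBH hBp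
        have hT' := triple_conj hT hh
        by_cases h0 : ∀ X : Subgroup G, X < H → B ≤ X → X ≤ ⟪M, h⟫
        · refine ⟨H, h, hh, le_rfl, sup_le hBH (pCoreOf_le p H), ?_, ?_, ?_, ?_⟩
          · exact inf_lt_left.mpr hT'.2.1.not_ge
          · exact le_inf (sup_le hBH (pCoreOf_le p H))
              (sup_le (hBT.trans hT'.2.2.1) (hOB.trans (hBT.trans hT'.2.2.1)))
          · intro X hX hXH
            exact le_inf hXH.le (h0 X hXH (le_sup_left.trans hX))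
          · rw [inf_eq_right.mpr hT'.2.1.le]
            exact hT'.2.2.2.2
        · push Not at h0
          obtain ⟨K, hKH, hBK, hKM⟩ := h0
          by_cases hF : ∀ x ∈ H, IsPGroup p ↥(B ⊔ ⟪B, x⟫) → ⟪B, x⟫ ≠ B →
              ∃ g ∈ H, B ⊔ ⟪B, x⟫ ≤ ⟪M, g⟫ ∧
                ∀ X : Subgroup G, X < H → B ⊔ ⟪B, x⟫ ≤ X → X ≤ ⟪M, g⟫
          · obtain ⟨L, hL⟩ := lLemma_direct H ⟪T, h⟫ ⟪M, h⟫ B K hT' hBT hBp hBO hOB hKH hBK hKM
              (by
                intro x hx hp hne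
                obtain ⟨g, -, hg1, hg2⟩ := hF x hx hp hne
                exact ⟨⟪M, g⟫, by rw [card_conj, card_conj], hg1, hg2⟩)
            exact ⟨L, h, hh, hL⟩
          · push Not at hF
            obtain ⟨x, hxH, hP₂, hne, hnU⟩ := hF
            have hBxH : ⟪B, x⟫ ≤ H := conj_le_of_le_of_mem hBH hxH
            have hB₂H : B ⊔ ⟪B, x⟫ ≤ H := sup_le hBH hBxH
            have hlt : Nat.card B < Nat.card ↥(B ⊔ ⟪B, x⟫) := by
              by_contra hcon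
              push Not at hcon
              have e : B = B ⊔ ⟪B, x⟫ := Subgroup.eq_of_le_of_card_ge le_sup_left hcon
              apply hne
              apply conj_eq_of_le
              exact le_sup_right.trans e.ge
            have hle : Nat.card ↥(B ⊔ ⟪B, x⟫) ≤ Nat.card H := Subgroup.card_le_of_le hB₂H
            obtain ⟨L₂, g₂, hg₂, hW₂⟩ := ihm (Nat.card H - Nat.card ↥(B ⊔ ⟪B, x⟫)) (by omega)
              (B ⊔ ⟪B, x⟫) hB₂H hP₂ (fun hc => hBO (le_sup_left.trans hc))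
              (hOB.trans le_sup_left) rfl
            have hL₂H : L₂ ≤ H := hW₂.1
            have hL₂ne : L₂ ≠ H := by
              intro e
              obtain ⟨w1, w2, w3, w4, w5, w6⟩ := hW₂
              rw [e] at w4 w5
              obtain ⟨X, hX1, hX2, hX3⟩ := hnU g₂ hg₂ ((le_sup_left.trans w4).trans inf_le_right)
              exact hX3 ((w5 X (sup_le hX2 ((hOB.trans le_sup_left).trans hX2)) hX1).trans
                inf_le_right)
            have hcard : Nat.card L₂ ≤ n := by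
              have h1 : Nat.card L₂ < Nat.card H := by
                by_contra hcon
                push Not at hcon
                exact hL₂ne (Subgroup.eq_of_le_of_card_ge hL₂H hcon)
              omega
            obtain ⟨S₂, hT₂⟩ := goodW0_triple hW₂ hP₂
            have hnot := goodW0_not_le_pCoreOf hW₂
            have hB₂L₂ : B ⊔ ⟪B, x⟫ ≤ L₂ := le_sup_left.trans hW₂.2.1
            have hOL₂ : Cfsg.pCoreOf p H ≤ L₂ := le_sup_right.trans hW₂.2.1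
            by_cases hcase : B ≤ Cfsg.pCoreOf p L₂
            · have hBx : ¬ ⟪B, x⟫ ≤ Cfsg.pCoreOf p L₂ := fun hc => hnot (sup_le hcase hc)
              obtain ⟨L, l, hl, hW⟩ := ih L₂ S₂ (L₂ ⊓ ⟪M, g₂⟫) ⟪B, x⟫ hcard hT₂
                (le_sup_right.trans hB₂L₂) (hBp.map _) hBx
              have hW' := goodW0_conj hxH (goodW0_lift hL₂H hOL₂ hl hW)
              rw [conj_map_map, conj_map_map] at hW'
              exact ⟨_, _, H.mul_mem (H.mul_mem (H.inv_mem hxH) (hL₂H hl)) hg₂, hW'⟩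
            · obtain ⟨L, l, hl, hW⟩ := ih L₂ S₂ (L₂ ⊓ ⟪M, g₂⟫) B hcard hT₂
                (le_sup_left.trans hB₂L₂) hBp hcase
              have hW' := goodW0_lift hL₂H hOL₂ hl hW
              rw [conj_map_map] at hW'
              exact ⟨_, _, H.mul_mem (hL₂H hl) hg₂, hW'⟩
    -- from B = A ⊔ O_p(H) to A
    have hBp : IsPGroup p (A ⊔ Cfsg.pCoreOf p H : Subgroup G) :=
      IsPGroup.to_sup_of_normal_right' hAp (pCoreOf_isPGroup p H)
        (hAH.trans (le_normalizer_pCoreOf p H))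
    obtain ⟨L, g, hg, hW⟩ := inner _ (A ⊔ Cfsg.pCoreOf p H) (sup_le hAH (pCoreOf_le p H)) hBp
      (fun hc => hAO (le_sup_left.trans hc)) le_sup_right rfl
    exact ⟨L, g, hg, goodW0_of_sup hW⟩

end main

end Cfsg.Agent.Lib.Helper56
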