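import Cfsg.Prelude.Def_LocalStructure
import Cfsg.Agent.Lib.Helper56.Asym
import Cfsg.Agent.Lib.Helper55.ZL
import Cfsg.Agent.Lib.Helper55.PClosed
import Cfsg.Agent.Lib.Helper55.Frat
import Mathlib

set_option autoImplicit false
open Cfsg
open scoped Pointwise commutatorElement
open Cfsg.Agent.Lib.Helper55 (cj mem_cj cj_mono cj_mul cj_one cj_inv_cj cj_cj_inv cj_normalizer
  cj_isPGroup cj_ne_bot cj_eq_self_of_mem cj_eq_self_of_mem_normalizer mem_normalizer_of_cj_eq
  SylIn sylIn_of_sylow exists_sylIn PClos PEl pel_subtype pel_of_mem stabMod mem_stabMod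
  le_normalizer_stabMod le_normalizer_of_conj_mem)

namespace Cfsg.Agent.Lib.Helper56

variable {G : Type*} [Group G]

/-! ### normal closure inside a subgroup, ambient form -/

/-- the normal closure of `X` in `H`, as a subgroup of the ambient group -/
abbrev nclIn (X H : Subgroup G) : Subgroup G :=
  (Subgroup.normalClosure ((X.subgroupOf H : Subgroup ↥H) : Set ↥H)).map H.subtype

theorem nclIn_le (X H : Subgroup G) : nclIn X H ≤ H := Subgroup.map_subtype_le _

theorem le_nclIn (X H : Subgroup G) (hXH : X ≤ H) : X ≤ nclIn X H := by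
  intro x hx
  exact ⟨⟨x, hXH hx⟩, Subgroup.subset_normalClosure (Subgroup.mem_subgroupOf.mpr hx), rfl⟩

theorem le_normalizer_nclIn (X H : Subgroup G) :
    H ≤ Subgroup.normalizer ((nclIn X H : Subgroup G) : Set G) :=
  le_normalizer_map_subtype H _ Subgroup.normalClosure_normal

theorem nclIn_le_of (X H W : Subgroup G) (hXW : X ≤ W)
    (hHW : H ≤ Subgroup.normalizer (W : Set G)) : nclIn X H ≤ W := by
  have hn : (W.subgroupOf H).Normal := Subgroup.normal_subgroupOf_of_le_normalizer hHW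
  have h1 : Subgroup.normalClosure ((X.subgroupOf H : Subgroup ↥H) : Set ↥H) ≤ W.subgroupOf H := by
    apply Subgroup.normalClosure_le_normal
    intro x hx
    exact Subgroup.mem_subgroupOf.mpr (hXW (Subgroup.mem_subgroupOf.mp hx))
  rintro _ ⟨y, hy, rfl⟩
  exact Subgroup.mem_subgroupOf.mp (h1 hy)

/-- if `H` is the normal closure of `P` in `H`, a subgroup normalizing `P` and normalized by `H`
normalizes `H` -/
theorem normalizes_of_nclIn (P H Qn : Subgroup G) (hncl : nclIn P H = H)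
    (hQP : Qn ≤ Subgroup.normalizer (P : Set G)) (hHQ : H ≤ Subgroup.normalizer (Qn : Set G))
    (hPH : P ≤ H) : Qn ≤ Subgroup.normalizer (H : Set G) := by
  let W : Subgroup G :=
    { carrier := {x | x ∈ H ∧ ∀ q ∈ Qn, q * x * q⁻¹ ∈ H}
      mul_mem' := by
        rintro x y ⟨hx, hx'⟩ ⟨hy, hy'⟩
        refine ⟨H.mul_mem hx hy, fun q hq => ?_⟩
        have e : q * (x * y) * q⁻¹ = (q * x * q⁻¹) * (q * y * q⁻¹) := by group
        rw [e]; exact H.mul_mem (hx' q hq) (hy' q hq)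
      one_mem' := ⟨H.one_mem, fun q _ => by simp⟩
      inv_mem' := by
        rintro x ⟨hx, hx'⟩
        refine ⟨H.inv_mem hx, fun q hq => ?_⟩
        have e : q * x⁻¹ * q⁻¹ = (q * x * q⁻¹)⁻¹ := by group
        rw [e]; exact H.inv_mem (hx' q hq) }
  have hPW : P ≤ W := by
    intro x hx
    exact ⟨hPH hx, fun q hq => hPH ((Subgroup.mem_normalizer_iff.mp (hQP hq) x).mp hx)⟩
  have hHW : H ≤ Subgroup.normalizer (W : Set G) := by
    apply le_normalizer_of_conj_mem
    rintro h hh x ⟨hx, hx'⟩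
    refine ⟨H.mul_mem (H.mul_mem hh hx) (H.inv_mem hh), fun q hq => ?_⟩
    have hq' : h⁻¹ * q * h ∈ Qn := by
      have := (Subgroup.mem_normalizer_iff.mp (hHQ (H.inv_mem hh)) q).mp hq
      simpa using this
    have e : q * (h * x * h⁻¹) * q⁻¹ = h * ((h⁻¹ * q * h) * x * (h⁻¹ * q * h)⁻¹) * h⁻¹ := by group
    rw [e]
    exact H.mul_mem (H.mul_mem hh (hx' _ hq')) (H.inv_mem hh)
  have hHle : H ≤ W := by
    have := nclIn_le_of P H W hPW hHW
    rwa [hncl] at this
  apply le_normalizer_of_conj_mem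
  intro q hq x hx
  exact (hHle hx).2 q hq

/-! ### `p`-closed subgroups -/

theorem pClos_map_subtype {p : ℕ} (K : Subgroup G) (N : Subgroup ↥K) :
    PClos p N ↔ PClos p (N.map K.subtype) := by
  constructor
  · rintro h _ ⟨x, hx, rfl⟩ _ ⟨y, hy, rfl⟩ hpx hpy
    have := h x hx y hy ((pel_subtype x).mpr hpx) ((pel_subtype y).mpr hpy)
    exact (pel_subtype (x * y)).mp this
  · intro h x hx y hy hpx hpy
    exact (pel_subtype _).mpr (h x ⟨x, hx, rfl⟩ y ⟨y, hy, rfl⟩ ((pel_subtype x).mp hpx)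
      ((pel_subtype y).mp hpy))

/-- a `p`-closed subgroup times a normalized `p`-subgroup is `p`-closed -/
theorem pClos_sup_pgroup {p : ℕ} [Fact p.Prime] (X Qn : Subgroup G) (hX : PClos p X)
    (hQn : IsPGroup p Qn) (hXQ : X ≤ Subgroup.normalizer (Qn : Set G)) : PClos p (X ⊔ Qn) := by
  have hB : IsPGroup p (hX.elts ⊔ Qn : Subgroup G) :=
    IsPGroup.to_sup_of_normal_right' hX.elts_isPGroup hQn (hX.elts_le.trans hXQ)
  have key : ∀ x ∈ X ⊔ Qn, PEl p x → x ∈ hX.elts ⊔ Qn := by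
    intro x hx hpx
    have hx' : x ∈ ((X : Set G) * (Qn : Set G)) := by
      rw [← Subgroup.coe_mul_of_left_le_normalizer_right X Qn hXQ]; exact hx
    obtain ⟨a, ha, q, hq, rfl⟩ := Set.mem_mul.mp hx'
    have hU : IsPGroup p (Subgroup.zpowers (a * q) ⊔ Qn : Subgroup G) :=
      IsPGroup.to_sup_of_normal_right' hpx.isPGroup_zpowers hQn
        ((Subgroup.zpowers_le.mpr hx).trans (sup_le hXQ Subgroup.le_normalizer))
    have haU : a ∈ Subgroup.zpowers (a * q) ⊔ Qn := by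
      have h := (Subgroup.zpowers (a * q) ⊔ Qn).mul_mem
        (Subgroup.mem_sup_left (Subgroup.mem_zpowers (a * q)))
        (Subgroup.mem_sup_right (Qn.inv_mem hq))
      have e : (a * q) * q⁻¹ = a := by group
      rwa [e] at h
    exact Subgroup.mul_mem _ (Subgroup.mem_sup_left ⟨ha, pel_of_mem hU haU⟩)
      (Subgroup.mem_sup_right hq)
  intro x hx y hy hpx hpy
  exact pel_of_mem hB (Subgroup.mul_mem _ (key x hx hpx) (key y hy hpy))

/-! ### the asymmetric case: members of `ℌ` -/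

theorem dagger_le_normalizer_Y (p : ℕ) (M : Subgroup G) :
    M ⊔ Subgroup.centralizer ((Cfsg.largestPReducedOf p M : Subgroup G) : Set G) ≤
      Subgroup.normalizer ((Cfsg.largestPReducedOf p M : Subgroup G) : Set G) :=
  sup_le (le_normalizer_largestPReducedOf p M) (Subgroup.centralizer_le_normalizer _)

/-- `asym_parabolic` with the normalizing properties of the Sylow subgroup -/
theorem asym_parabolic' [Finite G] {p : ℕ} [Fact p.Prime] (S : Sylow p G) (Q : Subgroup G)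
    (hQp : IsPGroup p Q) (hQS : Q ≤ (S : Subgroup G)) (hQ : Cfsg.IsLarge Q)
    (M : Subgroup G) (hSM : (S : Subgroup G) ≤ M) (hM : Cfsg.IsInFrakM p M)
    (hasym : ¬ Cfsg.IsSymmetricIn (Cfsg.largestPReducedOf p M))
    (L : Subgroup G) (hPL : Cfsg.pCoreOf p M ≤ L) :
    ∃ T : Subgroup G, SylIn p T L ∧ Cfsg.pCoreOf p M ≤ T ∧
      T ≤ M ⊔ Subgroup.centralizer ((Cfsg.largestPReducedOf p M : Subgroup G) : Set G) ∧
      T ≤ Subgroup.normalizer ((Cfsg.pCoreOf p M : Subgroup G) : Set G) ∧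
      T ≤ Subgroup.normalizer ((Cfsg.largestPReducedOf p M : Subgroup G) : Set G) := by
  obtain ⟨T, hT, hPT, hTM⟩ := asym_parabolic S Q hQp hQS hQ M hSM hM hasym L hPL
  have hwc := asym_wc S Q hQp hQS hQ M hSM hM hasym
  exact ⟨T, hT, hPT, hTM, wc_le_normalizer hwc T hT.isPGroup hPT,
    hTM.trans (dagger_le_normalizer_Y p M)⟩

/-- members `H` of `ℌ`: an `H`-invariant subgroup of `H` containing `Y_M` generates `H`
together with `O_p(M)` -/
theorem frakH_sup_eq [Finite G] {p : ℕ} [Fact p.Prime] (M H V : Subgroup G)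
    (hPH : Cfsg.pCoreOf p M ≤ H) (hY : ¬ Cfsg.largestPReducedOf p M ≤ Cfsg.pCoreOf p H)
    (hmin : ∀ P : Subgroup G, Cfsg.pCoreOf p M ≤ P → P < H →
      Cfsg.largestPReducedOf p M ≤ Cfsg.pCoreOf p P)
    (hVH : V ≤ H) (hHV : H ≤ Subgroup.normalizer (V : Set G))
    (hYV : Cfsg.largestPReducedOf p M ≤ V) : V ⊔ Cfsg.pCoreOf p M = H := by
  by_contra hne
  have hle : V ⊔ Cfsg.pCoreOf p M ≤ H := sup_le hVH hPH
  have hlt : V ⊔ Cfsg.pCoreOf p M < H := lt_of_le_of_ne hle hne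
  have h1 := hmin _ le_sup_right hlt
  apply hY
  have h2 : Cfsg.pCoreOf p (V ⊔ Cfsg.pCoreOf p M) ⊓ V ≤ Cfsg.pCoreOf p V := by
    apply le_pCoreOf V _ inf_le_right
    · exact (le_inf (le_sup_left.trans (le_normalizer_pCoreOf p _)) Subgroup.le_normalizer).trans
        Subgroup.inf_normalizer_le_normalizer_inf
    · exact (pCoreOf_isPGroup p _).to_le inf_le_left
  exact (le_inf h1 hYV).trans (h2.trans (pCoreOf_le_pCoreOf_of_normal H V hVH hHV))

/-- `H = O^p(H) O_p(M)` for `H ∈ ℌ` -/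
theorem frakH_res_sup [Finite G] {p : ℕ} [Fact p.Prime] (S : Sylow p G) (Q : Subgroup G)
    (hQp : IsPGroup p Q) (hQS : Q ≤ (S : Subgroup G)) (hQ : Cfsg.IsLarge Q)
    (M : Subgroup G) (hSM : (S : Subgroup G) ≤ M) (hM : Cfsg.IsInFrakM p M)
    (hasym : ¬ Cfsg.IsSymmetricIn (Cfsg.largestPReducedOf p M))
    (H : Subgroup G) (hH : Cfsg.IsInFrakH p M H) : opOf p H ⊔ Cfsg.pCoreOf p M = H := by
  obtain ⟨-, hPH, hY, hmin⟩ := hH
  obtain ⟨T, hT, hPT, hTM, hTP, hTY⟩ := asym_parabolic' S Q hQp hQS hQ M hSM hM hasym H hPH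
  by_contra hne
  have hle : opOf p H ⊔ Cfsg.pCoreOf p M ≤ H := sup_le (opOf_le p H) hPH
  have hlt := lt_of_le_of_ne hle hne
  have h1 := hmin _ le_sup_right hlt
  apply hY
  refine h1.trans (le_pCoreOf H _ ((pCoreOf_le p _).trans hle) ?_ (pCoreOf_isPGroup p _))
  have hHR : H ≤ Subgroup.normalizer ((opOf p H : Subgroup G) : Set G) :=
    Subgroup.le_normalizer.trans (normalizer_le_normalizer_opOf p H)
  have hTn : T ≤ Subgroup.normalizer
      ((Cfsg.pCoreOf p (opOf p H ⊔ Cfsg.pCoreOf p M) : Subgroup G) : Set G) :=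
    ((le_inf (hT.le.trans hHR) hTP).trans (normalizer_inf_le_sup _ _)).trans
      (normalizer_le_normalizer_pCoreOf p _)
  have hRn : opOf p H ≤ Subgroup.normalizer
      ((Cfsg.pCoreOf p (opOf p H ⊔ Cfsg.pCoreOf p M) : Subgroup G) : Set G) :=
    le_sup_left.trans (le_normalizer_pCoreOf p _)
  intro h hh
  obtain ⟨r, hr, hrt⟩ := hT.exists_residual_mul h hh
  have e : h = r * (r⁻¹ * h) := by group
  rw [e]
  exact Subgroup.mul_mem _ (hRn hr) (hTn hrt)

/-- `O^p(H) = [O^p(H), Y_M]` for `H ∈ ℌ` -/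
theorem frakH_res_comm [Finite G] {p : ℕ} [Fact p.Prime] (S : Sylow p G) (Q : Subgroup G)
    (hQp : IsPGroup p Q) (hQS : Q ≤ (S : Subgroup G)) (hQ : Cfsg.IsLarge Q)
    (M : Subgroup G) (hSM : (S : Subgroup G) ≤ M) (hM : Cfsg.IsInFrakM p M)
    (hasym : ¬ Cfsg.IsSymmetricIn (Cfsg.largestPReducedOf p M))
    (H : Subgroup G) (hH : Cfsg.IsInFrakH p M H) :
    ⁅opOf p H, Cfsg.largestPReducedOf p M⁆ = opOf p H := by
  have hsup := frakH_res_sup S Q hQp hQS hQ M hSM hM hasym H hH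
  obtain ⟨-, hPH, hY, hmin⟩ := hH
  have hpred := Cfsg.Agent.Lib.Helper55.pred_largestPReducedOf (p := p) M
  have hYP : Cfsg.largestPReducedOf p M ≤ Cfsg.pCoreOf p M := hpred.le_pCoreOf
  have hYH := hYP.trans hPH
  have hPY : Cfsg.pCoreOf p M ≤
      Subgroup.normalizer ((Cfsg.largestPReducedOf p M : Subgroup G) : Set G) :=
    (pCoreOf_le p M).trans (le_normalizer_largestPReducedOf p M)
  have hHR : H ≤ Subgroup.normalizer ((opOf p H : Subgroup G) : Set G) :=
    Subgroup.le_normalizer.trans (normalizer_le_normalizer_opOf p H)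
  have hR₁R : ⁅opOf p H, Cfsg.largestPReducedOf p M⁆ ≤ opOf p H :=
    commutator_le_of_le_normalizer _ _ (hYH.trans hHR)
  apply le_antisymm hR₁R
  have hPV : Cfsg.pCoreOf p M ≤ Subgroup.normalizer
      ((⁅opOf p H, Cfsg.largestPReducedOf p M⁆ ⊔ Cfsg.largestPReducedOf p M : Subgroup G) :
        Set G) :=
    (le_inf (Cfsg.Agent.Lib.Helper55.le_normalizer_commutator (hPH.trans hHR) hPY) hPY).trans
      (normalizer_inf_le_sup _ _)
  have hRV : opOf p H ≤ Subgroup.normalizer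
      ((⁅opOf p H, Cfsg.largestPReducedOf p M⁆ ⊔ Cfsg.largestPReducedOf p M : Subgroup G) :
        Set G) := by
    apply le_normalizer_of_conj_mem
    intro r hr x hx
    have h1 : (⁅opOf p H, Cfsg.largestPReducedOf p M⁆ ⊔ Cfsg.largestPReducedOf p M).map
        (MulAut.conj r).toMonoidHom ≤
        ⁅opOf p H, Cfsg.largestPReducedOf p M⁆ ⊔ Cfsg.largestPReducedOf p M := by
      rw [Subgroup.map_sup]
      refine sup_le ?_ ?_
      · have := cj_eq_self_of_mem_normalizer (le_normalizer_commutator_left (opOf p H)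
          (Cfsg.largestPReducedOf p M) hr)
        exact this.le.trans le_sup_left
      · rintro _ ⟨y, hy, rfl⟩
        have e : (MulAut.conj r).toMonoidHom y = ⁅r, y⁆ * y := by
          simp only [commutatorElement_def, MulEquiv.coe_toMonoidHom, MulAut.conj_apply]; group
        rw [e]
        exact Subgroup.mul_mem _ (Subgroup.mem_sup_left (Subgroup.commutator_mem_commutator hr hy))
          (Subgroup.mem_sup_right hy)
    have h2 : (MulAut.conj r).toMonoidHom x ∈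
        (⁅opOf p H, Cfsg.largestPReducedOf p M⁆ ⊔ Cfsg.largestPReducedOf p M).map
          (MulAut.conj r).toMonoidHom :=
      ⟨x, hx, rfl⟩
    have h3 := h1 h2
    simpa using h3
  have hHV : H ≤ Subgroup.normalizer
      ((⁅opOf p H, Cfsg.largestPReducedOf p M⁆ ⊔ Cfsg.largestPReducedOf p M : Subgroup G) :
        Set G) := hsup.symm.le.trans (sup_le hRV hPV)
  have hgen := frakH_sup_eq M H _ hPH hY hmin (sup_le (hR₁R.trans (opOf_le p H)) hYH) hHV
    le_sup_right
  have hRV' : opOf p H ≤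
      ⁅opOf p H, Cfsg.largestPReducedOf p M⁆ ⊔ Cfsg.largestPReducedOf p M :=
    opOf_le_of_le_sup _ _ H (pCoreOf_isPGroup p M) hPV hgen.ge
  have h4 := opOf_le_of_le_sup _ _ (opOf p H) hpred.isPGroup
    (le_normalizer_commutator_right (opOf p H) (Cfsg.largestPReducedOf p M)) hRV'
  rwa [opOf_opOf] at h4

/-- `H` is the normal closure of `O_p(M)` in `H`, for `H ∈ ℌ` -/
theorem frakH_ncl_P [Finite G] {p : ℕ} [Fact p.Prime] (M H : Subgroup G)
    (hH : Cfsg.IsInFrakH p M H) : nclIn (Cfsg.pCoreOf p M) H = H := by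
  obtain ⟨-, hPH, hY, hmin⟩ := hH
  have hpred := Cfsg.Agent.Lib.Helper55.pred_largestPReducedOf (p := p) M
  have hYP : Cfsg.largestPReducedOf p M ≤ Cfsg.pCoreOf p M := hpred.le_pCoreOf
  have h1 := frakH_sup_eq M H (nclIn (Cfsg.pCoreOf p M) H) hPH hY hmin (nclIn_le _ H)
    (le_normalizer_nclIn _ H) (hYP.trans (le_nclIn _ H hPH))
  exact (sup_eq_left.mpr (le_nclIn _ H hPH)).symm.trans h1

/-- `O^p(H) Y_M` is the normal closure of `Y_M` in `H`, for `H ∈ ℌ` -/
theorem frakH_ncl_Y [Finite G] {p : ℕ} [Fact p.Prime] (S : Sylow p G) (Q : Subgroup G)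
    (hQp : IsPGroup p Q) (hQS : Q ≤ (S : Subgroup G)) (hQ : Cfsg.IsLarge Q)
    (M : Subgroup G) (hSM : (S : Subgroup G) ≤ M) (hM : Cfsg.IsInFrakM p M)
    (hasym : ¬ Cfsg.IsSymmetricIn (Cfsg.largestPReducedOf p M))
    (H : Subgroup G) (hH : Cfsg.IsInFrakH p M H) :
    opOf p H ⊔ Cfsg.largestPReducedOf p M = nclIn (Cfsg.largestPReducedOf p M) H := by
  have hsup := frakH_res_sup S Q hQp hQS hQ M hSM hM hasym H hH
  have hcomm := frakH_res_comm S Q hQp hQS hQ M hSM hM hasym H hH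
  obtain ⟨-, hPH, hY, hmin⟩ := hH
  have hpred := Cfsg.Agent.Lib.Helper55.pred_largestPReducedOf (p := p) M
  have hYP : Cfsg.largestPReducedOf p M ≤ Cfsg.pCoreOf p M := hpred.le_pCoreOf
  have hYH := hYP.trans hPH
  have hPY : Cfsg.pCoreOf p M ≤
      Subgroup.normalizer ((Cfsg.largestPReducedOf p M : Subgroup G) : Set G) :=
    (pCoreOf_le p M).trans (le_normalizer_largestPReducedOf p M)
  have hHR : H ≤ Subgroup.normalizer ((opOf p H : Subgroup G) : Set G) :=
    Subgroup.le_normalizer.trans (normalizer_le_normalizer_opOf p H)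
  apply le_antisymm
  · refine sup_le ?_ (le_nclIn _ H hYH)
    calc opOf p H = ⁅opOf p H, Cfsg.largestPReducedOf p M⁆ := hcomm.symm
      _ ≤ ⁅opOf p H, nclIn (Cfsg.largestPReducedOf p M) H⁆ :=
          Subgroup.commutator_mono le_rfl (le_nclIn _ H hYH)
      _ ≤ nclIn (Cfsg.largestPReducedOf p M) H :=
          commutator_le_of_le_normalizer' _ _ ((opOf_le p H).trans (le_normalizer_nclIn _ H))
  · apply nclIn_le_of _ H _ le_sup_right
    refine hsup.symm.le.trans (sup_le (le_sup_left.trans Subgroup.le_normalizer) ?_)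
    exact (le_inf (hPH.trans hHR) hPY).trans (normalizer_inf_le_sup _ _)

/-- every Sylow `p`-subgroup of `H ∩ M†` is a Sylow `p`-subgroup of `H` -/
theorem frakH_sylow_inf [Finite G] {p : ℕ} [Fact p.Prime] (S : Sylow p G) (Q : Subgroup G)
    (hQp : IsPGroup p Q) (hQS : Q ≤ (S : Subgroup G)) (hQ : Cfsg.IsLarge Q)
    (M : Subgroup G) (hSM : (S : Subgroup G) ≤ M) (hM : Cfsg.IsInFrakM p M)
    (hasym : ¬ Cfsg.IsSymmetricIn (Cfsg.largestPReducedOf p M))
    (H : Subgroup G) (hPH : Cfsg.pCoreOf p M ≤ H)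
    (T : Sylow p ↥(H ⊓ (M ⊔ Subgroup.centralizer
      ((Cfsg.largestPReducedOf p M : Subgroup G) : Set G)))) :
    ∃ P : Sylow p ↥H, (P : Subgroup ↥H).map H.subtype =
      (T : Subgroup ↥(H ⊓ (M ⊔ Subgroup.centralizer
        ((Cfsg.largestPReducedOf p M : Subgroup G) : Set G)))).map
        (H ⊓ (M ⊔ Subgroup.centralizer
          ((Cfsg.largestPReducedOf p M : Subgroup G) : Set G))).subtype := by
  obtain ⟨T₁, hT₁, hPT₁, hT₁M⟩ := asym_parabolic S Q hQp hQS hQ M hSM hM hasym H hPH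
  have h1 : SylIn p T₁ (H ⊓ (M ⊔ Subgroup.centralizer
      ((Cfsg.largestPReducedOf p M : Subgroup G) : Set G))) :=
    hT₁.mono (le_inf hT₁.le hT₁M) inf_le_left
  obtain ⟨n, hn, e⟩ := h1.conj (Cfsg.Agent.Lib.Helper55.sylIn_map_sylow T)
  have h2 : SylIn p (cj n T₁) H := by
    have := hT₁.cjOf n
    rwa [cj_eq_self_of_mem (Subgroup.mem_inf.mp hn).1] at this
  rw [← e] at h2
  exact ⟨h2.toSylow, h2.map_toSylow⟩

end Cfsg.Agent.Lib.Helper56
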