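import Cfsg.Prelude.Def_LocalStructure
import Cfsg.Agent.Lib.Helper56.Asym2
import Mathlib

set_option autoImplicit false
open Cfsg
open scoped Pointwise commutatorElement
open Cfsg.Agent.Lib.Helper55 (cj mem_cj cj_mono cj_mul cj_one cj_inv_cj cj_cj_inv cj_normalizer
  cj_isPGroup cj_ne_bot cj_eq_self_of_mem cj_eq_self_of_mem_normalizer mem_normalizer_of_cj_eq
  SylIn sylIn_of_sylow exists_sylIn PClos PEl pel_subtype pel_of_mem stabMod mem_stabMod
  le_normalizer_stabMod le_normalizer_of_conj_mem)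

namespace Cfsg.Agent.Lib.Helper56

variable {G : Type*} [Group G]

/-- `O^p(H Q') ≤ O^p(H)` for a `p`-group `Q'` normalizing `H` -/
theorem opOf_sup_pgroup_le {p : ℕ} (H Qn : Subgroup G) (hQn : IsPGroup p Qn)
    (hQH : Qn ≤ Subgroup.normalizer (H : Set G)) : opOf p (H ⊔ Qn) ≤ opOf p H := by
  have h1 := opOf_le_of_le_sup H Qn (H ⊔ Qn) hQn hQH le_rfl
  calc opOf p (H ⊔ Qn) = opOf p (opOf p (H ⊔ Qn)) := (opOf_opOf p _).symm
    _ ≤ opOf p H := opOf_mono h1

/-- a subgroup with `[N, O^p(N)] ≤ O_p(N)` is `p`-closed -/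
theorem pClos_of_stab [Finite G] {p : ℕ} [Fact p.Prime] (N R : Subgroup G)
    (hR : opOf p N ≤ R) (hst : ∀ r ∈ R, ∀ b ∈ N, ⁅b, r⁆ ∈ Cfsg.pCoreOf p N) : PClos p N := by
  obtain ⟨T, hT⟩ := exists_sylIn (p := p) N
  apply hT.pClos
  have hBT : Cfsg.pCoreOf p N ≤ T := hT.pCoreOf_le
  have hRN : opOf p N ≤ Subgroup.normalizer (T : Set G) := by
    apply le_normalizer_of_conj_mem
    intro r hr t ht
    have h5 : ⁅t, r⁆ ∈ Cfsg.pCoreOf p N := hst r (hR hr) t (hT.le ht)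
    have e : r * t * r⁻¹ = ⁅t, r⁆⁻¹ * t := by
      simp only [commutatorElement_def]; group
    rw [e]; exact T.mul_mem (T.inv_mem (hBT h5)) ht
  intro n hn
  obtain ⟨r, hr, hrt⟩ := hT.exists_residual_mul n hn
  have e : n = r * (r⁻¹ * n) := by group
  rw [e]; exact Subgroup.mul_mem _ (hRN hr) (Subgroup.le_normalizer hrt)

/-- `H Q'` is `p`-irreducible for `H ∈ ℌ` and a `p`-subgroup `Q'` with `H` and `Q'` normalizing
each other: every normal subgroup of `H Q'` which is not `p`-closed contains `O^p(H Q')` -/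
theorem frakH_irred [Finite G] {p : ℕ} [Fact p.Prime] (M H : Subgroup G)
    (hH : Cfsg.IsInFrakH p M H) (Qn : Subgroup G) (hQnp : IsPGroup p Qn)
    (hHQ : H ≤ Subgroup.normalizer (Qn : Set G)) (hQH : Qn ≤ Subgroup.normalizer (H : Set G))
    (N' : Subgroup G) (hN'le : N' ≤ H ⊔ Qn) (hN'n : H ⊔ Qn ≤ Subgroup.normalizer (N' : Set G))
    (hN'pc : ¬ PClos p N') : opOf p (H ⊔ Qn) ≤ N' := by
  obtain ⟨-, hPH, hY, hmin⟩ := hH
  have hpred := Cfsg.Agent.Lib.Helper55.pred_largestPReducedOf (p := p) M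
  have hYP : Cfsg.largestPReducedOf p M ≤ Cfsg.pCoreOf p M := hpred.le_pCoreOf
  have hYH := hYP.trans hPH
  have hPp : IsPGroup p (Cfsg.pCoreOf p M) := pCoreOf_isPGroup p M
  have hres := opOf_sup_pgroup_le H Qn hQnp hQH
  have hQN' : Qn ≤ Subgroup.normalizer (N' : Set G) := le_sup_right.trans hN'n
  have hHN' : H ≤ Subgroup.normalizer (N' : Set G) := le_sup_left.trans hN'n
  have hHN₂ : H ≤ Subgroup.normalizer ((N' ⊔ Qn : Subgroup G) : Set G) :=
    (le_inf hHN' hHQ).trans (normalizer_inf_le_sup _ _)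
  obtain ⟨N₃, hN₃def⟩ : ∃ N₃ : Subgroup G, N₃ = (N' ⊔ Qn) ⊓ H := ⟨_, rfl⟩
  have hN₃H : N₃ ≤ H := hN₃def ▸ inf_le_right
  have hN₃N₂ : N₃ ≤ N' ⊔ Qn := hN₃def ▸ inf_le_left
  have hHN₃ : H ≤ Subgroup.normalizer (N₃ : Set G) := by
    rw [hN₃def]
    exact (le_inf hHN₂ Subgroup.le_normalizer).trans Subgroup.inf_normalizer_le_normalizer_inf
  -- `N₃` is not `p`-closed
  have hA : ¬ PClos p N₃ := by
    intro hc
    apply hN'pc
    have h1 : PClos p (N₃ ⊔ Qn) := pClos_sup_pgroup N₃ Qn hc hQnp (hN₃H.trans hHQ)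
    refine h1.mono ?_
    intro x hx
    have hx' : x ∈ ((H : Set G) * (Qn : Set G)) := by
      rw [← Subgroup.coe_mul_of_left_le_normalizer_right H Qn hHQ]; exact hN'le hx
    obtain ⟨h, hh, q, hq, rfl⟩ := Set.mem_mul.mp hx'
    have hh3 : h ∈ N₃ := by
      rw [hN₃def]
      refine Subgroup.mem_inf.mpr ⟨?_, hh⟩
      have h2 := (N' ⊔ Qn).mul_mem (Subgroup.mem_sup_left hx)
        (Subgroup.mem_sup_right (Qn.inv_mem hq))
      have e : h * q * q⁻¹ = h := by group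
      rwa [e] at h2
    exact Subgroup.mul_mem _ (Subgroup.mem_sup_left hh3) (Subgroup.mem_sup_right hq)
  by_cases hcase : N₃ ⊔ Cfsg.pCoreOf p M = H
  · have h1 : opOf p H ≤ N₃ := opOf_le_of_le_sup N₃ _ H hPp (hPH.trans hHN₃) hcase.ge
    have h3 : opOf p (opOf p H) ≤ N' :=
      opOf_le_of_le_sup N' Qn (opOf p H) hQnp hQN' (h1.trans hN₃N₂)
    rw [opOf_opOf] at h3
    exact hres.trans h3
  · exfalso
    have hlt : N₃ ⊔ Cfsg.pCoreOf p M < H := lt_of_le_of_ne (sup_le hN₃H hPH) hcase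
    have hYB := hmin _ le_sup_right hlt
    have hB : Cfsg.pCoreOf p (N₃ ⊔ Cfsg.pCoreOf p M) ⊓ N₃ ≤ Cfsg.pCoreOf p N₃ :=
      le_pCoreOf N₃ _ inf_le_right
        ((le_inf (le_sup_left.trans (le_normalizer_pCoreOf p _)) Subgroup.le_normalizer).trans
          Subgroup.inf_normalizer_le_normalizer_inf)
        ((pCoreOf_isPGroup p _).to_le inf_le_left)
    have hHB₃ : H ≤ Subgroup.normalizer ((Cfsg.pCoreOf p N₃ : Subgroup G) : Set G) :=
      hHN₃.trans (normalizer_le_normalizer_pCoreOf p N₃)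
    have hYst : Cfsg.largestPReducedOf p M ≤ stabMod N₃ (Cfsg.pCoreOf p N₃) := by
      intro y hy
      refine ⟨hHB₃ (hYH hy), fun b hb => ?_⟩
      apply hB
      refine Subgroup.mem_inf.mpr ⟨?_, ?_⟩
      · have hbn : b ∈ Subgroup.normalizer
            ((Cfsg.pCoreOf p (N₃ ⊔ Cfsg.pCoreOf p M) : Subgroup G) : Set G) :=
          le_normalizer_pCoreOf p _ (Subgroup.mem_sup_left hb)
        have h1 := (Subgroup.mem_normalizer_iff.mp hbn y).mp (hYB hy)
        have e : ⁅b, y⁆ = (b * y * b⁻¹) * y⁻¹ := by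
          simp only [commutatorElement_def]
        rw [e]
        exact Subgroup.mul_mem _ h1 (Subgroup.inv_mem _ (hYB hy))
      · have h1 := (Subgroup.mem_normalizer_iff.mp (hHN₃ (hYH hy)) b⁻¹).mp (N₃.inv_mem hb)
        have e : ⁅b, y⁆ = b * (y * b⁻¹ * y⁻¹) := by
          simp only [commutatorElement_def]; group
        rw [e]
        exact N₃.mul_mem hb h1
    have hHst : H ≤ Subgroup.normalizer
        ((stabMod N₃ (Cfsg.pCoreOf p N₃) ⊓ H : Subgroup G) : Set G) :=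
      (le_inf (le_normalizer_stabMod hHN₃ hHB₃) Subgroup.le_normalizer).trans
        Subgroup.inf_normalizer_le_normalizer_inf
    have hCS := frakH_sup_eq M H _ hPH hY hmin inf_le_right hHst (le_inf hYst hYH)
    have hRst : opOf p H ≤ stabMod N₃ (Cfsg.pCoreOf p N₃) :=
      (opOf_le_of_le_sup _ _ H hPp (hPH.trans hHst) hCS.ge).trans inf_le_left
    apply hA
    exact pClos_of_stab N₃ (opOf p H) (opOf_mono hN₃H) (fun r hr b hb => (hRst hr).2 b hb)

/-- the statement on members of `ℌ` normalizing a conjugate of a large subgroup,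
in ambient form -/
theorem frakH_normalizing_large [Finite G] {p : ℕ} [Fact p.Prime] (S : Sylow p G) (Q : Subgroup G)
    (hQp : IsPGroup p Q) (hQS : Q ≤ (S : Subgroup G)) (hQ : Cfsg.IsLarge Q)
    (M : Subgroup G) (hSM : (S : Subgroup G) ≤ M) (hM : Cfsg.IsInFrakM p M)
    (hasym : ¬ Cfsg.IsSymmetricIn (Cfsg.largestPReducedOf p M))
    (H : Subgroup G) (hH : Cfsg.IsInFrakH p M H) (Qn : Subgroup G) (hQnp : IsPGroup p Qn)
    (hHQ : H ≤ Subgroup.normalizer (Qn : Set G)) :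
    Qn ≤ Cfsg.pCoreOf p (H ⊔ Qn) ∧
    Cfsg.pCoreOf p (H ⊔ Qn) ≤ Subgroup.normalizer ((Cfsg.pCoreOf p M : Subgroup G) : Set G) ∧
    Subgroup.normalizer ((Cfsg.pCoreOf p M : Subgroup G) : Set G) ≤
      Subgroup.normalizer ((Cfsg.largestPReducedOf p M : Subgroup G) : Set G) ∧
    Subgroup.normalizer ((Cfsg.largestPReducedOf p M : Subgroup G) : Set G) =
      M ⊔ Subgroup.centralizer ((Cfsg.largestPReducedOf p M : Subgroup G) : Set G) ∧
    Qn ≤ Subgroup.normalizer (H : Set G) ∧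
    opOf p H = opOf p (H ⊔ Qn) ∧
    ¬ PClos p (H ⊔ Qn) ∧
    ∀ N' : Subgroup G, N' ≤ H ⊔ Qn → H ⊔ Qn ≤ Subgroup.normalizer (N' : Set G) →
      ¬ PClos p N' → opOf p (H ⊔ Qn) ≤ N' := by
  have hNP := frakM_normalizer_pCoreOf_le S Q hQp hQS hQ M hSM hM
  have hPH := hH.2.1
  have hpred := Cfsg.Agent.Lib.Helper55.pred_largestPReducedOf (p := p) M
  have hYP : Cfsg.largestPReducedOf p M ≤ Cfsg.pCoreOf p M := hpred.le_pCoreOf
  have hYH := hYP.trans hPH
  have h1 : Qn ≤ Cfsg.pCoreOf p (H ⊔ Qn) :=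
    le_pCoreOf _ _ le_sup_right (sup_le hHQ Subgroup.le_normalizer) hQnp
  obtain ⟨T, hT, hPT, hTM, hTP, hTY⟩ :=
    asym_parabolic' S Q hQp hQS hQ M hSM hM hasym (H ⊔ Qn) (hPH.trans le_sup_left)
  have h2 : Cfsg.pCoreOf p (H ⊔ Qn) ≤
      Subgroup.normalizer ((Cfsg.pCoreOf p M : Subgroup G) : Set G) := hT.pCoreOf_le.trans hTP
  have h3 : Subgroup.normalizer ((Cfsg.pCoreOf p M : Subgroup G) : Set G) ≤
      Subgroup.normalizer ((Cfsg.largestPReducedOf p M : Subgroup G) : Set G) :=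
    hNP.trans (dagger_le_normalizer_Y p M)
  have h4 : Subgroup.normalizer ((Cfsg.largestPReducedOf p M : Subgroup G) : Set G) =
      M ⊔ Subgroup.centralizer ((Cfsg.largestPReducedOf p M : Subgroup G) : Set G) :=
    le_antisymm (frakM_normalizer_le_dagger hQ hQp S hQS M hSM hM _ (largest_ne_bot S hSM hM.1)
      hpred.isPGroup (le_normalizer_largestPReducedOf p M)) (dagger_le_normalizer_Y p M)
  have hQH : Qn ≤ Subgroup.normalizer (H : Set G) :=
    normalizes_of_nclIn _ H Qn (frakH_ncl_P M H hH) (h1.trans h2) hHQ hPH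
  refine ⟨h1, h2, h3, h4, hQH,
    le_antisymm (opOf_mono le_sup_left) (opOf_sup_pgroup_le H Qn hQnp hQH), ?_,
    fun N' h5 h6 h7 => frakH_irred M H hH Qn hQnp hHQ hQH N' h5 h6 h7⟩
  intro hc
  apply hH.2.2.1
  have hn := hc.le_normalizer_sylIn hT
  have h5 : T ⊓ H ≤ Cfsg.pCoreOf p H :=
    le_pCoreOf H _ inf_le_right
      ((le_inf (le_sup_left.trans hn) Subgroup.le_normalizer).trans
        Subgroup.inf_normalizer_le_normalizer_inf)
      (hT.isPGroup.to_le inf_le_left)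
  exact (le_inf (hYP.trans hPT) hYH).trans h5

end Cfsg.Agent.Lib.Helper56
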