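import Cfsg.Prelude.Def_LocalStructure
import Cfsg.Agent.Lib.Helper56.Asym2
import Cfsg.Agent.Lib.Helper30.Basic
import Mathlib

set_option autoImplicit false
open Cfsg
open scoped Pointwise commutatorElement
open Cfsg.Agent.Lib.Helper55 (cj mem_cj cj_mono cj_mul cj_one cj_inv_cj cj_cj_inv cj_normalizer
  cj_isPGroup cj_ne_bot cj_eq_self_of_mem cj_eq_self_of_mem_normalizer mem_normalizer_of_cj_eq
  SylIn sylIn_of_sylow exists_sylIn PRed)

namespace Cfsg.Agent.Lib.Helper56

/-- in a finite group with `O_p = 1`, a `p`-subgroup normalized by `F*` is trivial -/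
theorem pgroup_normalized_by_fstar_eq_bot {Qt : Type*} [Group Qt] [Finite Qt] {p : ℕ}
    [Fact p.Prime] (hO : Cfsg.pCore p Qt = ⊥) (D : Subgroup Qt) (hDp : IsPGroup p D)
    (hFD : Cfsg.generalizedFittingSubgroup Qt ≤ Subgroup.normalizer (D : Set Qt)) : D = ⊥ := by
  have hFn : (Cfsg.generalizedFittingSubgroup Qt).Normal :=
    Cfsg.Agent.Lib.Helper30.genFitting_normal
  have hFtop : (⊤ : Subgroup Qt) ≤
      Subgroup.normalizer ((Cfsg.generalizedFittingSubgroup Qt : Subgroup Qt) : Set Qt) :=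
    (Subgroup.normalizer_eq_top_iff.mpr hFn).ge
  have h1 : D ⊓ Cfsg.generalizedFittingSubgroup Qt ≤
      Cfsg.pCoreOf p (Cfsg.generalizedFittingSubgroup Qt) :=
    le_pCoreOf _ _ inf_le_right
      ((le_inf hFD Subgroup.le_normalizer).trans Subgroup.inf_normalizer_le_normalizer_inf)
      (hDp.to_le inf_le_left)
  have h2 : Cfsg.pCoreOf p (Cfsg.generalizedFittingSubgroup Qt) ≤ Cfsg.pCoreOf p (⊤ : Subgroup Qt) :=
    pCoreOf_le_pCoreOf_of_normal ⊤ _ le_top hFtop
  have h3 : Cfsg.pCoreOf p (⊤ : Subgroup Qt) = ⊥ := by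
    rw [Cfsg.Agent.Lib.Helper55.pCoreOf_top_eq, hO]
  have h4 : D ⊓ Cfsg.generalizedFittingSubgroup Qt ≤ ⊥ := by
    rw [← h3]; exact h1.trans h2
  have h5 : ⁅D, Cfsg.generalizedFittingSubgroup Qt⁆ ≤ D ⊓ Cfsg.generalizedFittingSubgroup Qt :=
    le_inf (commutator_le_of_le_normalizer D _ hFD)
      (commutator_le_of_le_normalizer' _ D (le_top.trans hFtop))
  have h6 : D ≤ Subgroup.centralizer ((Cfsg.generalizedFittingSubgroup Qt : Subgroup Qt) : Set Qt) :=
    Subgroup.commutator_eq_bot_iff_le_centralizer.mp (eq_bot_iff.mpr (h5.trans h4))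
  have h7 : D ≤ Cfsg.generalizedFittingSubgroup Qt :=
    h6.trans Cfsg.Agent.Lib.Helper30.centralizer_genFitting_le
  exact eq_bot_iff.mpr ((le_inf le_rfl h7).trans h4)

variable {G : Type*} [Group G]

/-- if `Y` is `p`-reduced for `K` and `H₁ ≤ K` contains the preimage of `F*(K / C_K(Y))`,
then `Y` is `p`-reduced for `H₁` -/
theorem pred_of_fstar_le [Finite G] {p : ℕ} [Fact p.Prime] (K Y : Subgroup G) (hY : PRed p K Y)
    [hn : ((Subgroup.centralizer (Y : Set G)).subgroupOf K).Normal]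
    (hCK : Subgroup.centralizer (Y : Set G) ≤ K) (H₁ : Subgroup G) (hH₁ : H₁ ≤ K)
    (hF : ((Cfsg.generalizedFittingSubgroup
      (↥K ⧸ (Subgroup.centralizer (Y : Set G)).subgroupOf K)).comap
        (QuotientGroup.mk' ((Subgroup.centralizer (Y : Set G)).subgroupOf K))).map K.subtype ≤ H₁) :
    PRed p H₁ Y := by
  have hO : Cfsg.pCore p (↥K ⧸ (Subgroup.centralizer (Y : Set G)).subgroupOf K) = ⊥ := by
    have hBn : (Cfsg.pCore p (↥K ⧸ (Subgroup.centralizer (Y : Set G)).subgroupOf K)).Normal :=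
      Cfsg.Agent.Lib.Helper55.pCore_normal
    have hD := hY.2.2.2
      (((Cfsg.pCore p (↥K ⧸ (Subgroup.centralizer (Y : Set G)).subgroupOf K)).comap
        (QuotientGroup.mk' ((Subgroup.centralizer (Y : Set G)).subgroupOf K))).map K.subtype)
      (Subgroup.map_subtype_le _)
      (le_normalizer_map_subtype K _ (hBn.comap _))
      (by
        rintro _ ⟨x, hx, rfl⟩
        obtain ⟨k, hk⟩ := (Cfsg.Agent.Lib.Helper55.pCore_isPGroup
          (G := ↥K ⧸ (Subgroup.centralizer (Y : Set G)).subgroupOf K) (p := p)) ⟨_, hx⟩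
        refine ⟨k, ?_⟩
        have h1 : (QuotientGroup.mk' ((Subgroup.centralizer (Y : Set G)).subgroupOf K) x) ^ p ^ k
            = 1 := by simpa using congrArg Subtype.val hk
        rw [← map_pow] at h1
        have h2 := (QuotientGroup.eq_one_iff _).mp h1
        have h3 := Subgroup.mem_subgroupOf.mp h2
        simpa using h3)
    rw [eq_bot_iff]
    intro b hb
    obtain ⟨x, rfl⟩ := QuotientGroup.mk'_surjective _ b
    have h1 : (x : G) ∈ Subgroup.centralizer (Y : Set G) := hD ⟨x, hb, rfl⟩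
    rw [Subgroup.mem_bot]
    exact (QuotientGroup.eq_one_iff x).mpr (Subgroup.mem_subgroupOf.mpr h1)
  have hCF : Subgroup.centralizer (Y : Set G) ≤ H₁ := by
    intro c hc
    apply hF
    refine ⟨⟨c, hCK hc⟩, Subgroup.mem_comap.mpr ?_, rfl⟩
    have : QuotientGroup.mk' ((Subgroup.centralizer (Y : Set G)).subgroupOf K) ⟨c, hCK hc⟩ = 1 :=
      (QuotientGroup.eq_one_iff _).mpr (Subgroup.mem_subgroupOf.mpr hc)
    rw [this]; exact Subgroup.one_mem _
  have hYC : Y ≤ Subgroup.centralizer (Y : Set G) := by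
    intro y hy
    rw [Subgroup.mem_centralizer_iff]
    intro z hz
    exact ((Cfsg.Agent.Lib.Helper55.elemAb_iff Y).mp hY.elemAb).1 z hz y hy
  refine ⟨hYC.trans hCF, hH₁.trans hY.le_normalizer, hY.elemAb, ?_⟩
  intro D hDH hHD hpow
  have hDp : IsPGroup p ((D.subgroupOf K).map
      (QuotientGroup.mk' ((Subgroup.centralizer (Y : Set G)).subgroupOf K))) := by
    rintro ⟨_, ⟨x, hx, rfl⟩⟩
    obtain ⟨k, hk⟩ := hpow x (Subgroup.mem_subgroupOf.mp hx)
    refine ⟨k, Subtype.ext ?_⟩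
    show (QuotientGroup.mk' ((Subgroup.centralizer (Y : Set G)).subgroupOf K) x) ^ p ^ k = 1
    rw [← map_pow]
    exact (QuotientGroup.eq_one_iff _).mpr (Subgroup.mem_subgroupOf.mpr (by simpa using hk))
  have hFD : Cfsg.generalizedFittingSubgroup (↥K ⧸ (Subgroup.centralizer (Y : Set G)).subgroupOf K) ≤
      Subgroup.normalizer ((((D.subgroupOf K).map
        (QuotientGroup.mk' ((Subgroup.centralizer (Y : Set G)).subgroupOf K)) :
          Subgroup (↥K ⧸ (Subgroup.centralizer (Y : Set G)).subgroupOf K))) : Set _) := by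
    intro f hf
    obtain ⟨x, rfl⟩ := QuotientGroup.mk'_surjective _ f
    have hxF : (x : G) ∈ H₁ := hF ⟨x, hf, rfl⟩
    have hxD : (x : G) ∈ Subgroup.normalizer (D : Set G) := hHD hxF
    apply Subgroup.le_normalizer_map
    refine ⟨x, Subgroup.mem_normalizer_iff.mpr ?_, rfl⟩
    intro y
    rw [Subgroup.mem_subgroupOf, Subgroup.mem_subgroupOf]
    have := Subgroup.mem_normalizer_iff.mp hxD (y : G)
    simpa using this
  have hD := pgroup_normalized_by_fstar_eq_bot hO _ hDp hFD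
  intro d hd
  have h1 : QuotientGroup.mk' ((Subgroup.centralizer (Y : Set G)).subgroupOf K)
      ⟨d, hH₁ (hDH hd)⟩ ∈ (D.subgroupOf K).map
        (QuotientGroup.mk' ((Subgroup.centralizer (Y : Set G)).subgroupOf K)) :=
    ⟨_, Subgroup.mem_subgroupOf.mpr hd, rfl⟩
  rw [hD, Subgroup.mem_bot] at h1
  exact Subgroup.mem_subgroupOf.mp ((QuotientGroup.eq_one_iff _).mp h1)

/-- asymmetric case: `Y_M ≤ Y_H` for `H` of characteristic `p` containing the preimage of
`F*(M†/C_{M†}(Y_M))` -/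
theorem asym_largest_le [Finite G] {p : ℕ} [Fact p.Prime] (S : Sylow p G) (Q : Subgroup G)
    (hQp : IsPGroup p Q) (hQS : Q ≤ (S : Subgroup G)) (hQ : Cfsg.IsLarge Q)
    (M : Subgroup G) (hSM : (S : Subgroup G) ≤ M) (hM : Cfsg.IsInFrakM p M)
    (hasym : ¬ Cfsg.IsSymmetricIn (Cfsg.largestPReducedOf p M))
    [hn : ((Subgroup.centralizer ((Cfsg.largestPReducedOf p M : Subgroup G) : Set G)).subgroupOf
      (M ⊔ Subgroup.centralizer ((Cfsg.largestPReducedOf p M : Subgroup G) : Set G))).Normal]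
    (H : Subgroup G)
    (hFH : ((Cfsg.generalizedFittingSubgroup
      (↥(M ⊔ Subgroup.centralizer ((Cfsg.largestPReducedOf p M : Subgroup G) : Set G)) ⧸
        (Subgroup.centralizer ((Cfsg.largestPReducedOf p M : Subgroup G) : Set G)).subgroupOf
          (M ⊔ Subgroup.centralizer ((Cfsg.largestPReducedOf p M : Subgroup G) : Set G)))).comap
        (QuotientGroup.mk'
          ((Subgroup.centralizer ((Cfsg.largestPReducedOf p M : Subgroup G) : Set G)).subgroupOf
            (M ⊔ Subgroup.centralizer ((Cfsg.largestPReducedOf p M : Subgroup G) : Set G))))).map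
        (M ⊔ Subgroup.centralizer ((Cfsg.largestPReducedOf p M : Subgroup G) : Set G)).subtype ≤ H)
    (hH : H ⊓ Subgroup.centralizer ((Cfsg.pCoreOf p H : Subgroup G) : Set G) ≤ Cfsg.pCoreOf p H) :
    Cfsg.largestPReducedOf p M ≤ Cfsg.largestPReducedOf p H := by
  have hpredM := Cfsg.Agent.Lib.Helper55.pred_largestPReducedOf (p := p) M
  have hpredMd : PRed p (M ⊔ Subgroup.centralizer
      ((Cfsg.largestPReducedOf p M : Subgroup G) : Set G)) (Cfsg.largestPReducedOf p M) := by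
    have h1 := Cfsg.Agent.Lib.Helper55.pred_largestPReducedOf (p := p)
      (M ⊔ Subgroup.centralizer ((Cfsg.largestPReducedOf p M : Subgroup G) : Set G))
    have h2 := hM.2.2.2.1
    rw [← h2] at h1
    exact h1
  have hPC : Cfsg.pCoreOf p M ≤
      Subgroup.centralizer ((Cfsg.largestPReducedOf p M : Subgroup G) : Set G) :=
    hpredM.pCoreOf_le_centralizer
  have hpredH₁ := pred_of_fstar_le _ _ hpredMd le_sup_right
    (H ⊓ (M ⊔ Subgroup.centralizer ((Cfsg.largestPReducedOf p M : Subgroup G) : Set G)))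
    inf_le_right (le_inf hFH (Subgroup.map_subtype_le _))
  have hCH : Subgroup.centralizer ((Cfsg.largestPReducedOf p M : Subgroup G) : Set G) ≤ H := by
    intro c hc
    apply hFH
    refine ⟨⟨c, Subgroup.mem_sup_right hc⟩, Subgroup.mem_comap.mpr ?_, rfl⟩
    have : QuotientGroup.mk'
        ((Subgroup.centralizer ((Cfsg.largestPReducedOf p M : Subgroup G) : Set G)).subgroupOf
          (M ⊔ Subgroup.centralizer ((Cfsg.largestPReducedOf p M : Subgroup G) : Set G)))
        ⟨c, Subgroup.mem_sup_right hc⟩ = 1 :=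
      (QuotientGroup.eq_one_iff _).mpr (Subgroup.mem_subgroupOf.mpr hc)
    rw [this]; exact Subgroup.one_mem _
  obtain ⟨T, hT, hPT, hTM⟩ :=
    asym_parabolic S Q hQp hQS hQ M hSM hM hasym H (hPC.trans hCH)
  obtain ⟨V, hXV, hLV, hmin⟩ :=
    Cfsg.Agent.Lib.Helper55.exists_invariant_closure (Cfsg.largestPReducedOf p M) H
  have h := Cfsg.Agent.Lib.Helper55.pred_closure hH hT (le_inf hT.le hTM) inf_le_left hpredH₁
    hXV hLV hmin
  exact hXV.trans h.le_largest

end Cfsg.Agent.Lib.Helper56
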