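import Cfsg.Agent.Lib.Helper15.BG13CDefs
import Cfsg.Agent.S1414

/-!
# B&G Corollary 13.3(b) (row S1428), piece C-BETAA (helper15's job board)

`M`, `H` maximal, `p ∈ τ₁(M) ∩ σ(H)`, `q ∈ σ(M) ∩ σ(H)`: then `p ∈ β(H)`.
-/

set_option autoImplicit false

open Cfsg Cfsg.Agent.Lib.Helper32 Cfsg.Agent.Lib.Helper32.BG10 Cfsg.Agent.Lib.Helper3.BG12

namespace Cfsg.Agent.Lib.Helper15.BG13C

universe u

variable {G : Type u} [Group G] [Finite G]

theorem betaA (hF0 : F0Stmt G) : BetaAStmt G := by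
  intro hG M H hM hH p _ hpM hpH q _ hqM hqH
  by_contra hpβ
  have hp : p.Prime := Fact.out
  have h14 : H14 G := fun M hM => Cfsg.Agent.S1414.result hG M hM
  have hHβπ : ∀ ℓ : ℕ, ℓ.Prime → ℓ ∣ Nat.card (piCoreOf (beta H) H) → ℓ ∈ beta H :=
    (h14 H hH).2.1.1
  have hcopβ : (Nat.card (piCoreOf (beta H) H)).Coprime p := by
    rw [Nat.coprime_comm, hp.coprime_iff_not_dvd]
    intro hd
    exact hpβ (hHβπ p hp hd)
  obtain ⟨S, hS⟩ := sylSet_nonempty q H
  have hle := Cfsg.Agent.Lib.Helper3.BG12S.le_betaCore_sup_normalizer hG h14 hH hqH hS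
  obtain ⟨-, hStop⟩ := sigma_sylSet hqH hS
  obtain ⟨QM, hQM⟩ := sylSet_nonempty q M
  obtain ⟨hNQM, hQMtop⟩ := sigma_sylSet hqM hQM
  obtain ⟨n, -, hn⟩ := sylSet_conj hQMtop hStop
  have hNle : Subgroup.normalizer (S : Set G) ≤ cj n M := by
    intro x hx
    rw [← hn, ← cj_eq_self_iff] at hx
    rw [mem_cj]
    apply hNQM
    rw [← cj_eq_self_iff]
    have e : cj (n⁻¹ * x * n) QM = cj n⁻¹ (cj x (cj n QM)) := by rw [cj_mul, cj_mul]
    rw [e, hx, cj_inv_cj]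
  have hNcomm : ⁅H ⊓ Subgroup.normalizer (S : Set G), H ⊓ Subgroup.normalizer (S : Set G)⁆
      ≤ cj n ⁅M, M⁆ := by
    have h1 : H ⊓ Subgroup.normalizer (S : Set G) ≤ cj n M := inf_le_right.trans hNle
    have h2 := Subgroup.commutator_mono h1 h1
    have h3 : ⁅cj n M, cj n M⁆ = cj n ⁅M, M⁆ := by
      unfold cj
      rw [Subgroup.map_commutator]
    rw [h3] at h2
    exact h2
  have hcopN : (Nat.card ↥⁅H ⊓ Subgroup.normalizer (S : Set G),
      H ⊓ Subgroup.normalizer (S : Set G)⁆).Coprime p := by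
    rw [Nat.coprime_comm, hp.coprime_iff_not_dvd]
    intro hd
    have h1 := Subgroup.card_dvd_of_le hNcomm
    rw [card_cj] at h1
    exact hpM.2.2.2.1 (hd.trans h1)
  have hHβle : piCoreOf (beta H) H ≤ H := by
    unfold piCoreOf
    exact Subgroup.map_subtype_le _
  have hHnorm : H ≤ Subgroup.normalizer ((piCoreOf (beta H) H : Subgroup G) : Set G) := by
    unfold piCoreOf
    exact le_normalizer_map_subtype H (piCore (beta H) H)
  have hcomm := hF0 p H (piCoreOf (beta H) H) (H ⊓ Subgroup.normalizer (S : Set G)) hp hHβle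
    inf_le_left hHnorm hle hcopβ hcopN
  obtain ⟨P, hP⟩ := sylSet_nonempty p H
  have hPp : IsPGroup p P := isPGroup_of_mem_sylSet hP
  have hPσ : P ≤ sigmaCore H :=
    Cfsg.Agent.Lib.Helper3.BG12S.pgroup_le_sigmaCore hG hH hpH hPp hP.1
  have hPc : P ≤ ⁅H, H⁆ := hPσ.trans (Cfsg.Agent.Lib.Helper3.BG12S.sigmaCore_le_comm hG hH)
  have hpdvd : p ∣ Nat.card P := by
    rw [hP.2]
    have hpos : 0 < (Nat.card H).factorization p :=
      hp.factorization_pos_of_dvd Nat.card_pos.ne' hpH.2.1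
    exact dvd_pow_self p hpos.ne'
  have hdvd : p ∣ Nat.card ↥⁅H, H⁆ := hpdvd.trans (Subgroup.card_dvd_of_le hPc)
  exact (hp.coprime_iff_not_dvd.mp hcomm.symm) hdvd

end Cfsg.Agent.Lib.Helper15.BG13C
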