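import Mathlib
import Cfsg.Agent.Lib.Helper10.BWDefs

/-!
# S0997 case B2 (project BW, helper10): piece COUNT

From `cv ∈ {1, 1/p}` and `Σ cv = |G| / (e + 1)`: the subgroup `M = {cv = 1}` has index `p + 1`.
-/

set_option autoImplicit false

namespace Cfsg.Agent.Lib.Helper10.BW

open Cfsg
open Cfsg.Agent.Lib.Helper83 (trivIrr)
open Cfsg.Agent.Lib.Helper10.BR (psum)
open scoped ComplexConjugate

universe u

variable {G : Type u} [Group G] [Fintype G]

variable {p e : ℕ} {P : Subgroup G} {θ θ' : IrrCharacter G}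
  {Xp Xm D : Finset (IrrCharacter G)}

/-- BW-COUNT -/
theorem index_m1 (h : VTab G p e P θ θ' Xp Xm D)
    (hvals : ∀ g : G, cv P (θ : G → ℂ) g = 1 ∨ cv P (θ : G → ℂ) g = 1 / (p : ℂ))
    (hsum : ∑ g : G, cv P (θ : G → ℂ) g = (Nat.card G : ℂ) / (θ : G → ℂ) 1)
    (M : Subgroup G) (hM : ∀ g : G, g ∈ M ↔ cv P (θ : G → ℂ) g = 1) :
    (p + 1) * Nat.card M = Nat.card G := by
  classical
  obtain ⟨A, hA⟩ : ∃ A : Finset G, A = Finset.univ.filter (fun g => g ∈ M) := ⟨_, rfl⟩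
  have hmemA : ∀ g : G, g ∈ A ↔ g ∈ M := by
    intro g
    rw [hA]
    simp
  have hAM : Nat.card M = A.card := Nat.subtype_card A hmemA
  have hsplit : ∑ g : G, cv P (θ : G → ℂ) g =
      (A.card : ℂ) + (Aᶜ.card : ℂ) * (1 / (p : ℂ)) := by
    rw [← Finset.sum_add_sum_compl A]
    congr 1
    · rw [Finset.sum_congr rfl (fun g hg => (hM g).mp ((hmemA g).mp hg)), Finset.sum_const,
        nsmul_eq_mul, mul_one]
    · have hc : ∀ g ∈ Aᶜ, cv P (θ : G → ℂ) g = 1 / (p : ℂ) := by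
        intro g hg
        have hgM : g ∉ M := by
          intro hgM
          exact (Finset.mem_compl.mp hg) ((hmemA g).mpr hgM)
        rcases hvals g with h1 | h1
        · exact absurd ((hM g).mpr h1) hgM
        · exact h1
      rw [Finset.sum_congr rfl hc, Finset.sum_const, nsmul_eq_mul]
  have hcard : (A.card : ℂ) + (Aᶜ.card : ℂ) = (Fintype.card G : ℂ) := by
    rw [← Nat.cast_add, Finset.card_add_card_compl]
  have hp0 : (p : ℂ) ≠ 0 := Nat.cast_ne_zero.mpr h.hp.ne_zero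
  have he1 : (e : ℂ) + 1 ≠ 0 := by exact_mod_cast Nat.succ_ne_zero e
  have he0 : (e : ℂ) ≠ 0 := by
    have := h.he2
    exact Nat.cast_ne_zero.mpr (by omega)
  have hpe : (p : ℂ) = 2 * (e : ℂ) + 1 := by
    rw [h.hpe]
    push_cast
    ring
  rw [hsplit, h.degθ, Nat.card_eq_fintype_card] at hsum
  have hc : (Aᶜ.card : ℂ) = (Fintype.card G : ℂ) - (A.card : ℂ) := by
    rw [← hcard]
    ring
  rw [hc] at hsum
  have h7 := (eq_div_iff he1).mp hsum
  have hpinv : (p : ℂ) * (1 / (p : ℂ)) = 1 := by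
    field_simp
  have h5 : (A.card : ℂ) * (p : ℂ) * ((e : ℂ) + 1) +
      ((Fintype.card G : ℂ) - (A.card : ℂ)) * ((e : ℂ) + 1) = (Fintype.card G : ℂ) * (p : ℂ) := by
    linear_combination (p : ℂ) * h7 -
      ((Fintype.card G : ℂ) - (A.card : ℂ)) * ((e : ℂ) + 1) * hpinv
  rw [hpe] at h5
  have h3 : (e : ℂ) * ((2 * (e : ℂ) + 2) * (A.card : ℂ) - (Fintype.card G : ℂ)) = 0 := by
    linear_combination h5
  have key : (2 * (e : ℂ) + 2) * (A.card : ℂ) = (Fintype.card G : ℂ) := by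
    rcases mul_eq_zero.mp h3 with h4 | h4
    · exact absurd h4 he0
    · linear_combination h4
  rw [hAM, Nat.card_eq_fintype_card]
  have hfin : (((p + 1) * A.card : ℕ) : ℂ) = ((Fintype.card G : ℕ) : ℂ) := by
    push_cast
    rw [hpe]
    linear_combination key
  exact_mod_cast hfin

end Cfsg.Agent.Lib.Helper10.BW
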