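import Mathlib
import Cfsg.Agent.Lib.Helper10.BWDefs
import Cfsg.Agent.Lib.Helper83.IrrBasic

/-!
# S0997 case B2 (project BW, helper10): piece REC

The recursion `cv (k⁻¹ x k) = ((1 + s cv k) / (1 + s))²`, `s = 2 θ(x) - 1`.
-/

set_option autoImplicit false

namespace Cfsg.Agent.Lib.Helper10.BW

open Cfsg
open Cfsg.Agent.Lib.Helper83 (trivIrr)
open Cfsg.Agent.Lib.Helper10.BR (psum)
open scoped ComplexConjugate

universe u

variable {G : Type u} [Group G] [Fintype G]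

variable {p e : ℕ} {P : Subgroup G} {θ θ' : IrrCharacter G}
  {Xp Xm D : Finset (IrrCharacter G)}

/-- a complex number whose square is a nonnegative real is real -/
theorem rec_real_of_sq (z : ℂ) (r : ℝ) (hr : 0 ≤ r) (hz : z ^ 2 = (r : ℂ)) : conj z = z := by
  have h1 : (z - ((Real.sqrt r : ℝ) : ℂ)) * (z + ((Real.sqrt r : ℝ) : ℂ)) = 0 := by
    have h2 : (((Real.sqrt r : ℝ) : ℂ)) ^ 2 = (r : ℂ) := by
      rw [← Complex.ofReal_pow, Real.sq_sqrt hr]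
    linear_combination hz - h2
  rcases mul_eq_zero.mp h1 with h3 | h3
  · have : z = ((Real.sqrt r : ℝ) : ℂ) := by linear_combination h3
    rw [this, Complex.conj_ofReal]
  · have : z = ((-(Real.sqrt r) : ℝ) : ℂ) := by
      push_cast
      linear_combination h3
    rw [this, Complex.conj_ofReal]

/-- BW-REC -/
theorem recursion (h : VTab G p e P θ θ' Xp Xm D) (h1 : psum P (θ : G → ℂ) 1 = (p : ℂ))
    (hrk : ∀ a b : G, (∑ᶠ u : P, om P (θ : G → ℂ) (a * (u : G) * b)) / (Nat.card P : ℂ) =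
      om P (θ : G → ℂ) a * om P (θ : G → ℂ) b)
    (ζ : G → ℂ)
    (hform : ∀ k x : G, x ∈ P → om P (θ : G → ℂ) (k⁻¹ * x * k) =
      (θ : G → ℂ) x / ((e : ℂ) + 1) + (1 - (θ : G → ℂ) x / ((e : ℂ) + 1)) * ζ k)
    (k x : G) (hx : x ∈ P) (hx1 : x ≠ 1) :
    cv P (θ : G → ℂ) (k⁻¹ * x * k) =
      ((1 + (2 * (θ : G → ℂ) x - 1) * cv P (θ : G → ℂ) k) / (1 + (2 * (θ : G → ℂ) x - 1))) ^ 2 := by
  classical
  have hp0 : (p : ℂ) ≠ 0 := Nat.cast_ne_zero.mpr h.hp.ne_zero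
  have he1 : (e : ℂ) + 1 ≠ 0 := by exact_mod_cast Nat.succ_ne_zero e
  have hpe : (p : ℂ) = 2 * (e : ℂ) + 1 := by
    rw [h.hpe]
    push_cast
    ring
  obtain ⟨t, ht⟩ : ∃ t : ℂ, t = ((e : ℂ) + 1)⁻¹ := ⟨_, rfl⟩
  have hte : ((e : ℂ) + 1) * t = 1 := by
    rw [ht]
    exact mul_inv_cancel₀ he1
  have hform' : ∀ y : G, y ∈ P → om P (θ : G → ℂ) (k⁻¹ * y * k) =
      (θ : G → ℂ) y * t + (1 - (θ : G → ℂ) y * t) * ζ k := by
    intro y hy
    rw [hform k y hy, ht, div_eq_mul_inv]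
  -- the sum of `θ` over `P`
  have hsumθ : ∑ u : P, (θ : G → ℂ) (u : G) = (p : ℂ) := by
    rw [← h1, Cfsg.Agent.Lib.Helper10.BR.psum_eq_sum]
    exact Finset.sum_congr rfl (fun u _ => by rw [one_mul])
  have hcardP : (Fintype.card P : ℂ) = (p : ℂ) := by
    rw [← Nat.card_eq_fintype_card, h.cardP]
  -- `cv k` in terms of `ζ k`
  have hcvk : cv P (θ : G → ℂ) k = t + (1 - t) * ζ k := by
    have h2 := hrk k⁻¹ k
    rw [finsum_eq_sum_of_fintype, h.cardP] at h2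
    have h3 : ∑ u : P, om P (θ : G → ℂ) (k⁻¹ * (u : G) * k) =
        (p : ℂ) * t + ((p : ℂ) - (p : ℂ) * t) * ζ k := by
      have h4 : ∀ u ∈ (Finset.univ : Finset P), om P (θ : G → ℂ) (k⁻¹ * (u : G) * k) =
          (θ : G → ℂ) (u : G) * t + (1 - (θ : G → ℂ) (u : G) * t) * ζ k :=
        fun u _ => hform' (u : G) u.2
      rw [Finset.sum_congr rfl h4]
      rw [Finset.sum_add_distrib, ← Finset.sum_mul, ← Finset.sum_mul, Finset.sum_sub_distrib,
        ← Finset.sum_mul, hsumθ, Finset.sum_const, Finset.card_univ, nsmul_eq_mul, mul_one,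
        hcardP]
    rw [h3] at h2
    unfold cv
    rw [← h2]
    field_simp
  -- the value of `om` at a conjugate of an element of `P` whose `s` squares to `p`
  have key : ∀ y : G, y ∈ P → (2 * (θ : G → ℂ) y - 1) ^ 2 = (p : ℂ) →
      om P (θ : G → ℂ) (k⁻¹ * y * k) =
        (1 + (2 * (θ : G → ℂ) y - 1) * cv P (θ : G → ℂ) k) / (1 + (2 * (θ : G → ℂ) y - 1)) := by
    intro y hy hsq
    have hs1 : 1 + (2 * (θ : G → ℂ) y - 1) ≠ 0 := by
      intro h0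
      have h4 : 2 * (θ : G → ℂ) y - 1 = -1 := by linear_combination h0
      rw [h4] at hsq
      have h5 : (p : ℂ) = 1 := by
        rw [← hsq]
        norm_num
      have h6 : p = 1 := by exact_mod_cast h5
      exact h.hp.one_lt.ne' h6
    rw [hpe] at hsq
    rw [hform' y hy, hcvk, eq_div_iff hs1]
    linear_combination (1 - ζ k) * hte + ((1 - ζ k) * t / 2) * hsq
  have hsqx := h.sq x hx hx1
  -- `θ x⁻¹ = θ x`
  have hθinv : (θ : G → ℂ) x⁻¹ = (θ : G → ℂ) x := by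
    rw [Cfsg.Agent.Lib.Helper83.irr_inv θ.2 x]
    have h7 : conj (2 * (θ : G → ℂ) x - 1) = 2 * (θ : G → ℂ) x - 1 :=
      rec_real_of_sq _ (p : ℝ) (Nat.cast_nonneg p) (by rw [hsqx]; norm_num)
    rw [map_sub, map_mul, map_one] at h7
    have h8 : conj (2 : ℂ) = 2 := by
      rw [show (2 : ℂ) = ((2 : ℝ) : ℂ) by norm_num, Complex.conj_ofReal]
    rw [h8] at h7
    have h9 : (2 : ℂ) * conj ((θ : G → ℂ) x) = 2 * (θ : G → ℂ) x := by linear_combination h7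
    exact mul_left_cancel₀ two_ne_zero h9
  have hxinv : x⁻¹ ∈ P := P.inv_mem hx
  have hsqx' : (2 * (θ : G → ℂ) x⁻¹ - 1) ^ 2 = (p : ℂ) := by
    rw [hθinv]
    exact hsqx
  have e1 := key x hx hsqx
  have e2 := key x⁻¹ hxinv hsqx'
  rw [hθinv] at e2
  have hinvconj : (k⁻¹ * x * k)⁻¹ = k⁻¹ * x⁻¹ * k := by group
  unfold cv at e1 e2 ⊢
  rw [hinvconj, e1, e2, sq]

end Cfsg.Agent.Lib.Helper10.BW
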