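import Mathlib
import Cfsg.Agent.Lib.Helper10.BWDefs

/-!
# S0997 case B2 (project BW, helper10): piece VALS

From the recursion and the iteration lemma: `cv g ∈ {1, 1/p}`.
-/

set_option autoImplicit false

namespace Cfsg.Agent.Lib.Helper10.BW

open Cfsg
open Cfsg.Agent.Lib.Helper83 (trivIrr)
open Cfsg.Agent.Lib.Helper10.BR (psum)
open scoped ComplexConjugate

universe u

variable {G : Type u} [Group G] [Fintype G]

variable {p e : ℕ} {P : Subgroup G} {θ θ' : IrrCharacter G}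
  {Xp Xm D : Finset (IrrCharacter G)}

/-- BW-VALS -/
theorem cv_vals (h : VTab G p e P θ θ' Xp Xm D)
    (hinv : ∀ g : G, om P (θ : G → ℂ) g⁻¹ = conj (om P (θ : G → ℂ) g))
    (x₀ : G) (hx₀ : x₀ ∈ P) (hx₀1 : x₀ ≠ 1)
    (hplus : 2 * (θ : G → ℂ) x₀ - 1 = ((Real.sqrt p : ℝ) : ℂ))
    (hrec : ∀ k : G, cv P (θ : G → ℂ) (k⁻¹ * x₀ * k) =
      ((1 + (2 * (θ : G → ℂ) x₀ - 1) * cv P (θ : G → ℂ) k) /
        (1 + (2 * (θ : G → ℂ) x₀ - 1))) ^ 2)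
    (hiter : ∀ s : ℝ, 1 < s → ∀ C : Finset ℝ, (∀ c ∈ C, 0 ≤ c) →
      (∀ c ∈ C, ((1 + s * c) / (1 + s)) ^ 2 ∈ C) → ∀ c ∈ C, c = 1 ∨ c = 1 / s ^ 2)
    (g : G) : cv P (θ : G → ℂ) g = 1 ∨ cv P (θ : G → ℂ) g = 1 / (p : ℂ) := by
  classical
  have hcv : ∀ k : G, cv P (θ : G → ℂ) k =
      ((Complex.normSq (om P (θ : G → ℂ) k) : ℝ) : ℂ) := by
    intro k
    unfold cv
    rw [hinv, Complex.normSq_eq_conj_mul_self]
  obtain ⟨s, hs⟩ : ∃ s : ℝ, s = Real.sqrt p := ⟨_, rfl⟩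
  have hp5 : (5 : ℝ) ≤ (p : ℝ) := by
    have h1 := h.hpe
    have h2 := h.he2
    have h3 : 5 ≤ p := by omega
    exact_mod_cast h3
  have hs1 : 1 < s := by
    rw [hs, Real.lt_sqrt (by norm_num)]
    linarith
  have hs2 : s ^ 2 = (p : ℝ) := by
    rw [hs]
    exact Real.sq_sqrt (by positivity)
  obtain ⟨C, hC⟩ : ∃ C : Finset ℝ,
      C = Finset.univ.image (fun k : G => Complex.normSq (om P (θ : G → ℂ) k)) := ⟨_, rfl⟩
  have hC0 : ∀ c ∈ C, 0 ≤ c := by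
    intro c hc
    rw [hC] at hc
    obtain ⟨k, -, rfl⟩ := Finset.mem_image.mp hc
    exact Complex.normSq_nonneg _
  have hCφ : ∀ c ∈ C, ((1 + s * c) / (1 + s)) ^ 2 ∈ C := by
    intro c hc
    rw [hC] at hc ⊢
    obtain ⟨k, -, rfl⟩ := Finset.mem_image.mp hc
    refine Finset.mem_image.mpr ⟨k⁻¹ * x₀ * k, Finset.mem_univ _, ?_⟩
    have h1 := hrec k
    rw [hplus, hcv, hcv, ← hs] at h1
    apply Complex.ofReal_injective
    rw [h1]
    push_cast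
    rfl
  have hg := hiter s hs1 C hC0 hCφ (Complex.normSq (om P (θ : G → ℂ) g)) (by
    rw [hC]
    exact Finset.mem_image.mpr ⟨g, Finset.mem_univ _, rfl⟩)
  rw [hcv]
  rcases hg with h1 | h1
  · left
    rw [h1]
    simp
  · right
    rw [h1, hs2]
    push_cast
    rfl

end Cfsg.Agent.Lib.Helper10.BW
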