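import Mathlib
import Cfsg.Agent.Lib.Helper40.Chief0

set_option autoImplicit false

/-! S1895 piece J2 (helper56): chief `p`-factors have exponent `p`; central ones have order `p`. -/

namespace Cfsg.Agent.Lib.Helper56

open Cfsg.Agent.Lib.Helper40.Chief
open scoped commutatorElement

variable {G : Type*} [Group G]

/-- A chief factor of `p`-power order has exponent `p`. -/
theorem chief_pow_mem [Finite G] {p : ℕ} [Fact p.Prime] {H K : Subgroup G} (h : IsChief H K)
    {n : ℕ} (hn : K.relIndex H = p ^ n) : ∀ x ∈ H, x ^ p ∈ K := by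
  obtain ⟨hHn, hKn, hKH, hch⟩ := h
  haveI := hHn
  haveI := hKn
  have hp := (Fact.out : p.Prime)
  have hn0 : n ≠ 0 := by
    rintro rfl
    rw [pow_zero, Subgroup.relIndex_eq_one] at hn
    exact hKH.not_ge hn
  haveI : (K.subgroupOf H).Normal := inferInstance
  have hcardQ : Nat.card (↥H ⧸ K.subgroupOf H) = p ^ n := by
    rw [← hn]; rfl
  obtain ⟨Mbar, hMbar⟩ := Sylow.exists_subgroup_card_pow_prime p (G := ↥H ⧸ K.subgroupOf H)
    (n := n - 1) (by rw [hcardQ]; exact pow_dvd_pow p (Nat.sub_le n 1))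
  have hidx : Mbar.index = p := by
    have h1 := Mbar.card_mul_index
    rw [hMbar, hcardQ] at h1
    have h2 : p ^ n = p ^ (n - 1) * p := by
      rw [← pow_succ]; congr 1; omega
    rw [h2] at h1
    exact Nat.eq_of_mul_eq_mul_left (pow_pos hp.pos _) h1
  haveI hMn : Mbar.Normal := by
    apply Subgroup.normal_of_index_eq_minFac_card
    rw [hidx, hcardQ, Nat.pow_minFac hn0]
    exact hp.minFac_eq.symm
  have hpowM : ∀ q : ↥H ⧸ K.subgroupOf H, q ^ p ∈ Mbar := by
    intro q
    have h1 : Nat.card ((↥H ⧸ K.subgroupOf H) ⧸ Mbar) = p := hidx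
    have h2 : (QuotientGroup.mk q : (↥H ⧸ K.subgroupOf H) ⧸ Mbar) ^ p = 1 := by
      rw [← h1]; exact pow_card_eq_one'
    rw [← QuotientGroup.mk_pow] at h2
    exact (QuotientGroup.eq_one_iff _).mp h2
  set M : Subgroup G := (Mbar.comap (QuotientGroup.mk' (K.subgroupOf H))).map H.subtype with hM
  have hmemM : ∀ x (hx : x ∈ H),
      (QuotientGroup.mk ⟨x, hx⟩ : ↥H ⧸ K.subgroupOf H) ∈ Mbar → x ∈ M := by
    intro x hx h1
    exact ⟨⟨x, hx⟩, h1, rfl⟩
  have hMmem : ∀ x ∈ M, ∃ hx : x ∈ H,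
      (QuotientGroup.mk ⟨x, hx⟩ : ↥H ⧸ K.subgroupOf H) ∈ Mbar := by
    rintro x ⟨y, hy, rfl⟩
    exact ⟨y.2, hy⟩
  have hKM : K ≤ M := by
    intro k hk
    apply hmemM k (hKH.le hk)
    have h1 : (QuotientGroup.mk ⟨k, hKH.le hk⟩ : ↥H ⧸ K.subgroupOf H) = 1 := by
      rw [QuotientGroup.eq_one_iff]; exact hk
    rw [h1]; exact Mbar.one_mem
  set S : Set G := {y | ∃ x ∈ H, y = x ^ p} with hS
  have hSM : S ⊆ M := by
    rintro y ⟨x, hx, rfl⟩
    apply hmemM _ (H.pow_mem hx p)
    exact hpowM (QuotientGroup.mk ⟨x, hx⟩)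
  have hconj : Group.conjugatesOfSet S ⊆ S := by
    intro y hy
    rw [Group.mem_conjugatesOfSet_iff] at hy
    obtain ⟨a, ha, hay⟩ := hy
    obtain ⟨x, hx, rfl⟩ := ha
    obtain ⟨c, rfl⟩ := isConj_iff.mp hay
    refine ⟨c * x * c⁻¹, hHn.conj_mem x hx c, ?_⟩
    rw [conj_pow]
  have hncl : Subgroup.normalClosure S ≤ M := by
    rw [Subgroup.normalClosure, Subgroup.closure_le]
    exact hconj.trans hSM
  have hWM : K ⊔ Subgroup.normalClosure S ≤ M := sup_le hKM hncl
  have hWn : (K ⊔ Subgroup.normalClosure S).Normal := inferInstance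
  have hMH : M ≤ H := by
    intro x hx; exact (hMmem x hx).1
  rcases hch _ hWn le_sup_left (hWM.trans hMH) with h1 | h1
  · intro x hx
    rw [← h1]
    exact Subgroup.mem_sup_right (Subgroup.subset_normalClosure ⟨x, hx, rfl⟩)
  · exfalso
    have hHM : H ≤ M := h1 ▸ hWM
    have htop : Mbar = ⊤ := by
      rw [eq_top_iff]
      intro q _
      obtain ⟨y, rfl⟩ := QuotientGroup.mk_surjective q
      obtain ⟨hy, h2⟩ := hMmem y.1 (hHM y.2)
      exact h2
    rw [htop, Subgroup.index_top] at hidx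
    exact hp.one_lt.ne hidx

/-- A central chief factor of `p`-power order has order `p`. -/
theorem chief_central_index [Finite G] {p : ℕ} [Fact p.Prime] {H K : Subgroup G}
    (h : IsChief H K) {n : ℕ} (hn : K.relIndex H = p ^ n)
    (hc : ∀ g : G, ∀ x ∈ H, ⁅g, x⁆ ∈ K) : K.relIndex H = p := by
  have hpow := chief_pow_mem h hn
  obtain ⟨hHn, hKn, hKH, hch⟩ := h
  haveI := hHn
  haveI := hKn
  have hp := (Fact.out : p.Prime)
  have hn0 : n ≠ 0 := by
    rintro rfl
    rw [pow_zero, Subgroup.relIndex_eq_one] at hn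
    exact hKH.not_ge hn
  obtain ⟨x, hxH, hxK⟩ := SetLike.exists_of_lt hKH
  have hLH : K ⊔ Subgroup.zpowers x ≤ H :=
    sup_le hKH.le (by rw [Subgroup.zpowers_le]; exact hxH)
  have hLn : (K ⊔ Subgroup.zpowers x).Normal := by
    constructor
    intro l hl g
    have hlH : l ∈ H := hLH hl
    have h1 : g * l * g⁻¹ = ⁅g, l⁆ * l := by rw [commutatorElement_def]; group
    rw [h1]
    exact Subgroup.mul_mem _ (Subgroup.mem_sup_left (hc g l hlH)) hl
  have hL : K ⊔ Subgroup.zpowers x = H := by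
    rcases hch _ hLn le_sup_left hLH with h1 | h1
    · exfalso; apply hxK; rw [← h1]; exact Subgroup.mem_sup_right (Subgroup.mem_zpowers x)
    · exact h1
  have hle : K.relIndex H ≤ p := by
    rw [← hL, Subgroup.relIndex_sup_left]
    have h1 := relIndex_le_card_of_fiber K (Subgroup.zpowers x) (α := ZMod p)
      (fun g => if hg : g ∈ Subgroup.zpowers x then
        ((Classical.choose (Subgroup.mem_zpowers_iff.mp hg) : ℤ) : ZMod p) else 0) ?_
    · simpa using h1
    · intro g hg h' hh' hfe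
      simp only [dif_pos hg, dif_pos hh'] at hfe
      have hg1 := Classical.choose_spec (Subgroup.mem_zpowers_iff.mp hg)
      have hh1 := Classical.choose_spec (Subgroup.mem_zpowers_iff.mp hh')
      generalize Classical.choose (Subgroup.mem_zpowers_iff.mp hg) = a at hfe hg1
      generalize Classical.choose (Subgroup.mem_zpowers_iff.mp hh') = b at hfe hh1
      have hdvd : (p : ℤ) ∣ b - a := by
        rw [← ZMod.intCast_zmod_eq_zero_iff_dvd]
        push_cast
        rw [hfe]; ring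
      obtain ⟨m, hm⟩ := hdvd
      rw [← hg1, ← hh1, ← zpow_neg, ← zpow_add]
      have h2 : -a + b = p * m := by omega
      rw [h2, zpow_mul, zpow_natCast]
      exact K.zpow_mem (hpow x hxH) m
  rw [hn] at hle ⊢
  have hn1 : n = 1 := by
    by_contra hne
    have h2 : 2 ≤ n := by omega
    have h3 : p ^ 2 ≤ p ^ n := Nat.pow_le_pow_right hp.pos h2
    have h4 : p * p ≤ p := by rw [← sq]; exact h3.trans hle
    nlinarith [hp.two_le]
  rw [hn1, pow_one]

end Cfsg.Agent.Lib.Helper56
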