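import Mathlib
import Cfsg.Agent.Lib.Helper40.Chief0
import Cfsg.Agent.Lib.Helper41.CritSub

set_option autoImplicit false

/-! S1895 piece J4 (helper56): for a normal subgroup `D` of order `p ^ 2`, the `p`-part of
`|G : C_G(D)|` is at most `p`. -/

namespace Cfsg.Agent.Lib.Helper56

open Cfsg.Agent.Lib.Helper40.Chief
open scoped commutatorElement

variable {G : Type*} [Group G]

/-- A subgroup of a group of order `p ^ 2` properly containing a nontrivial subgroup is
everything. -/
theorem eq_of_lt_of_card_sq [Finite G] {p : ℕ} [Fact p.Prime] {D : Subgroup G}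
    (hD : Nat.card D = p ^ 2) {A B : Subgroup G} (hAB : A < B) (hBD : B ≤ D) (hA : A ≠ ⊥) :
    B = D := by
  have hp := (Fact.out : p.Prime)
  have h1 : Nat.card B ∣ p ^ 2 := hD ▸ Subgroup.card_dvd_of_le hBD
  obtain ⟨k, hk, hkB⟩ := (Nat.dvd_prime_pow hp).mp h1
  have h2 : Nat.card A ∣ p ^ k := hkB ▸ Subgroup.card_dvd_of_le hAB.le
  obtain ⟨j, hj, hjA⟩ := (Nat.dvd_prime_pow hp).mp h2
  have hj0 : j ≠ 0 := by
    rintro rfl
    rw [pow_zero, Subgroup.card_eq_one] at hjA
    exact hA hjA
  have hlt : Nat.card A < Nat.card B := by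
    rcases lt_or_ge (Nat.card A) (Nat.card B) with h3 | h3
    · exact h3
    · exact absurd (Subgroup.eq_of_le_of_card_ge hAB.le h3) hAB.ne
  rw [hjA, hkB] at hlt
  have hjk : j < k := (Nat.pow_lt_pow_iff_right hp.one_lt).mp hlt
  have hk2 : k = 2 := by omega
  apply Subgroup.eq_of_le_of_card_ge hBD
  rw [hD, hkB, hk2]

/-- **J4**: if `D` is a normal subgroup of order `p ^ 2`, then `p ^ 2` does not divide
`|G : C_G(D)|`. -/
theorem not_sq_dvd_index_centralizer [Finite G] {p : ℕ} [Fact p.Prime] (D : Subgroup G)
    [D.Normal] (hD : Nat.card D = p ^ 2) :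
    ¬ p ^ 2 ∣ (Subgroup.centralizer (D : Set G)).index := by
  have hp := (Fact.out : p.Prime)
  have hDp : IsPGroup p D := IsPGroup.of_card hD
  obtain ⟨P, hDP⟩ := hDp.exists_le_sylow
  have hNn : (Subgroup.centralizer (D : Set G)).Normal := inferInstance
  have hclaim : (Subgroup.centralizer (D : Set G)).relIndex P ≤ p := by
    have hDne : D.subgroupOf P ≠ ⊥ := by
      intro hbot
      rw [Subgroup.subgroupOf_eq_bot, disjoint_iff, inf_eq_left.mpr hDP] at hbot
      rw [hbot, Subgroup.card_bot] at hD
      exact absurd hD.symm (Nat.one_lt_pow two_ne_zero hp.one_lt).ne'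
    have h1 := Cfsg.Agent.Lib.Helper41.normal_inf_center_ne_bot (H := ↥(P : Subgroup G)) p
      P.isPGroup' (D.subgroupOf P) hDne
    obtain ⟨z, hz1⟩ := (Subgroup.ne_bot_iff_exists_ne_one).mp h1
    have hzD : ((z : ↥(P : Subgroup G)) : G) ∈ D := (Subgroup.mem_inf.mp z.2).1
    have hzc : ∀ g ∈ (P : Subgroup G),
        g * ((z : ↥(P : Subgroup G)) : G) = ((z : ↥(P : Subgroup G)) : G) * g := by
      intro g hg
      have h2 := Subgroup.mem_center_iff.mp (Subgroup.mem_inf.mp z.2).2 ⟨g, hg⟩
      exact congrArg Subtype.val h2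
    have hz1' : ((z : ↥(P : Subgroup G)) : G) ≠ 1 := by
      intro h
      apply hz1
      ext
      exact h
    generalize ((z : ↥(P : Subgroup G)) : G) = w at hzD hzc hz1'
    by_cases hcyc : Subgroup.zpowers w = D
    · have hPN : (P : Subgroup G) ≤ Subgroup.centralizer (D : Set G) := by
        intro g hg
        rw [Subgroup.mem_centralizer_iff]
        intro x hx
        rw [← hcyc] at hx
        obtain ⟨k, rfl⟩ := Subgroup.mem_zpowers_iff.mp hx
        have h3 : Commute g w := hzc g hg
        exact (h3.zpow_right k).symm.eq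
      rw [Subgroup.relIndex_eq_one.mpr hPN]
      exact hp.one_lt.le
    · have hlt : Subgroup.zpowers w < D :=
        lt_of_le_of_ne (by rw [Subgroup.zpowers_le]; exact hzD) hcyc
      obtain ⟨d, hdD, hdw⟩ := SetLike.exists_of_lt hlt
      have hd1 : d ≠ 1 := by
        rintro rfl
        exact hdw (Subgroup.one_mem _)
      have hcl : Subgroup.closure ({w, d} : Set G) = D := by
        apply eq_of_lt_of_card_sq hD (A := Subgroup.zpowers w)
        · refine lt_of_le_of_ne ?_ ?_
          · rw [Subgroup.zpowers_le]; exact Subgroup.subset_closure (by simp)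
          · intro heq
            apply hdw
            rw [heq]
            exact Subgroup.subset_closure (by simp)
        · rw [Subgroup.closure_le]
          intro x hx
          rcases hx with rfl | rfl
          · exact hzD
          · exact hdD
        · intro hbot
          apply hz1'
          have h3 := Subgroup.mem_zpowers w
          rw [hbot] at h3
          exact Subgroup.mem_bot.mp h3
      have hle1 : Subgroup.centralizer ({d} : Set G) ⊓ P
          ≤ Subgroup.centralizer (D : Set G) ⊓ P := by
        intro g hg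
        obtain ⟨hg1, hg2⟩ := Subgroup.mem_inf.mp hg
        refine Subgroup.mem_inf.mpr ⟨?_, hg2⟩
        rw [← hcl, Subgroup.centralizer_closure, Subgroup.mem_centralizer_iff]
        intro x hx
        rcases hx with rfl | rfl
        · exact (hzc g hg2).symm
        · exact Subgroup.mem_centralizer_iff.mp hg1 x rfl
      have hdvd1 : (Subgroup.centralizer (D : Set G)).relIndex P
          ∣ (Subgroup.centralizer ({d} : Set G)).relIndex P := by
        rw [← Subgroup.inf_relIndex_right,
          ← Subgroup.inf_relIndex_right (Subgroup.centralizer ({d} : Set G))]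
        exact Subgroup.relIndex_dvd_of_le_left _ hle1
      have hne : ∀ g : G, (⟨g * d * g⁻¹, ‹D.Normal›.conj_mem d hdD g⟩ : ↥D) ≠ 1 := by
        intro g h
        have h2 : g * d * g⁻¹ = 1 := congrArg Subtype.val h
        apply hd1
        have h3 : d = g⁻¹ * (g * d * g⁻¹) * g := by group
        rw [h3, h2]
        group
      have hfib := relIndex_le_card_of_fiber (Subgroup.centralizer ({d} : Set G))
        (P : Subgroup G)
        (fun g => (⟨⟨g * d * g⁻¹, ‹D.Normal›.conj_mem d hdD g⟩, hne g⟩ : {x : ↥D // x ≠ 1}))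
        (by
          intro g _ h _ hgh
          have h2 : g * d * g⁻¹ = h * d * h⁻¹ :=
            congrArg Subtype.val (congrArg Subtype.val hgh)
          rw [Subgroup.mem_centralizer_iff]
          intro x hx
          rw [Set.mem_singleton_iff] at hx
          subst hx
          have h3 : x = g⁻¹ * (h * x * h⁻¹) * g := by rw [← h2]; group
          calc x * (g⁻¹ * h) = g⁻¹ * (h * x * h⁻¹) * g * (g⁻¹ * h) := by rw [← h3]
            _ = g⁻¹ * h * x := by group)
      have hlt2 : Nat.card {x : ↥D // x ≠ 1} < p ^ 2 := by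
        rw [← hD]
        exact Finite.card_subtype_lt (x := (1 : ↥D)) (by simp)
      have hdvd2 : (Subgroup.centralizer (D : Set G)).relIndex P
          ∣ Nat.card (P : Subgroup G) := Subgroup.relIndex_dvd_card _ _
      obtain ⟨m, hm⟩ := IsPGroup.iff_card.mp P.isPGroup'
      rw [hm] at hdvd2
      obtain ⟨k, hk, hkr⟩ := (Nat.dvd_prime_pow hp).mp hdvd2
      have hpos : 0 < (Subgroup.centralizer ({d} : Set G)).relIndex P :=
        Nat.pos_of_ne_zero (by rw [Subgroup.relIndex]; exact Subgroup.index_ne_zero_of_finite)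
      have h3 : (Subgroup.centralizer (D : Set G)).relIndex P < p ^ 2 :=
        lt_of_le_of_lt (Nat.le_of_dvd hpos hdvd1) (lt_of_le_of_lt hfib hlt2)
      rw [hkr] at h3 ⊢
      have hk1 : k < 2 := (Nat.pow_lt_pow_iff_right hp.one_lt).mp h3
      calc p ^ k ≤ p ^ 1 := Nat.pow_le_pow_right hp.pos (by omega)
        _ = p := pow_one p
  intro hdvd
  have h1 := Subgroup.relIndex_mul_index (H := Subgroup.centralizer (D : Set G))
    (K := Subgroup.centralizer (D : Set G) ⊔ P) le_sup_left
  rw [Subgroup.relIndex_sup_left] at h1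
  have h2 : ¬ p ∣ (Subgroup.centralizer (D : Set G) ⊔ P).index := by
    intro h3
    exact P.not_dvd_index (h3.trans (Subgroup.index_dvd_of_le le_sup_right))
  rw [← h1] at hdvd
  have h4 : p ^ 2 ∣ (Subgroup.centralizer (D : Set G)).relIndex P := by
    apply Nat.Coprime.dvd_of_dvd_mul_right _ hdvd
    apply Nat.Coprime.pow_left
    exact (Nat.Prime.coprime_iff_not_dvd hp).mpr h2
  have hpos : 0 < (Subgroup.centralizer (D : Set G)).relIndex P :=
    Nat.pos_of_ne_zero (by rw [Subgroup.relIndex]; exact Subgroup.index_ne_zero_of_finite)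
  have h5 := Nat.le_of_dvd hpos h4
  have h6 : p * p ≤ p := by rw [← sq]; exact h5.trans hclaim
  nlinarith [hp.two_le]

end Cfsg.Agent.Lib.Helper56
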