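import Mathlib
import Cfsg.Agent.Lib.Helper4.FCDefs

/-! Project FC (S4146, helper4), piece AIDX (duplicate seat helper56). -/

set_option autoImplicit false

namespace Cfsg.Agent.Lib.Helper4.FC

universe u

/-- an element of `A ∩ C(g)` is central: strong induction on its order -/
theorem aidx_helper56_central {G : Type u} [Group G] [Finite G] (n : ℕ) (A : Subgroup G) (g : G)
    (h4 : ∀ p : ℕ, p.Prime → p ∣ Nat.card A → p ∣ n)
    (h7 : ∀ (p : ℕ) (u : G), p.Prime → p ∣ n → Prim p u → u ∈ Cen g → u ∈ Subgroup.center G) :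
    ∀ N : ℕ, ∀ a : G, orderOf a = N → a ∈ A → a ∈ Cen g → a ∈ Subgroup.center G := by
  intro N
  induction N using Nat.strong_induction_on with
  | _ N ih =>
    intro a haN haA haC
    by_cases hN1 : N = 1
    · rw [hN1, orderOf_eq_one_iff] at haN
      rw [haN]; exact one_mem _
    have hNpos : 0 < N := by rw [← haN]; exact orderOf_pos a
    obtain ⟨p, hp, hpN⟩ := Nat.exists_prime_and_dvd hN1
    obtain ⟨e, N', hpN', hNe⟩ := Nat.exists_eq_pow_mul_and_not_dvd hNpos.ne' p hp.ne_one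
    have he : e ≠ 0 := by
      rintro rfl
      rw [pow_zero, one_mul] at hNe
      exact hpN' (hNe ▸ hpN)
    have hN'pos : 0 < N' := by
      rcases Nat.eq_zero_or_pos N' with h | h
      · rw [h, mul_zero] at hNe; omega
      · exact h
    have hpe : 1 < p ^ e := Nat.one_lt_pow he hp.one_lt
    have hN'lt : N' < N := by rw [hNe]; nlinarith
    have hcop : Nat.Coprime (p ^ e) N' :=
      Nat.Coprime.pow_left e ((Nat.Prime.coprime_iff_not_dvd hp).mpr hpN')
    have hx : orderOf (a ^ N') = p ^ e := by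
      rw [orderOf_pow_of_dvd hN'pos.ne' (by rw [haN, hNe]; exact dvd_mul_left _ _), haN, hNe]
      exact Nat.mul_div_cancel _ hN'pos
    have hy : orderOf (a ^ (p ^ e)) = N' := by
      rw [orderOf_pow_of_dvd (by positivity) (by rw [haN, hNe]; exact dvd_mul_right _ _), haN,
        hNe]
      exact Nat.mul_div_cancel_left _ (by positivity)
    have hpA : p ∣ Nat.card A := by
      have h1 : orderOf a ∣ Nat.card A := Subgroup.orderOf_dvd_natCard A haA
      rw [haN] at h1
      exact hpN.trans h1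
    have hxZ : a ^ N' ∈ Subgroup.center G :=
      h7 p (a ^ N') hp (h4 p hp hpA) ⟨e, hx⟩ (pow_mem haC _)
    have hyZ : a ^ (p ^ e) ∈ Subgroup.center G :=
      ih N' hN'lt (a ^ (p ^ e)) hy (pow_mem haA _) (pow_mem haC _)
    have hb : ((p ^ e : ℕ) : ℤ) * Nat.gcdA (p ^ e) N' + (N' : ℤ) * Nat.gcdB (p ^ e) N' = 1 := by
      have h1 := Nat.gcd_eq_gcd_ab (p ^ e) N'
      rw [hcop.gcd_eq_one] at h1
      rw [← h1]; rfl
    have ha : (a ^ (p ^ e)) ^ (Nat.gcdA (p ^ e) N') * (a ^ N') ^ (Nat.gcdB (p ^ e) N') = a := by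
      rw [← zpow_natCast a (p ^ e), ← zpow_natCast a N', ← zpow_mul, ← zpow_mul, ← zpow_add, hb,
        zpow_one]
    rw [← ha]
    exact mul_mem (zpow_mem hyZ _) (zpow_mem hxZ _)

theorem fc_aidx : AIdxStmt.{u} := by
  intro G _ _ n m A g hFour hAn hcop h4 h5 h6 h7
  obtain ⟨hn1, hm1, hnm, hcs, ⟨xn, hxn⟩, -, -⟩ := hFour
  have hinf : Subgroup.center G ⊓ A = Cen g ⊓ A := by
    apply le_antisymm
    · exact inf_le_inf_right _ (Subgroup.center_le_centralizer _)
    · rintro a ⟨haC, haA⟩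
      exact ⟨aidx_helper56_central n A g h4 h7 _ a rfl haA haC, haA⟩
  have hrel : (Subgroup.center G).relIndex A = (Cen g).relIndex A := by
    rw [← Subgroup.inf_relIndex_right (Subgroup.center G) A, hinf, Subgroup.inf_relIndex_right]
  rw [hrel]
  have e1 : (Cen g).relIndex A * A.index = (Cen g ⊓ A).index := by
    rw [← Subgroup.inf_relIndex_right (Cen g) A]
    exact Subgroup.relIndex_mul_index inf_le_right
  have e2 : A.relIndex (Cen g) * (Cen g).index = (Cen g ⊓ A).index := by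
    rw [← Subgroup.inf_relIndex_left (Cen g) A]
    exact Subgroup.relIndex_mul_index inf_le_left
  have hσd : A.relIndex (Cen g) ∣ A.index := Subgroup.relIndex_dvd_index_of_normal A (Cen g)
  obtain ⟨τ, hτ⟩ := hσd
  have hAi : A.index ≠ 0 := Subgroup.index_ne_zero_of_finite
  have hσ0 : A.relIndex (Cen g) ≠ 0 := by
    intro h; rw [h, zero_mul] at hτ; exact hAi hτ
  have e3 : (Cen g).relIndex A * τ = cs g := by
    have h1 : A.relIndex (Cen g) * ((Cen g).relIndex A * τ) =
        A.relIndex (Cen g) * (Cen g).index := by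
      rw [e2, ← e1, hτ]; ring
    exact Nat.eq_of_mul_eq_mul_left (Nat.pos_of_ne_zero hσ0) h1
  have hρA : (Cen g).relIndex A ∣ Nat.card A := Subgroup.relIndex_dvd_card _ _
  have hnA : ∀ p : ℕ, p.Prime → p ∣ n → p ∣ Nat.card A := by
    intro p hp hpn
    have hpG : p ∣ Nat.card G := by
      have h1 : n ∣ Nat.card G := by rw [← hxn]; exact Subgroup.index_dvd_card _
      exact hpn.trans h1
    have hf : Fact p.Prime := ⟨hp⟩
    obtain ⟨x, hx⟩ := exists_prime_orderOf_dvd_card' p hpG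
    have hxA : x ∈ A := h5 p x hp hpn ⟨1, by rw [hx, pow_one]⟩
    rw [← hx]; exact Subgroup.orderOf_dvd_natCard A hxA
  have hcop1 : Nat.Coprime n A.index := by
    apply Nat.coprime_of_dvd
    intro k hk hkn hki
    have h1 : k ∣ Nat.gcd (Nat.card A) A.index := Nat.dvd_gcd (hnA k hk hkn) hki
    rw [hcop.gcd_eq_one] at h1
    exact hk.one_lt.ne' (Nat.dvd_one.mp h1)
  have hcop2 : Nat.Coprime (Nat.card A) m := by
    apply Nat.coprime_of_dvd
    intro k hk hkA hkm
    have h1 : k ∣ Nat.gcd n m := Nat.dvd_gcd (h4 k hk hkA) hkm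
    rw [hnm.gcd_eq_one] at h1
    exact hk.one_lt.ne' (Nat.dvd_one.mp h1)
  have hτd : τ ∣ A.index := ⟨A.relIndex (Cen g), by rw [hτ, mul_comm]⟩
  have hndvd : n ∣ (Cen g).relIndex A := by
    have h1 : n ∣ (Cen g).relIndex A * τ := by
      rw [e3]; rcases h6 with h | h <;> rw [h]
      exact dvd_mul_right _ _
    exact (Nat.Coprime.coprime_dvd_right hτd hcop1).dvd_of_dvd_mul_right h1
  have hρn : (Cen g).relIndex A ∣ n := by
    have h1 : (Cen g).relIndex A ∣ cs g := ⟨τ, e3.symm⟩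
    rcases h6 with h | h
    · rwa [h] at h1
    · rw [h] at h1
      exact (Nat.Coprime.coprime_dvd_left hρA hcop2).dvd_of_dvd_mul_right h1
  exact Nat.dvd_antisymm hρn hndvd

end Cfsg.Agent.Lib.Helper4.FC
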