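import Cfsg.Agent.Lib.Helper92.FT12Defs
import Cfsg.Agent.S1418

/-! S1421 project (helper92), piece FT-EPA: `epA_of`. -/

set_option autoImplicit false

open Cfsg Cfsg.Agent.Lib.Helper92.FT

namespace Cfsg.Agent.Lib.Helper56.FT12

universe u

/-- existence of a Sylow `p`-subgroup of `E` -/
theorem epa_exists_sylIn {G : Type u} [Group G] [Finite G] (p : ℕ) [Fact p.Prime]
    (E : Subgroup G) : ∃ P : Subgroup G, SylIn p P E := by
  obtain ⟨Q⟩ : Nonempty (Sylow p ↥E) := inferInstance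
  refine ⟨(Q : Subgroup ↥E).map E.subtype, Subgroup.map_subtype_le _, ?_, ?_⟩
  · exact Q.isPGroup'.map E.subtype
  · show ¬ p ∣ (((Q : Subgroup ↥E).map E.subtype).comap E.subtype).index
    rw [Subgroup.comap_map_eq_self_of_injective (Subgroup.subtype_injective E)]
    exact Q.not_dvd_index

/-- a `p`-element of `E` lies in a normal Sylow `p`-subgroup `P` of `E` -/
theorem epa_mem_of_pelt {G : Type u} [Group G] [Finite G] (p : ℕ) [Fact p.Prime]
    (E P : Subgroup G) (hP : SylIn p P E) (hn : E ≤ Subgroup.normalizer (P : Set G))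
    (x : G) (hxE : x ∈ E) (hx : PElt p x) : x ∈ P := by
  obtain ⟨hPE, hPp, hidx⟩ := hP
  obtain ⟨k, hk⟩ := hx
  have hp : p.Prime := Fact.out
  have hnorm : (P.subgroupOf E).Normal := (Subgroup.normal_subgroupOf_iff_le_normalizer hPE).2 hn
  have hmem : (⟨x, hxE⟩ : ↥E) ^ (P.subgroupOf E).index ∈ P.subgroupOf E :=
    Subgroup.pow_index_mem _ _
  have hord : orderOf (⟨x, hxE⟩ : ↥E) = p ^ k := by
    rw [← hk]
    exact Subgroup.orderOf_mk x hxE
  have hcop : Nat.Coprime (P.subgroupOf E).index (orderOf (⟨x, hxE⟩ : ↥E)) := by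
    rw [hord]
    apply Nat.Coprime.pow_right
    exact Nat.Coprime.symm ((Nat.Prime.coprime_iff_not_dvd hp).2 hidx)
  obtain ⟨m, hm⟩ := exists_pow_eq_self_of_coprime hcop
  have h1 : (⟨x, hxE⟩ : ↥E) ∈ P.subgroupOf E := by
    rw [← hm]
    exact Subgroup.pow_mem _ hmem m
  exact Subgroup.mem_subgroupOf.1 h1

/-- if some Sylow `p`-subgroup of `G` is commutative, every `p`-subgroup is -/
theorem epa_comm {G : Type u} [Group G] [Finite G] (p : ℕ) [Fact p.Prime]
    (hS : ∃ S : Sylow p G, IsMulCommutative (S : Subgroup G)) (P : Subgroup G)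
    (hP : IsPGroup p P) : ∀ a ∈ P, ∀ b ∈ P, a * b = b * a := by
  obtain ⟨S, hS⟩ := hS
  obtain ⟨Q, hQ⟩ := hP.exists_le_sylow
  obtain ⟨g, rfl⟩ := MulAction.exists_smul_eq G S Q
  intro a ha b hb
  have ha' : a ∈ ((g • S : Sylow p G) : Subgroup G) := hQ ha
  have hb' : b ∈ ((g • S : Sylow p G) : Subgroup G) := hQ hb
  rw [Sylow.coe_subgroup_smul, Subgroup.mem_smul_pointwise_iff_exists] at ha' hb'
  obtain ⟨a', ha', rfl⟩ := ha'
  obtain ⟨b', hb', rfl⟩ := hb'
  have h1 : a' * b' = b' * a' := congrArg Subtype.val (hS.is_comm.comm ⟨a', ha'⟩ ⟨b', hb'⟩)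
  simp only [MulAut.smul_def, MulAut.conj_apply]
  calc g * a' * g⁻¹ * (g * b' * g⁻¹) = g * (a' * b') * g⁻¹ := by group
    _ = g * (b' * a') * g⁻¹ := by rw [h1]
    _ = g * b' * g⁻¹ * (g * a' * g⁻¹) := by group

/-- an element of order `p` of a good line has no fixed point -/
theorem epa_not_fix {G : Type u} [Group G] [Finite G] (p : ℕ) (M X : Subgroup G)
    (hX : Nat.card X = p)
    (hgood : sigmaCore M ⊓ Subgroup.centralizer (X : Set G) = ⊥) (z : G) (hz : z ∈ X)
    (hzp : orderOf z = p) : ¬ Fix M z := by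
  intro hfix
  apply hfix
  have hzX : Subgroup.zpowers z = X := by
    apply Subgroup.eq_of_le_of_card_ge
    · exact (Subgroup.zpowers_le).2 hz
    · rw [Nat.card_zpowers, hzp, hX]
  rw [eq_bot_iff, ← hgood]
  refine inf_le_inf_left _ ?_
  intro g hg
  rw [Subgroup.mem_centralizer_iff] at hg ⊢
  intro h hh
  rw [← hzX] at hh
  obtain ⟨k, rfl⟩ := Subgroup.mem_zpowers_iff.1 hh
  have h1 : z * g = g * z := hg z (Set.mem_singleton z)
  exact (Commute.zpow_left (h1 : Commute z g) k).eq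

theorem epa_core (hs : NSylStmt.{u}) (hg : GoodLineStmt.{u}) (he : EpPureStmt.{u})
    (G : Type u) [Group G] [Finite G] (hG : IsMinSimpleOddOrder G) (M E : Subgroup G)
    (hH : Hyp M E) (p : ℕ) [Fact p.Prime] (A : Subgroup G) (hT : T2 M E p A)
    (hS : ∃ S : Sylow p G, IsMulCommutative (S : Subgroup G)) (hσ : sigmaCore M ≠ ⊥)
    (hline : ∀ X : Subgroup G, X ≤ E → Nat.card X = p → X ≤ A) :
    ∃ Ep : Subgroup G, Adapted M E p Ep := by
  have hp : p.Prime := Fact.out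
  obtain ⟨P, hP⟩ := epa_exists_sylIn p E
  have hnP : E ≤ Subgroup.normalizer (P : Set G) := hs G hG M E hH.hM hH.hE p hT.hp hS P hP
  have hPab := epa_comm p hS P hP.2.1
  have hmemP : ∀ x ∈ E, PElt p x → x ∈ P :=
    fun x hx hpx => epa_mem_of_pelt p E P hP hnP x hx hpx
  rcases hg G hG M E hH p A hT hS hσ P hP with
    hall | ⟨X, hXA, hXp, hEX, hXgood, c, hcP, hcmax, hcX⟩
  · -- all lines good: `Ep := E`
    refine ⟨E, le_rfl, ?_, ?_, ?_⟩
    · intro r hr _ hdvd
      rw [Subgroup.relIndex_self] at hdvd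
      exact hr.one_lt.ne' (Nat.dvd_one.1 hdvd)
    · have : Nonempty ↥P := ⟨1⟩
      obtain ⟨y, hy⟩ := Finite.exists_max (fun y : ↥P => orderOf (y : G))
      refine ⟨(y : G), hP.1 y.2, ?_⟩
      intro x hx hpx
      have hxP := hmemP x hx hpx
      obtain ⟨a, ha⟩ := hpx
      obtain ⟨b, hb⟩ : ∃ b : ℕ, orderOf (y : G) = p ^ b := by
        obtain ⟨b, hb⟩ := (IsPGroup.iff_orderOf.1 hP.2.1) y
        exact ⟨b, by rw [← hb, Subgroup.orderOf_coe]⟩
      have hle := hy ⟨x, hxP⟩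
      simp only at hle
      rw [ha, hb] at hle ⊢
      exact pow_dvd_pow p ((Nat.pow_le_pow_iff_right hp.one_lt).1 hle)
    · intro z hz hzp
      have hc : Nat.card (Subgroup.zpowers z) = p := by rw [Nat.card_zpowers, hzp]
      have hzl : Subgroup.zpowers z ≤ A := hline _ ((Subgroup.zpowers_le).2 hz) hc
      exact epa_not_fix p M (Subgroup.zpowers z) hc (hall _ hzl hc) z
        (Subgroup.mem_zpowers z) hzp
  · -- an invariant good line
    have hAP : A ≤ P := by
      intro a ha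
      apply hmemP a (hT.hAE ha)
      have h1 : a ^ p = 1 := hT.hA.2 a ha
      have h2 : orderOf a ∣ p := orderOf_dvd_of_pow_eq_one h1
      rcases (Nat.dvd_prime hp).1 h2 with h | h
      · exact ⟨0, by rw [h, pow_zero]⟩
      · exact ⟨1, by rw [h, pow_one]⟩
    obtain ⟨H, hHE, hidx, hy, hz⟩ :=
      he G p E P X hP hnP hPab (hXA.trans hAP) hEX hXp c hcP hcmax hcX
    refine ⟨H, hHE, hidx, hy, ?_⟩
    intro z hzH hzp
    exact epa_not_fix p M X hXp hXgood z (hz z hzH hzp) hzp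

theorem epA_of (hs : NSylStmt.{u}) (hg : GoodLineStmt.{u}) (he : EpPureStmt.{u}) :
    EpAStmt.{u} := by
  intro G _ _ hG M E hH p _ A hT hS hσ
  have h18 := Cfsg.Agent.S1418.result hG M hH.hM E hH.hE p hT.hp A ⟨hT.hAE, hT.hA, hT.hA2⟩
  exact epa_core hs hg he G hG M E hH p A hT hS hσ h18.1.2

end Cfsg.Agent.Lib.Helper56.FT12
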