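import Cfsg.Agent.Lib.Helper56.FrakL6
import Mathlib

set_option autoImplicit false
open Cfsg
open Cfsg.Agent.Lib.Helper55 (pred_largestPReducedOf elemAb_iff cj mem_cj)

namespace Cfsg.Agent.Lib.Helper56

section FrakB1

/-- the abstract data of a member of the family `𝔏`, inside `Λ = L` -/
theorem fl_data_of_frakL {G : Type*} [Group G] [Finite G] {p : ℕ} [Fact p.Prime] (M L : Subgroup G)
    (hL : Cfsg.IsInFrakL p M L) :
    FLData p ((Cfsg.largestPReducedOf p M).subgroupOf L) (Cfsg.pCore p ↥L) ∧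
    (∀ y ∈ (Cfsg.largestPReducedOf p M).subgroupOf L, y ^ p = 1) ∧
    ((∃ (F : Type) (_ : Field F) (_ : Fintype F),
        Fintype.card F = Nat.card (((Cfsg.largestPReducedOf p M).subgroupOf L).map
          (QuotientGroup.mk' (Cfsg.pCore p ↥L))) ∧
          Nonempty (↥L ⧸ Cfsg.pCore p ↥L ≃* Matrix.SpecialLinearGroup (Fin 2) F)) ∨
      (p = 2 ∧ ∃ (F : Type) (_ : Field F) (_ : Fintype F) (m : ℕ),
        Fintype.card F = 2 ^ (2 * m + 1) ∧
          Fintype.card F = Nat.card (((Cfsg.largestPReducedOf p M).subgroupOf L).map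
            (QuotientGroup.mk' (Cfsg.pCore p ↥L))) ∧
            Nonempty (↥L ⧸ Cfsg.pCore p ↥L ≃* ↥(Lie.Sz F (2 ^ (m + 1))))) ∨
      (p = 2 ∧ ∃ r : ℕ, r.Prime ∧ r ≠ 2 ∧ Nonempty (↥L ⧸ Cfsg.pCore p ↥L ≃* DihedralGroup r))) := by
  obtain ⟨hYL, hAcl, hAN, ⟨hgen, -⟩, -, ⟨-, hmax⟩, hcase⟩ := hL
  have hpred := pred_largestPReducedOf (p := p) M
  have hYe := (elemAb_iff _).mp hpred.elemAb
  obtain ⟨Y₀, hY₀⟩ : ∃ Y₀ : Subgroup G, Y₀ = Cfsg.largestPReducedOf p M := ⟨_, rfl⟩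
  rw [← hY₀] at hYL hAcl hAN hgen hmax hcase hYe ⊢
  have hY₀p : IsPGroup p Y₀ := by
    rw [hY₀]
    exact hpred.isPGroup
  have hAn : (Cfsg.pCore p ↥L).Normal := Cfsg.Agent.Lib.Helper55.pCore_normal
  have hAp : IsPGroup p (Cfsg.pCore p ↥L) := Cfsg.Agent.Lib.Helper55.pCore_isPGroup
  have hmapY : (Y₀.subgroupOf L).map L.subtype = Y₀ := Subgroup.map_subgroupOf_eq_of_le hYL
  have hdata : FLData p (Y₀.subgroupOf L) (Cfsg.pCore p ↥L) := by
    refine ⟨?_, ?_, hAp, hAn, ?_, ?_, hgen, ?_, ?_⟩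
    · intro a ha b hb
      apply Subtype.ext
      exact hYe.1 a ha b hb
    · exact hY₀p.comap_subtype
    · have h1 : (Y₀ ⊓ Cfsg.pCoreOf p L).subgroupOf L = Y₀.subgroupOf L ⊓ Cfsg.pCore p ↥L := by
        ext x
        rw [Subgroup.mem_subgroupOf, Subgroup.mem_inf, Subgroup.mem_inf, Subgroup.mem_subgroupOf]
        constructor
        · rintro ⟨hx1, hx2⟩
          refine ⟨hx1, ?_⟩
          obtain ⟨y, hy, hyx⟩ := hx2
          have : y = x := Subtype.ext hyx
          rwa [← this]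
        · rintro ⟨hx1, hx2⟩
          exact ⟨hx1, Subgroup.mem_map_of_mem _ hx2⟩
      intro a ha
      have h2 : (a : G) ∈ Cfsg.pCoreOf p L := Subgroup.mem_map_of_mem L.subtype ha
      rw [hAcl] at h2
      obtain ⟨b, hb, hba⟩ := h2
      have : b = a := Subtype.ext hba
      rw [← this, ← h1]
      exact hb
    · intro a ha
      have h2 : (a : G) ∈ Subgroup.normalizer (Y₀ : Set G) :=
        hAN (Subgroup.mem_map_of_mem L.subtype ha)
      rw [Subgroup.mem_normalizer_iff] at h2 ⊢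
      intro x
      exact h2 x
    · intro X hYX hXtop
      have h1 : Y₀ ≤ X.map L.subtype := by
        rw [← hmapY]
        exact Subgroup.map_mono hYX
      have h2 : X.map L.subtype < L := by
        refine lt_of_le_of_ne (Subgroup.map_subtype_le _) ?_
        intro heq
        apply hXtop
        rw [eq_top_iff]
        intro x _
        have hx : (x : G) ∈ X.map L.subtype := by
          rw [heq]
          exact x.2
        obtain ⟨y, hy, hyx⟩ := hx
        have : y = x := Subtype.ext hyx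
        rwa [← this]
      have h3 := hmax _ h1 h2
      intro x hx
      have h4 : (x : G) ∈ Subgroup.normalizer (Y₀ : Set G) :=
        (Subgroup.mem_inf.mp (h3 (Subgroup.mem_map_of_mem L.subtype hx))).2
      rw [Subgroup.mem_normalizer_iff] at h4 ⊢
      intro y
      exact h4 y
    · intro N hN hNp
      exact Cfsg.Agent.Lib.Helper55.le_pCore hN hNp
  have hcardU : Nat.card ((Y₀.subgroupOf L).map (QuotientGroup.mk' (Cfsg.pCore p ↥L))) =
      (Y₀ ⊓ Cfsg.pCoreOf p L).relIndex Y₀ := by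
    rw [← Subgroup.relIndex_ker, QuotientGroup.ker_mk', Subgroup.inf_relIndex_left]
    have h1 := Subgroup.relIndex_map_map_of_injective (Cfsg.pCore p ↥L) (Y₀.subgroupOf L)
      (Subgroup.subtype_injective L)
    rw [hmapY] at h1
    exact h1.symm
  rw [← hcardU] at hcase
  refine ⟨hdata, ?_, hcase⟩
  intro y hy
  apply Subtype.ext
  rw [Subgroup.coe_pow]
  exact hYe.2 y hy

variable {Λ : Type*} [Group Λ] [Finite Λ] {p : ℕ} [Fact p.Prime] {Y A : Subgroup Λ}
  [hAn : A.Normal]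

/-- the image of `Y` in `Λ/A` is not trivial -/
theorem fb_not_le (h : FLData p Y A) (hne : Y.map (QuotientGroup.mk' A) ≠ ⊥) : ¬ Y ≤ A := by
  intro hYA
  apply hne
  rw [eq_bot_iff]
  rintro _ ⟨y, hy, rfl⟩
  rw [Subgroup.mem_bot, QuotientGroup.mk'_apply, QuotientGroup.eq_one_iff]
  exact hYA hy

/-- an element of `Λ/A` normalizing the image of `Y` comes from the normalizer of `Y` -/
theorem fb_norm_mem (h : FLData p Y A) (hne : Y.map (QuotientGroup.mk' A) ≠ ⊥)
    {ν : Λ ⧸ A} (hν : ∀ u ∈ Y.map (QuotientGroup.mk' A), ν * u * ν⁻¹ ∈ Y.map (QuotientGroup.mk' A)) :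
    ν ∈ (Subgroup.normalizer (Y : Set Λ)).map (QuotientGroup.mk' A) := by
  obtain ⟨n, rfl⟩ := QuotientGroup.mk'_surjective A ν
  refine Subgroup.mem_map_of_mem _ ?_
  have hYAp : IsPGroup p (Y ⊔ A : Subgroup Λ) := IsPGroup.to_sup_of_normal_right h.yp h.ap
  have hconj : ∀ x ∈ Y ⊔ A, n * x * n⁻¹ ∈ Y ⊔ A := by
    intro x hx
    have hx' : QuotientGroup.mk' A x ∈ Y.map (QuotientGroup.mk' A) := by
      have : (Y ⊔ A).map (QuotientGroup.mk' A) = Y.map (QuotientGroup.mk' A) := by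
        rw [Subgroup.map_sup]
        have : A.map (QuotientGroup.mk' A) = ⊥ := by
          rw [eq_bot_iff]
          rintro _ ⟨a, ha, rfl⟩
          rw [Subgroup.mem_bot, QuotientGroup.mk'_apply, QuotientGroup.eq_one_iff]
          exact ha
        rw [this, sup_bot_eq]
      rw [← this]
      exact Subgroup.mem_map_of_mem _ hx
    have h1 := hν _ hx'
    rw [← map_inv, ← map_mul, ← map_mul] at h1
    obtain ⟨y, hy, hyeq⟩ := h1
    have h2 : y⁻¹ * (n * x * n⁻¹) ∈ A := by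
      rw [← QuotientGroup.eq_one_iff, ← QuotientGroup.mk'_apply, map_mul, map_inv, hyeq,
        inv_mul_cancel]
    have h3 : n * x * n⁻¹ = y * (y⁻¹ * (n * x * n⁻¹)) := by group
    rw [h3]
    exact Subgroup.mul_mem _ (Subgroup.mem_sup_left hy) (Subgroup.mem_sup_right h2)
  have hnN : n ∈ Subgroup.normalizer ((Y ⊔ A : Subgroup Λ) : Set Λ) := by
    apply Cfsg.Agent.Lib.Helper88.mem_normalizer_of_conj_le
    intro x hx
    exact hconj x hx
  have hXtop : Subgroup.normalizer ((Y ⊔ A : Subgroup Λ) : Set Λ) ≠ ⊤ := by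
    intro htop
    have hnorm : (Y ⊔ A : Subgroup Λ).Normal := Subgroup.normalizer_eq_top_iff.mp htop
    have := h.core _ hnorm hYAp
    exact fb_not_le h hne (le_sup_left.trans this)
  exact h.mx _ (le_sup_left.trans Subgroup.le_normalizer) hXtop hnN

/-- the dihedral structure of `Λ/A` when the image of `Y` has order `2` -/
theorem fl_two_struct (h : FLData p Y A) (hU : Nat.card (Y.map (QuotientGroup.mk' A)) = 2) :
    p = 2 ∧ ∃ u ρ : Λ ⧸ A, u ∈ Y.map (QuotientGroup.mk' A) ∧ u ≠ 1 ∧ u * u = 1 ∧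
      Subgroup.zpowers u = Y.map (QuotientGroup.mk' A) ∧
      (∀ j : ℤ, u * ρ ^ j = ρ ^ (-j) * u) ∧ ∀ x : Λ ⧸ A, ∃ j : ℤ, x = ρ ^ j ∨ x = ρ ^ j * u := by
  have hpp : p.Prime := Fact.out
  have hUp : IsPGroup p (Y.map (QuotientGroup.mk' A)) := h.yp.map _
  have hp2 : p = 2 := by
    obtain ⟨n, hn⟩ := IsPGroup.iff_card.mp hUp
    rw [hU] at hn
    have hn0 : n ≠ 0 := by
      rintro rfl
      simp at hn
    have : p ∣ 2 := by
      rw [hn]; exact dvd_pow_self p hn0
    exact (Nat.prime_dvd_prime_iff_eq hpp Nat.prime_two).mp this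
  refine ⟨hp2, ?_⟩
  obtain ⟨g, hg⟩ : ∃ g : Λ, Y ⊔ cj g Y = ⊤ := by
    by_contra hcon
    push Not at hcon
    have h1 : ∀ g : Λ, cj g Y ≤ Subgroup.normalizer (Y : Set Λ) :=
      fun g => le_sup_right.trans (h.mx _ le_sup_left (hcon g))
    have h2 : Subgroup.normalizer (Y : Set Λ) = ⊤ := by
      rw [eq_top_iff, ← h.gen, Subgroup.normalClosure, Subgroup.closure_le]
      intro y hy
      obtain ⟨b, hb, hconj⟩ := Group.mem_conjugatesOfSet_iff.mp hy
      obtain ⟨c, rfl⟩ := isConj_iff.mp hconj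
      apply h1 c
      rw [mem_cj]
      have e : c⁻¹ * (c * b * c⁻¹) * c = b := by group
      rw [e]; exact hb
    have h3 : Y.Normal := Subgroup.normalizer_eq_top_iff.mp h2
    have h4 : Y ≤ A := h.core Y h3 h.yp
    have h5 : Y.map (QuotientGroup.mk' A) = ⊥ := by
      rw [eq_bot_iff]
      rintro _ ⟨y, hy, rfl⟩
      rw [Subgroup.mem_bot, QuotientGroup.mk'_apply, QuotientGroup.eq_one_iff]
      exact h4 hy
    rw [h5] at hU
    simp at hU
  have hUne : Y.map (QuotientGroup.mk' A) ≠ ⊥ := by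
    intro hb
    rw [hb] at hU
    simp at hU
  obtain ⟨u, huU, hu1⟩ : ∃ u ∈ Y.map (QuotientGroup.mk' A), u ≠ 1 := by
    by_contra hcon
    push Not at hcon
    apply hUne
    rw [eq_bot_iff]
    intro v hv
    rw [Subgroup.mem_bot]
    exact hcon v hv
  have hzU : Subgroup.zpowers u = Y.map (QuotientGroup.mk' A) := by
    apply Subgroup.eq_of_le_of_card_ge (Subgroup.zpowers_le.mpr huU)
    rw [hU, Nat.card_zpowers]
    have h0 := orderOf_pos u
    have h1 : orderOf u ≠ 1 := fun h => hu1 (orderOf_eq_one_iff.mp h)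
    omega
  have huu : u * u = 1 := by
    have h2 : orderOf u = 2 := by rw [← Nat.card_zpowers, hzU, hU]
    rw [← sq, ← h2, pow_orderOf_eq_one]
  obtain ⟨γ, hγ⟩ : ∃ γ : Λ ⧸ A, γ = QuotientGroup.mk' A g := ⟨_, rfl⟩
  obtain ⟨u', hu'⟩ : ∃ u' : Λ ⧸ A, u' = γ * u * γ⁻¹ := ⟨_, rfl⟩
  have hu'U : Subgroup.zpowers u' = cj γ (Y.map (QuotientGroup.mk' A)) := by
    rw [← hzU]
    show _ = (Subgroup.zpowers u).map (MulAut.conj γ).toMonoidHom
    rw [MonoidHom.map_zpowers, hu']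
    rfl
  have htopQ : Subgroup.zpowers u ⊔ Subgroup.zpowers u' = ⊤ := by
    rw [hzU, hu'U, hγ, ← map_cj', ← Subgroup.map_sup, hg]
    exact Subgroup.map_top_of_surjective _ (QuotientGroup.mk'_surjective A)
  have hu'u' : u' * u' = 1 := by
    have e : γ * u * γ⁻¹ * (γ * u * γ⁻¹) = γ * (u * u) * γ⁻¹ := by group
    rw [hu', e, huu, mul_one, mul_inv_cancel]
  obtain ⟨ρ, hρ⟩ : ∃ ρ : Λ ⧸ A, ρ = u * u' := ⟨_, rfl⟩
  have huinv : u⁻¹ = u := inv_eq_of_mul_eq_one_right huu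
  have hu'inv : u'⁻¹ = u' := inv_eq_of_mul_eq_one_right hu'u'
  have hconj : u * ρ * u⁻¹ = ρ⁻¹ := by
    rw [hρ, mul_inv_rev, huinv, hu'inv, ← mul_assoc, huu, one_mul]
  have hconjz : ∀ j : ℤ, u * ρ ^ j = ρ ^ (-j) * u := by
    intro j
    have h1 : (u * ρ * u⁻¹) ^ j = u * ρ ^ j * u⁻¹ := conj_zpow
    rw [hconj, inv_zpow, ← zpow_neg] at h1
    rw [h1, inv_mul_cancel_right]
  refine ⟨u, ρ, huU, hu1, huu, hzU, hconjz, ?_⟩
  intro x
  have hx : x ∈ Subgroup.closure ({u, u'} : Set (Λ ⧸ A)) := by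
    have hcl : Subgroup.closure ({u, u'} : Set (Λ ⧸ A)) = ⊤ := by
      rw [← htopQ, Subgroup.zpowers_eq_closure, Subgroup.zpowers_eq_closure,
        ← Subgroup.closure_union]
      rfl
    rw [hcl]; exact Subgroup.mem_top _
  induction hx using Subgroup.closure_induction with
  | mem y hy =>
    rcases hy with rfl | rfl
    · exact ⟨0, Or.inr (by simp)⟩
    · refine ⟨-1, Or.inr ?_⟩
      rw [zpow_neg_one, hρ, mul_inv_rev, inv_mul_cancel_right, hu'inv]
  | one => exact ⟨0, Or.inl (by simp)⟩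
  | mul y y' _ _ ihy ihy' =>
    obtain ⟨i, hi | hi⟩ := ihy <;> obtain ⟨j, hj | hj⟩ := ihy'
    · exact ⟨i + j, Or.inl (by rw [hi, hj, zpow_add])⟩
    · exact ⟨i + j, Or.inr (by rw [hi, hj, zpow_add, mul_assoc])⟩
    · exact ⟨i - j, Or.inr (by
        rw [hi, hj, mul_assoc, hconjz, ← mul_assoc, ← zpow_add, sub_eq_add_neg])⟩
    · refine ⟨i - j, Or.inl ?_⟩
      rw [hi, hj, mul_assoc, ← mul_assoc u, hconjz, mul_assoc (ρ ^ (-j)), huu, mul_one,
        ← zpow_add, sub_eq_add_neg]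
  | inv y _ ihy =>
    obtain ⟨i, hi | hi⟩ := ihy
    · exact ⟨-i, Or.inl (by rw [hi, zpow_neg])⟩
    · refine ⟨i, Or.inr ?_⟩
      rw [hi, mul_inv_rev, huinv, ← zpow_neg, hconjz, neg_neg]

/-- when the image of `Y` in `Λ/A` has order `2`, it is its own normalizer -/
theorem fb_two (h : FLData p Y A) (hU : Nat.card (Y.map (QuotientGroup.mk' A)) = 2) :
    (Subgroup.normalizer (Y : Set Λ)).map (QuotientGroup.mk' A) ≤
      Y.map (QuotientGroup.mk' A) := by
  obtain ⟨hp2, u, ρ, huU, hu1, huu, hzU, hconjz, hS⟩ := fl_two_struct h hU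
  have hpow : ∀ k : ℤ, u ^ k = 1 ∨ u ^ k = u := by
    intro k
    obtain ⟨i, rfl | rfl⟩ := Int.even_or_odd' k
    · left
      rw [zpow_mul, zpow_ofNat, sq, huu, one_zpow]
    · right
      rw [zpow_add, zpow_mul, zpow_ofNat, sq, huu, one_zpow, one_mul, zpow_one]
  rintro _ ⟨n, hn, rfl⟩
  obtain ⟨ν, hν⟩ : ∃ ν : Λ ⧸ A, ν = QuotientGroup.mk' A n := ⟨_, rfl⟩
  rw [← hν]
  have hνu : ν * u = u * ν := by
    obtain ⟨y, hy, hyu⟩ := huU
    have h1 : n * y * n⁻¹ ∈ Y := (Subgroup.mem_normalizer_iff.mp hn y).mp hy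
    have h2 : QuotientGroup.mk' A (n * y * n⁻¹) ∈ Y.map (QuotientGroup.mk' A) :=
      Subgroup.mem_map_of_mem _ h1
    rw [map_mul, map_mul, map_inv, hyu, ← hν, ← hzU] at h2
    obtain ⟨k, hk⟩ := Subgroup.mem_zpowers_iff.mp h2
    rcases hpow k with h3 | h3
    · exfalso
      rw [h3] at hk
      apply hu1
      have : u = ν⁻¹ * (ν * u * ν⁻¹) * ν := by group
      rw [this, ← hk]
      group
    · rw [h3] at hk
      have e : ν * u = (ν * u * ν⁻¹) * ν := by group
      rw [e, ← hk]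
  obtain ⟨j, hj⟩ := hS ν
  obtain ⟨z, hz⟩ : ∃ z : Λ ⧸ A, z = ρ ^ j := ⟨_, rfl⟩
  rw [← hz] at hj
  have hzu : z * u = u * z := by
    rcases hj with hj | hj
    · rw [← hj]; exact hνu
    · rw [hj] at hνu
      have h1 : z * u * u = u * (z * u) := hνu
      rw [mul_assoc, huu, mul_one] at h1
      have h2 : z * u = u * (z * u) * u := by rw [← h1]
      rw [h2, mul_assoc, mul_assoc, huu, mul_one]
  have hzinv : z⁻¹ = z := by
    have h1 := hconjz j
    rw [← hz, ← hzu] at h1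
    have h2 : ρ ^ (-j) = z⁻¹ := by rw [zpow_neg, hz]
    rw [h2] at h1
    exact (mul_right_cancel h1).symm
  have hzz : z * z = 1 := by
    nth_rewrite 1 [← hzinv]
    exact inv_mul_cancel z
  have hzρ : ∀ i : ℤ, ρ ^ i * z = z * ρ ^ i := by
    intro i
    rw [hz, ← zpow_add, ← zpow_add, add_comm]
  have hzcen : ∀ x : Λ ⧸ A, x * z = z * x := by
    intro x
    obtain ⟨i, hi | hi⟩ := hS x
    · rw [hi]; exact hzρ i
    · rw [hi, mul_assoc, ← hzu, ← mul_assoc, hzρ i, mul_assoc]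
  have hz1 : z = 1 := by
    have hZn : (Subgroup.zpowers z).Normal := by
      constructor
      intro a ha g
      have : g * a * g⁻¹ = a := by
        obtain ⟨k, rfl⟩ := Subgroup.mem_zpowers_iff.mp ha
        have hc : Commute g z := hzcen g
        have := (hc.zpow_right k).eq
        rw [this, mul_inv_cancel_right]
      rw [this]
      exact ha
    have hZtn : ((Subgroup.zpowers z).comap (QuotientGroup.mk' A)).Normal := hZn.comap _
    have hZtp : IsPGroup p ((Subgroup.zpowers z).comap (QuotientGroup.mk' A)) := by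
      rintro ⟨x, hx⟩
      obtain ⟨k, hk⟩ := Subgroup.mem_zpowers_iff.mp (Subgroup.mem_comap.mp hx)
      have hx2 : x ^ p ^ 1 ∈ A := by
        rw [pow_one, hp2, ← QuotientGroup.eq_one_iff, ← QuotientGroup.mk'_apply, map_pow, ← hk,
          ← zpow_ofNat, ← zpow_mul, mul_comm, zpow_mul, zpow_ofNat, sq, hzz, one_zpow]
      obtain ⟨i, hi⟩ := exists_orderOf_eq_of_pow_mem h.ap hx2
      refine ⟨i, ?_⟩
      apply Subtype.ext
      rw [Subgroup.coe_pow, ← hi, pow_orderOf_eq_one]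
      rfl
    have hle := h.core _ hZtn hZtp
    obtain ⟨x, hx⟩ := QuotientGroup.mk'_surjective A z
    have hxA : x ∈ A := hle (by
      rw [Subgroup.mem_comap, hx]
      exact Subgroup.mem_zpowers z)
    rw [← hx, QuotientGroup.mk'_apply, QuotientGroup.eq_one_iff]
    exact hxA
  rcases hj with hj | hj
  · rw [hj, hz1]
    exact Subgroup.one_mem _
  · rw [hj, hz1, one_mul]
    exact huU

end FrakB1

end Cfsg.Agent.Lib.Helper56
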