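import Cfsg.Agent.Lib.Helper56.FrakB1
import Mathlib

set_option autoImplicit false
open Cfsg
open Cfsg.Agent.Lib.Helper55 (cj mem_cj)
open Cfsg.Agent.Lib.Helper7 (tu tl tu_coe tl_coe tu_inv sl2_det USLSylow exists_smul_USLSylow
  mem_smul_USLSylow_iff card_USL tu_add tu_zero sl2_conj_upper tu_injective)
open Cfsg.Agent.Lib.Helper88 (mem_normalizer_of_conj_le)
open Matrix Matrix.SpecialLinearGroup

namespace Cfsg.Agent.Lib.Helper56

section FrakB2

/-- an additive subgroup of a finite field invariant under multiplication by nonzero squares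
is trivial or everything -/
theorem sq_invariant_eq_top {F : Type*} [Field F] [Fintype F] (W : AddSubgroup F)
    (hW : ∀ l : F, l ≠ 0 → ∀ t ∈ W, l ^ 2 * t ∈ W) {t₀ : F} (ht₀ : t₀ ∈ W) (ht₀0 : t₀ ≠ 0) :
    ∀ t : F, t ∈ W := by
  have hsq : ∀ l : F, ∀ t ∈ W, l ^ 2 * t ∈ W := by
    intro l t ht
    by_cases hl : l = 0
    · subst hl
      simp only [ne_eq, OfNat.ofNat_ne_zero, not_false_eq_true, zero_pow, zero_mul]
      exact W.zero_mem
    · exact hW l hl t ht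
  have hR : ∀ r : F, ∀ t ∈ W, r * t ∈ W := by
    intro r t ht
    by_cases h2 : (2 : F) = 0
    · have hchar : ringChar F = 2 :=
        CharP.ringChar_of_prime_eq_zero Nat.prime_two (by exact_mod_cast h2)
      obtain ⟨y, hy⟩ := FiniteField.isSquare_of_char_two hchar r
      rw [hy, ← sq]
      exact hsq y t ht
    · have : r = ((r + 1) / 2) ^ 2 - ((r - 1) / 2) ^ 2 := by
        field_simp
        ring
      rw [this, sub_mul]
      exact W.sub_mem (hsq _ t ht) (hsq _ t ht)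
  intro t
  have : t = (t / t₀) * t₀ := by field_simp
  rw [this]
  exact hR _ _ ht₀

variable {Λ : Type*} [Group Λ] [Finite Λ] {p : ℕ} [Fact p.Prime] {Y A : Subgroup Λ}
  [hAn : A.Normal]

/-- the image of the normalizer of `Y` normalizes the image of `Y` -/
theorem fb_le_normalizer :
    (Subgroup.normalizer (Y : Set Λ)).map (QuotientGroup.mk' A) ≤
      Subgroup.normalizer ((Y.map (QuotientGroup.mk' A) : Subgroup (Λ ⧸ A)) : Set (Λ ⧸ A)) := by
  rintro _ ⟨n, hn, rfl⟩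
  apply mem_normalizer_of_conj_le
  rintro _ ⟨y, hy, rfl⟩
  rw [← map_inv, ← map_mul, ← map_mul]
  exact Subgroup.mem_map_of_mem _ ((Subgroup.mem_normalizer_iff.mp hn y).mp hy)

theorem fb_sl2 {F : Type} [Field F] [Fintype F] (h : FLData p Y A)
    (hcard : Fintype.card F = Nat.card (Y.map (QuotientGroup.mk' A)))
    (φ : Λ ⧸ A ≃* Matrix.SpecialLinearGroup (Fin 2) F)
    (V : Subgroup (Λ ⧸ A))
    (hVN : V ≤ (Subgroup.normalizer (Y : Set Λ)).map (QuotientGroup.mk' A))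
    (hVnorm : ∀ n ∈ (Subgroup.normalizer (Y : Set Λ)).map (QuotientGroup.mk' A),
      ∀ v ∈ V, n * v * n⁻¹ ∈ V)
    (hVp : IsPGroup p V) (hV1 : V ≠ ⊥) : V = Y.map (QuotientGroup.mk' A) := by
  have hp : p.Prime := Fact.out
  have hUp : IsPGroup p (Y.map (QuotientGroup.mk' A)) := h.yp.map _
  have hUne : Y.map (QuotientGroup.mk' A) ≠ ⊥ := by
    intro hb
    rw [hb] at hcard
    have := Fintype.one_lt_card (α := F)
    simp at hcard
    omega
  have hVnU := hVN.trans (fb_le_normalizer (Y := Y) (A := A))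
  have hnm := fun ν hν => fb_norm_mem (ν := ν) h hUne hν
  obtain ⟨q, hq⟩ := CharP.exists F
  have : Fact q.Prime := ⟨CharP.char_is_prime F q⟩
  obtain ⟨n, hqp, hn⟩ := FiniteField.card F q
  obtain ⟨k, hk⟩ := IsPGroup.iff_card.mp hUp
  have hqdvd : q ∣ p ^ k := by
    rw [← hk, ← hcard, hn]
    exact dvd_pow_self q n.pos.ne'
  have hqp' : q = p := (Nat.prime_dvd_prime_iff_eq hqp hp).mp (hqp.dvd_of_dvd_pow hqdvd)
  subst hqp'
  obtain ⟨U, hUdef⟩ : ∃ U : Subgroup (Λ ⧸ A), U = Y.map (QuotientGroup.mk' A) := ⟨_, rfl⟩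
  rw [← hUdef] at hcard hUp hUne hVnU hnm ⊢
  have hUφp : IsPGroup q (U.map φ.toMonoidHom) := hUp.map _
  obtain ⟨P, hP⟩ := hUφp.exists_le_sylow
  obtain ⟨c₀, rfl⟩ := exists_smul_USLSylow q P
  have hcardP : Nat.card ((c₀ • USLSylow q : Sylow q (SpecialLinearGroup (Fin 2) F)) :
      Subgroup (SpecialLinearGroup (Fin 2) F)) = Fintype.card F := by
    rw [← Nat.card_congr ((USLSylow q).equivSMul c₀).toEquiv]
    exact card_USL
  have hUeq : U.map φ.toMonoidHom = ((c₀ • USLSylow q : Sylow q (SpecialLinearGroup (Fin 2) F)) :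
      Subgroup (SpecialLinearGroup (Fin 2) F)) :=
    Subgroup.eq_of_le_of_card_ge hP
      (by rw [hcardP, Subgroup.card_map_of_injective φ.injective, hcard])
  have hmemU : ∀ x : Λ ⧸ A, x ∈ U ↔ ∃ t : F, φ x = c₀ * tu t * c₀⁻¹ := by
    intro x
    rw [← mem_smul_USLSylow_iff q c₀ (φ x), ← hUeq]
    constructor
    · intro hx
      exact Subgroup.mem_map_of_mem _ hx
    · rintro ⟨y, hy, hyx⟩
      have := φ.injective hyx
      rwa [← this]
  have hVU : V ≤ U := by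
    have hsupp : IsPGroup q (V ⊔ U : Subgroup (Λ ⧸ A)) :=
      IsPGroup.to_sup_of_normal_right' hVp hUp hVnU
    have h1 : (V ⊔ U).map φ.toMonoidHom =
        ((c₀ • USLSylow q : Sylow q (SpecialLinearGroup (Fin 2) F)) :
          Subgroup (SpecialLinearGroup (Fin 2) F)) :=
      (c₀ • USLSylow q).is_maximal' (hsupp.map _)
        (by rw [← hUeq]; exact Subgroup.map_mono le_sup_right)
    intro v hv
    have h2 : φ v ∈ (V ⊔ U).map φ.toMonoidHom :=
      Subgroup.mem_map_of_mem _ (Subgroup.mem_sup_left hv)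
    rw [h1, ← hUeq] at h2
    obtain ⟨y, hy, hyx⟩ := h2
    have := φ.injective hyx
    rwa [← this]
  obtain ⟨v₀, hv₀V, hv₀1⟩ : ∃ v ∈ V, v ≠ 1 := by
    by_contra hcon
    push Not at hcon
    apply hV1
    rw [eq_bot_iff]
    intro v hv
    rw [Subgroup.mem_bot]
    exact hcon v hv
  obtain ⟨t₀, ht₀⟩ := (hmemU v₀).mp (hVU hv₀V)
  have ht₀0 : t₀ ≠ 0 := by
    rintro rfl
    apply hv₀1
    rw [tu_zero, mul_one, mul_inv_cancel] at ht₀
    exact (MulEquiv.map_eq_one_iff φ).mp ht₀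
  -- the additive subgroup of parameters
  let W : AddSubgroup F :=
    { carrier := {t | ∃ v ∈ V, φ v = c₀ * tu t * c₀⁻¹}
      zero_mem' := ⟨1, V.one_mem, by rw [tu_zero, mul_one, mul_inv_cancel, map_one]⟩
      add_mem' := by
        rintro a b ⟨v, hv, hva⟩ ⟨w, hw, hwb⟩
        refine ⟨v * w, V.mul_mem hv hw, ?_⟩
        rw [map_mul, hva, hwb, tu_add]
        group
      neg_mem' := by
        rintro a ⟨v, hv, hva⟩
        refine ⟨v⁻¹, V.inv_mem hv, ?_⟩
        rw [map_inv, hva, ← tu_inv]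
        group }
  have hWmem : ∀ t : F, t ∈ W ↔ ∃ v ∈ V, φ v = c₀ * tu t * c₀⁻¹ := fun t => Iff.rfl
  have hWinv : ∀ l : F, l ≠ 0 → ∀ t ∈ W, l ^ 2 * t ∈ W := by
    intro l hl t ht
    obtain ⟨v, hv, hvt⟩ := (hWmem t).mp ht
    obtain ⟨d, hd10, hd00⟩ : ∃ d : SpecialLinearGroup (Fin 2) F, d 1 0 = 0 ∧ d 0 0 = l := by
      refine ⟨⟨!![l, 0; 0, l⁻¹], ?_⟩, ?_, ?_⟩
      · rw [Matrix.det_fin_two]
        simp [hl]
      · rfl
      · rfl
    have hconj : ∀ s : F, (c₀ * d * c₀⁻¹) * (c₀ * tu s * c₀⁻¹) * (c₀ * d * c₀⁻¹)⁻¹ =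
        c₀ * tu (s * l ^ 2) * c₀⁻¹ := by
      intro s
      rw [← hd00, ← sl2_conj_upper d hd10 s]
      group
    obtain ⟨ν, hν⟩ : ∃ ν : Λ ⧸ A, ν = φ.symm (c₀ * d * c₀⁻¹) := ⟨_, rfl⟩
    have hφν : φ ν = c₀ * d * c₀⁻¹ := by rw [hν, MulEquiv.apply_symm_apply]
    have hνN : ν ∈ (Subgroup.normalizer (Y : Set Λ)).map (QuotientGroup.mk' A) := by
      apply hnm
      intro u hu
      obtain ⟨s, hs⟩ := (hmemU u).mp hu
      rw [hmemU]
      refine ⟨s * l ^ 2, ?_⟩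
      rw [map_mul, map_mul, map_inv, hφν, hs, hconj]
    refine (hWmem _).mpr ⟨ν * v * ν⁻¹, hVnorm ν hνN v hv, ?_⟩
    rw [map_mul, map_mul, map_inv, hφν, hvt, hconj, mul_comm]
  have hWtop := sq_invariant_eq_top W hWinv ((hWmem t₀).mpr ⟨v₀, hv₀V, ht₀⟩) ht₀0
  apply le_antisymm hVU
  intro u hu
  obtain ⟨t, ht⟩ := (hmemU u).mp hu
  obtain ⟨v, hv, hvt⟩ := (hWmem t).mp (hWtop t)
  have : u = v := φ.injective (by rw [ht, hvt])
  rw [this]
  exact hv

end FrakB2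

end Cfsg.Agent.Lib.Helper56
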