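import Cfsg.Agent.Lib.Helper56.FrakB2
import Cfsg.Agent.Lib.Helper8.Sz31
import Mathlib

set_option autoImplicit false
open Cfsg
open Cfsg.Agent.Lib.Helper55 (cj mem_cj)
open Cfsg.Agent.Lib.Helper88 (mem_normalizer_of_conj_le)

namespace Cfsg.Agent.Lib.Helper56

section FrakB3

variable {Λ : Type*} [Group Λ] [Finite Λ] {Y A : Subgroup Λ} [hAn : A.Normal]

open Cfsg.Agent.Lib.Helper8.Sz in
theorem fb_sz [Fact (Nat.Prime 2)] {F : Type} [Field F] [Fintype F] {m : ℕ} (hm : 1 ≤ m)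
    (hF : Fintype.card F = 2 ^ (2 * m + 1)) (h : FLData 2 Y A) (hYexp : ∀ y ∈ Y, y ^ 2 = 1)
    (hcard : Fintype.card F = Nat.card (Y.map (QuotientGroup.mk' A)))
    (ψ : Λ ⧸ A ≃* ↥(Cfsg.Sz F m))
    (V : Subgroup (Λ ⧸ A))
    (hVN : V ≤ (Subgroup.normalizer (Y : Set Λ)).map (QuotientGroup.mk' A))
    (hVnorm : ∀ n ∈ (Subgroup.normalizer (Y : Set Λ)).map (QuotientGroup.mk' A),
      ∀ v ∈ V, n * v * n⁻¹ ∈ V)
    (hVexp : ∀ v ∈ V, v * v = 1) (hV1 : V ≠ ⊥) : V = Y.map (QuotientGroup.mk' A) := by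
  classical
  have hUp : IsPGroup 2 (Y.map (QuotientGroup.mk' A)) := h.yp.map _
  have hUne : Y.map (QuotientGroup.mk' A) ≠ ⊥ := by
    intro hb
    rw [hb] at hcard
    have := Fintype.one_lt_card (α := F)
    simp at hcard
    omega
  have hUexp : ∀ u ∈ Y.map (QuotientGroup.mk' A), u * u = 1 := by
    rintro _ ⟨y, hy, rfl⟩
    rw [← map_mul, ← sq, hYexp y hy, map_one]
  have hVnU := hVN.trans (fb_le_normalizer (Y := Y) (A := A))
  have hnm := fun ν hν => fb_norm_mem (ν := ν) h hUne hν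
  obtain ⟨U, hUdef⟩ : ∃ U : Subgroup (Λ ⧸ A), U = Y.map (QuotientGroup.mk' A) := ⟨_, rfl⟩
  rw [← hUdef] at hcard hUp hUne hVnU hnm hUexp ⊢
  have hVp : IsPGroup 2 V := by
    rintro ⟨v, hv⟩
    refine ⟨1, ?_⟩
    apply Subtype.ext
    simp only [pow_one, Subgroup.coe_pow, Subgroup.coe_one]
    rw [pow_two]
    exact hVexp v hv
  have hsupp : IsPGroup 2 (V ⊔ U : Subgroup (Λ ⧸ A)) :=
    IsPGroup.to_sup_of_normal_right' hVp hUp hVnU
  obtain ⟨P, hP⟩ := (hsupp.map ψ.toMonoidHom).exists_le_sylow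
  obtain ⟨x, hx⟩ := Cfsg.Agent.Lib.Helper45.SzU.exists_conj_mem_U hm hF P
  -- involutions of `P`
  have hinvP : ∀ g : ↥(Cfsg.Sz F m), g ∈ (P : Subgroup ↥(Cfsg.Sz F m)) → g * g = 1 →
      ∃ b : F, x⁻¹ * g * x = TS hF 0 b := by
    intro v hv hvv
    by_cases hv1 : v = 1
    · subst hv1
      exact ⟨0, by rw [TS_zero]; group⟩
    · have h1 : x⁻¹ * v * x ∈ Cfsg.Agent.Lib.Helper45.SzU.U hF := (hx v).mp hv
      obtain ⟨a, b, hab⟩ := h1
      have h2 : x⁻¹ * v * x = TS hF a b := Subtype.ext hab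
      have h3 : x⁻¹ * v * x ∈ Bsub F m := by
        rw [h2]
        exact TS_mem_Bsub hF a b
      have h4 : x⁻¹ * v * x ≠ 1 := by
        intro h
        apply hv1
        have : v = x * (x⁻¹ * v * x) * x⁻¹ := by group
        rw [this, h]
        group
      have h5 : (x⁻¹ * v * x) * (x⁻¹ * v * x) = 1 := by
        have : (x⁻¹ * v * x) * (x⁻¹ * v * x) = x⁻¹ * (v * v) * x := by group
        rw [this, hvv]
        group
      obtain ⟨b', -, hb'⟩ := involution_Bsub hF hm h3 h4 h5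
      exact ⟨b', hb'⟩
  have hinv : ∀ y : Λ ⧸ A, y ∈ V ⊔ U → y * y = 1 → ∃ b : F, x⁻¹ * ψ y * x = TS hF 0 b := by
    intro y hy hyy
    apply hinvP _ (hP (Subgroup.mem_map_of_mem _ hy))
    rw [← map_mul, hyy, map_one]
  have hUT : ∀ u : U, ∃ b : F, x⁻¹ * ψ (u : Λ ⧸ A) * x = TS hF 0 b :=
    fun u => hinv _ (Subgroup.mem_sup_right u.2) (hUexp _ u.2)
  choose f hf using hUT
  have hfinj : Function.Injective f := by
    intro v v' hvv
    have h1 := hf v
    rw [hvv, ← hf v'] at h1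
    apply Subtype.ext
    apply ψ.injective
    have : ψ (v : Λ ⧸ A) = x * (x⁻¹ * ψ (v : Λ ⧸ A) * x) * x⁻¹ := by group
    rw [this, h1]
    group
  have hfbij : Function.Bijective f := by
    apply Function.Injective.bijective_of_nat_card_le hfinj
    rw [← hcard, Nat.card_eq_fintype_card]
  have hmemU : ∀ y : Λ ⧸ A, y ∈ U ↔ ∃ b : F, x⁻¹ * ψ y * x = TS hF 0 b := by
    intro y
    constructor
    · intro hy
      exact ⟨f ⟨y, hy⟩, hf ⟨y, hy⟩⟩
    · rintro ⟨b, hb⟩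
      obtain ⟨u, rfl⟩ := hfbij.2 b
      rw [← hf u] at hb
      have h1 : ψ y = ψ (u : Λ ⧸ A) := by
        have e1 : ψ y = x * (x⁻¹ * ψ y * x) * x⁻¹ := by group
        rw [e1, hb]
        group
      rw [ψ.injective h1]
      exact u.2
  have hVU : V ≤ U := by
    intro v hv
    rw [hmemU]
    exact hinv v (Subgroup.mem_sup_left hv) (hVexp v hv)
  obtain ⟨v₀, hv₀V, hv₀1⟩ : ∃ v ∈ V, v ≠ 1 := by
    by_contra hcon
    push Not at hcon
    apply hV1
    rw [eq_bot_iff]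
    intro v hv
    rw [Subgroup.mem_bot]
    exact hcon v hv
  obtain ⟨b₀, hb₀⟩ := (hmemU v₀).mp (hVU hv₀V)
  have hb₀0 : b₀ ≠ 0 := by
    rintro rfl
    apply hv₀1
    rw [TS_zero] at hb₀
    have e1 : ψ v₀ = x * (x⁻¹ * ψ v₀ * x) * x⁻¹ := by group
    rw [hb₀] at e1
    have e2 : ψ v₀ = 1 := by
      rw [e1]
      group
    exact (MulEquiv.map_eq_one_iff ψ).mp e2
  apply le_antisymm hVU
  intro u hu
  obtain ⟨b, hb⟩ := (hmemU u).mp hu
  by_cases hb0 : b = 0
  · subst hb0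
    rw [TS_zero] at hb
    have e1 : ψ u = x * (x⁻¹ * ψ u * x) * x⁻¹ := by group
    rw [hb] at e1
    have e2 : ψ u = 1 := by
      rw [e1]
      group
    rw [(MulEquiv.map_eq_one_iff ψ).mp e2]
    exact V.one_mem
  · obtain ⟨s, hs⟩ := exists_chi_eq hF (d := b / b₀) (div_ne_zero hb0 hb₀0)
    obtain ⟨ν, hν⟩ : ∃ ν : Λ ⧸ A, ν = ψ.symm (x * HS hF s * x⁻¹) := ⟨_, rfl⟩
    have hψν : ψ ν = x * HS hF s * x⁻¹ := by rw [hν, MulEquiv.apply_symm_apply]
    have hconj : ∀ (w : Λ ⧸ A) (c : F), x⁻¹ * ψ w * x = TS hF 0 c →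
        x⁻¹ * ψ (ν * w * ν⁻¹) * x = TS hF 0 (th m (s : F) * (s : F) ^ 2 * c) := by
      intro w c hw
      have e1 : x⁻¹ * ψ (ν * w * ν⁻¹) * x = HS hF s * (x⁻¹ * ψ w * x) * (HS hF s)⁻¹ := by
        rw [map_mul, map_mul, map_inv, hψν]
        group
      rw [e1, hw, HS_conj_TS, mul_zero]
    have hνN : ν ∈ (Subgroup.normalizer (Y : Set Λ)).map (QuotientGroup.mk' A) := by
      apply hnm
      intro w hw
      obtain ⟨c, hc⟩ := (hmemU w).mp hw
      rw [hmemU]
      exact ⟨_, hconj w c hc⟩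
    have h1 := hconj v₀ b₀ hb₀
    have h2 : th m (s : F) * (s : F) ^ 2 * b₀ = b := by
      rw [hs]
      field_simp
    rw [h2, ← hb] at h1
    have h3 : ψ (ν * v₀ * ν⁻¹) = ψ u := by
      have e1 : ψ (ν * v₀ * ν⁻¹) = x * (x⁻¹ * ψ (ν * v₀ * ν⁻¹) * x) * x⁻¹ := by group
      rw [e1, h1]
      group
    rw [← ψ.injective h3]
    exact hVnorm ν hνN v₀ hv₀V

variable {p : ℕ} [Fact p.Prime]

/-- the image of `Y` in `Λ/A` is the unique nontrivial elementary abelian normal `p`-subgroup of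
the image of its normalizer -/
theorem fb_core (h : FLData p Y A) (hYexp : ∀ y ∈ Y, y ^ p = 1)
    (hcase : (∃ (F : Type) (_ : Field F) (_ : Fintype F),
        Fintype.card F = Nat.card (Y.map (QuotientGroup.mk' A)) ∧
          Nonempty (Λ ⧸ A ≃* Matrix.SpecialLinearGroup (Fin 2) F)) ∨
      (p = 2 ∧ ∃ (F : Type) (_ : Field F) (_ : Fintype F) (m : ℕ),
        Fintype.card F = 2 ^ (2 * m + 1) ∧
          Fintype.card F = Nat.card (Y.map (QuotientGroup.mk' A)) ∧
            Nonempty (Λ ⧸ A ≃* ↥(Lie.Sz F (2 ^ (m + 1))))) ∨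
      (p = 2 ∧ ∃ r : ℕ, r.Prime ∧ r ≠ 2 ∧ Nonempty (Λ ⧸ A ≃* DihedralGroup r))) :
    Y.map (QuotientGroup.mk' A) ≠ ⊥ ∧
    ∀ V : Subgroup (Λ ⧸ A),
      V ≤ (Subgroup.normalizer (Y : Set Λ)).map (QuotientGroup.mk' A) →
      (∀ n ∈ (Subgroup.normalizer (Y : Set Λ)).map (QuotientGroup.mk' A),
        ∀ v ∈ V, n * v * n⁻¹ ∈ V) →
      (∀ v ∈ V, v ^ p = 1) → V ≠ ⊥ → V = Y.map (QuotientGroup.mk' A) := by
  have hp : p.Prime := Fact.out
  have hUp : IsPGroup p (Y.map (QuotientGroup.mk' A)) := h.yp.map _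
  -- the case where the image of `Y` has order two
  have htwo : Nat.card (Y.map (QuotientGroup.mk' A)) = 2 →
      Y.map (QuotientGroup.mk' A) ≠ ⊥ ∧
      ∀ V : Subgroup (Λ ⧸ A),
        V ≤ (Subgroup.normalizer (Y : Set Λ)).map (QuotientGroup.mk' A) →
        (∀ n ∈ (Subgroup.normalizer (Y : Set Λ)).map (QuotientGroup.mk' A),
          ∀ v ∈ V, n * v * n⁻¹ ∈ V) →
        (∀ v ∈ V, v ^ p = 1) → V ≠ ⊥ → V = Y.map (QuotientGroup.mk' A) := by
    intro hU
    constructor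
    · intro hb
      rw [hb] at hU
      simp at hU
    · intro V hVN _ _ hV1
      have hVU : V ≤ Y.map (QuotientGroup.mk' A) := hVN.trans (fb_two h hU)
      apply Subgroup.eq_of_le_of_card_ge hVU
      rw [hU]
      have h1 : Nat.card V ≠ 1 := fun h1 => hV1 (Subgroup.card_eq_one.mp h1)
      have h2 : 0 < Nat.card V := Nat.card_pos
      omega
  rcases hcase with ⟨F, _, _, hcard, ⟨φ⟩⟩ | ⟨rfl, F, _, _, m, hF, hcard, ⟨φ⟩⟩ | ⟨rfl, r, hr, hr2, ⟨φ⟩⟩
  · constructor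
    · intro hb
      rw [hb] at hcard
      have := Fintype.one_lt_card (α := F)
      simp at hcard
      omega
    · intro V hVN hVnorm hVexp hV1
      have hVp : IsPGroup p V := by
        rintro ⟨v, hv⟩
        refine ⟨1, ?_⟩
        apply Subtype.ext
        simp only [pow_one, Subgroup.coe_pow, Subgroup.coe_one]
        exact hVexp v hv
      exact fb_sl2 h hcard φ V hVN hVnorm hVp hV1
  · rcases Nat.eq_zero_or_pos m with rfl | hm
    · apply htwo
      rw [← hcard, hF]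
      norm_num
    · constructor
      · intro hb
        rw [hb] at hcard
        have := Fintype.one_lt_card (α := F)
        simp at hcard
        omega
      · intro V hVN hVnorm hVexp hV1
        exact fb_sz hm hF h hYexp hcard
          (φ.trans (Cfsg.Agent.Lib.Helper27.SzBridge.szEquiv hF hm).symm) V hVN hVnorm
          (fun v hv => by rw [← sq]; exact hVexp v hv) hV1
  · apply htwo
    obtain ⟨k, hk⟩ := IsPGroup.iff_card.mp hUp
    have hcardQ : Nat.card (Λ ⧸ A) = 2 * r := by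
      rw [Nat.card_congr φ.toEquiv, DihedralGroup.nat_card]
    have hdvd : 2 ^ k ∣ 2 * r := by
      rw [← hk, ← hcardQ]
      exact Subgroup.card_subgroup_dvd_card _
    have hk1 : k ≤ 1 := by
      by_contra hcon
      push Not at hcon
      have h4 : 2 ^ 2 ∣ 2 * r := (pow_dvd_pow 2 hcon).trans hdvd
      have h2r : 2 ∣ r := by
        have : 2 * 2 ∣ 2 * r := by simpa using h4
        exact (Nat.mul_dvd_mul_iff_left (by norm_num)).mp this
      exact hr2 ((Nat.prime_dvd_prime_iff_eq Nat.prime_two hr).mp h2r).symm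
    rcases Nat.le_one_iff_eq_zero_or_eq_one.mp hk1 with rfl | rfl
    · exfalso
      rw [pow_zero] at hk
      have hbot : Y.map (QuotientGroup.mk' A) = ⊥ := Subgroup.card_eq_one.mp hk
      have hYA : Y ≤ A := by
        intro y hy
        have : QuotientGroup.mk' A y ∈ (⊥ : Subgroup (Λ ⧸ A)) := by
          rw [← hbot]
          exact Subgroup.mem_map_of_mem _ hy
        rw [Subgroup.mem_bot, QuotientGroup.mk'_apply, QuotientGroup.eq_one_iff] at this
        exact this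
      have hAtop : A = ⊤ := by
        rw [eq_top_iff, ← h.gen]
        exact Subgroup.normalClosure_le_normal hYA
      have hc1 : Nat.card (Λ ⧸ A) = 1 := by
        rw [← Subgroup.index_eq_card, hAtop, Subgroup.index_top]
      rw [hcardQ] at hc1
      have := hr.two_le
      omega
    · rw [hk, pow_one]

end FrakB3

end Cfsg.Agent.Lib.Helper56
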