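import Cfsg.Agent.Lib.Helper56.FrakB3
import Mathlib

set_option autoImplicit false
open Cfsg
open Cfsg.Agent.Lib.Helper55 (elemAb_iff)

namespace Cfsg.Agent.Lib.Helper56

section FrakB4

variable {Λ : Type*} [Group Λ] [Finite Λ] {p : ℕ} [Fact p.Prime] {Y A : Subgroup Λ}
  [hAn : A.Normal]

theorem fb_transport {Γ : Type*} [Group Γ] (h : FLData p Y A) (hYexp : ∀ y ∈ Y, y ^ p = 1)
    (hcase : (∃ (F : Type) (_ : Field F) (_ : Fintype F),
        Fintype.card F = Nat.card (Y.map (QuotientGroup.mk' A)) ∧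
          Nonempty (Λ ⧸ A ≃* Matrix.SpecialLinearGroup (Fin 2) F)) ∨
      (p = 2 ∧ ∃ (F : Type) (_ : Field F) (_ : Fintype F) (m : ℕ),
        Fintype.card F = 2 ^ (2 * m + 1) ∧
          Fintype.card F = Nat.card (Y.map (QuotientGroup.mk' A)) ∧
            Nonempty (Λ ⧸ A ≃* ↥(Lie.Sz F (2 ^ (m + 1))))) ∨
      (p = 2 ∧ ∃ r : ℕ, r.Prime ∧ r ≠ 2 ∧ Nonempty (Λ ⧸ A ≃* DihedralGroup r)))
    (j : Γ →* Λ) (hj : Function.Injective j)
    (hrange : j.range = Subgroup.normalizer (Y : Set Λ))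
    (K : Subgroup Γ) [hK : K.Normal] (hKeq : K = A.comap j)
    (Y' : Subgroup Γ) (hY' : Y' = Y.comap j) :
    Y'.map (QuotientGroup.mk' K) ≠ ⊥ ∧ (Y'.map (QuotientGroup.mk' K)).Normal ∧
      Cfsg.IsElementaryAbelian p (Y'.map (QuotientGroup.mk' K)) ∧
      ∀ V : Subgroup (Γ ⧸ K), V.Normal → Cfsg.IsElementaryAbelian p V → V ≠ ⊥ →
        V = Y'.map (QuotientGroup.mk' K) := by
  subst hKeq hY'
  obtain ⟨ι, hι⟩ : ∃ ι : Γ ⧸ A.comap j →* Λ ⧸ A, ι = QuotientGroup.map (A.comap j) A j le_rfl :=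
    ⟨_, rfl⟩
  have hιmk : ∀ g : Γ, ι (QuotientGroup.mk' (A.comap j) g) = QuotientGroup.mk' A (j g) := by
    intro g
    rw [hι]
    rfl
  have hιinj : Function.Injective ι := by
    rw [injective_iff_map_eq_one]
    intro x hx
    obtain ⟨g, rfl⟩ := QuotientGroup.mk'_surjective _ x
    rw [hιmk, QuotientGroup.mk'_apply, QuotientGroup.eq_one_iff] at hx
    rw [QuotientGroup.mk'_apply, QuotientGroup.eq_one_iff]
    exact hx
  have hmemN : ∀ g : Γ, j g ∈ Subgroup.normalizer (Y : Set Λ) := by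
    intro g
    rw [← hrange]
    exact MonoidHom.mem_range.mpr ⟨g, rfl⟩
  have hYmap : (Y.comap j).map j = Y := by
    rw [Subgroup.map_comap_eq, hrange, inf_eq_right]
    exact Subgroup.le_normalizer
  have hUeq : ((Y.comap j).map (QuotientGroup.mk' (A.comap j))).map ι =
      Y.map (QuotientGroup.mk' A) := by
    rw [Subgroup.map_map]
    have : ι.comp (QuotientGroup.mk' (A.comap j)) = (QuotientGroup.mk' A).comp j := by
      ext g
      exact hιmk g
    rw [this, ← Subgroup.map_map, hYmap]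
  have hrangeι : ∀ x : Γ ⧸ A.comap j,
      ι x ∈ (Subgroup.normalizer (Y : Set Λ)).map (QuotientGroup.mk' A) := by
    intro x
    obtain ⟨g, rfl⟩ := QuotientGroup.mk'_surjective _ x
    rw [hιmk]
    exact Subgroup.mem_map_of_mem _ (hmemN g)
  have hsurjι : ∀ n ∈ (Subgroup.normalizer (Y : Set Λ)).map (QuotientGroup.mk' A),
      ∃ x, ι x = n := by
    rintro _ ⟨n, hn, rfl⟩
    rw [← hrange] at hn
    obtain ⟨g, rfl⟩ := hn
    exact ⟨QuotientGroup.mk' _ g, hιmk g⟩
  obtain ⟨hUne, hmain⟩ := fb_core h hYexp hcase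
  refine ⟨?_, ?_, ?_, ?_⟩
  · intro hb
    apply hUne
    rw [← hUeq, hb, Subgroup.map_bot]
  · have hY'n : (Y.comap j).Normal := by
      constructor
      intro y hy g
      rw [Subgroup.mem_comap] at hy ⊢
      rw [map_mul, map_mul, map_inv]
      exact (Subgroup.mem_normalizer_iff.mp (hmemN g) _).mp hy
    exact hY'n.map _ (QuotientGroup.mk'_surjective _)
  · rw [elemAb_iff]
    constructor
    · rintro _ ⟨a, ha, rfl⟩ _ ⟨b, hb, rfl⟩
      rw [← map_mul, ← map_mul]
      congr 1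
      apply hj
      rw [map_mul, map_mul]
      exact h.yab _ ha _ hb
    · rintro _ ⟨a, ha, rfl⟩
      rw [← map_pow]
      have : a ^ p = 1 := by
        apply hj
        rw [map_pow, map_one]
        exact hYexp _ ha
      rw [this, map_one]
  · intro V hVn hVe hV1
    rw [elemAb_iff] at hVe
    have h1 : V.map ι = Y.map (QuotientGroup.mk' A) := by
      apply hmain
      · rintro _ ⟨v, hv, rfl⟩
        exact hrangeι v
      · rintro n hn _ ⟨v, hv, rfl⟩
        obtain ⟨x, rfl⟩ := hsurjι n hn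
        rw [← map_inv, ← map_mul, ← map_mul]
        exact Subgroup.mem_map_of_mem _ (hVn.conj_mem v hv x)
      · rintro _ ⟨v, hv, rfl⟩
        rw [← map_pow, hVe.2 v hv, map_one]
      · intro hb
        apply hV1
        rw [eq_bot_iff]
        intro v hv
        have : ι v ∈ V.map ι := Subgroup.mem_map_of_mem _ hv
        rw [hb, Subgroup.mem_bot] at this
        rw [Subgroup.mem_bot]
        exact (injective_iff_map_eq_one ι).mp hιinj v this
    rw [← hUeq] at h1
    exact Subgroup.map_injective hιinj h1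

theorem fb_glue {G : Type*} [Group G] [Finite G] {p : ℕ} [Fact p.Prime] (M L : Subgroup G)
    (hL : Cfsg.IsInFrakL p M L) (NL : Subgroup G)
    (hNL : NL = L ⊓ Subgroup.normalizer ((Cfsg.largestPReducedOf p M : Subgroup G) : Set G))
    [hn : ((Cfsg.pCoreOf p L).subgroupOf NL).Normal] :
    ((Cfsg.largestPReducedOf p M).subgroupOf NL).map
        (QuotientGroup.mk' ((Cfsg.pCoreOf p L).subgroupOf NL)) ≠ ⊥ ∧
      (((Cfsg.largestPReducedOf p M).subgroupOf NL).map
        (QuotientGroup.mk' ((Cfsg.pCoreOf p L).subgroupOf NL))).Normal ∧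
      Cfsg.IsElementaryAbelian p (((Cfsg.largestPReducedOf p M).subgroupOf NL).map
        (QuotientGroup.mk' ((Cfsg.pCoreOf p L).subgroupOf NL))) ∧
      ∀ V : Subgroup (↥NL ⧸ (Cfsg.pCoreOf p L).subgroupOf NL), V.Normal →
        Cfsg.IsElementaryAbelian p V → V ≠ ⊥ →
        V = ((Cfsg.largestPReducedOf p M).subgroupOf NL).map
          (QuotientGroup.mk' ((Cfsg.pCoreOf p L).subgroupOf NL)) := by
  obtain ⟨hdata, hexp, hcase⟩ := fl_data_of_frakL M L hL
  have hYL : Cfsg.largestPReducedOf p M ≤ L := hL.1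
  have hNLL : NL ≤ L := hNL ▸ inf_le_left
  haveI : (Cfsg.pCore p ↥L).Normal := Cfsg.Agent.Lib.Helper55.pCore_normal
  refine fb_transport hdata hexp hcase (Subgroup.inclusion hNLL)
    (Subgroup.inclusion_injective hNLL) ?_ ((Cfsg.pCoreOf p L).subgroupOf NL) ?_
    ((Cfsg.largestPReducedOf p M).subgroupOf NL) ?_
  · ext x
    constructor
    · rintro ⟨y, rfl⟩
      have hy : (y : G) ∈ Subgroup.normalizer
          ((Cfsg.largestPReducedOf p M : Subgroup G) : Set G) :=
        (Subgroup.mem_inf.mp (hNL.le y.2)).2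
      rw [Subgroup.mem_normalizer_iff] at hy ⊢
      intro l
      exact hy l
    · intro hx
      have hxN : (x : G) ∈ NL := by
        apply hNL.ge
        refine Subgroup.mem_inf.mpr ⟨x.2, ?_⟩
        rw [Subgroup.mem_normalizer_iff] at hx ⊢
        intro g
        constructor
        · intro hg
          exact (hx ⟨g, hYL hg⟩).mp hg
        · intro hg
          have hgL : g ∈ L := by
            have h1 : (x : G) * g * (x : G)⁻¹ ∈ L := hYL hg
            have h2 : g = (x : G)⁻¹ * ((x : G) * g * (x : G)⁻¹) * (x : G) := by group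
            rw [h2]
            exact L.mul_mem (L.mul_mem (L.inv_mem x.2) h1) x.2
          exact (hx ⟨g, hgL⟩).mpr hg
      exact ⟨⟨(x : G), hxN⟩, Subtype.ext rfl⟩
  · ext y
    rw [Subgroup.mem_subgroupOf, Subgroup.mem_comap]
    constructor
    · rintro ⟨a, ha, hay⟩
      have : a = Subgroup.inclusion hNLL y := Subtype.ext hay
      rw [← this]
      exact ha
    · intro hy
      exact ⟨_, hy, rfl⟩
  · ext y
    rfl

end FrakB4

end Cfsg.Agent.Lib.Helper56
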