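import Cfsg.Agent.Lib.Helper55.Syl
import Cfsg.Agent.Lib.Helper88.GrpSyl
import Mathlib

set_option autoImplicit false
open Cfsg
open Cfsg.Agent.Lib.Helper55 (cj mem_cj cj_eq_self_of_mem_normalizer mem_normalizer_of_cj_eq cj_mul)
open Cfsg.Agent.Lib.Helper88 (mem_normalizer_of_conj_le)

namespace Cfsg.Agent.Lib.Helper56

section FrakL

variable {Λ : Type*} [Group Λ]

/-- abstract data of a member `L` of the family attached to `Y`, seen inside `Λ = L`: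
`A` plays the role of `O_p(L)` -/
structure FLData (p : ℕ) (Y A : Subgroup Λ) : Prop where
  yab : ∀ a ∈ Y, ∀ b ∈ Y, a * b = b * a
  yp : IsPGroup p Y
  ap : IsPGroup p A
  an : A.Normal
  acl : A ≤ Subgroup.normalClosure ((Y ⊓ A : Subgroup Λ) : Set Λ)
  aN : A ≤ Subgroup.normalizer (Y : Set Λ)
  gen : Subgroup.normalClosure (Y : Set Λ) = ⊤
  mx : ∀ X : Subgroup Λ, Y ≤ X → X ≠ ⊤ → X ≤ Subgroup.normalizer (Y : Set Λ)
  core : ∀ N : Subgroup Λ, N.Normal → IsPGroup p N → N ≤ A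

/-- the central part of `Y` -/
def flC (Y : Subgroup Λ) : Subgroup Λ := Y ⊓ Subgroup.center Λ

theorem flC_comm {Y : Subgroup Λ} {c : Λ} (hc : c ∈ flC Y) (g : Λ) : g * c = c * g :=
  Subgroup.mem_center_iff.mp (Subgroup.mem_inf.mp hc).2 g

theorem flC_conj {Y : Subgroup Λ} {c : Λ} (hc : c ∈ flC Y) (g : Λ) : g * c * g⁻¹ = c := by
  rw [flC_comm hc g, mul_inv_cancel_right]

theorem flC_cj (Y : Subgroup Λ) (g : Λ) : flC (cj g Y) = flC Y := by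
  ext z
  constructor
  · intro hz
    have hzc := (Subgroup.mem_inf.mp hz).2
    refine Subgroup.mem_inf.mpr ⟨?_, hzc⟩
    have h1 := mem_cj.mp (Subgroup.mem_inf.mp hz).1
    have h2 : g⁻¹ * z * g = z := by
      rw [mul_assoc, ← Subgroup.mem_center_iff.mp hzc g, inv_mul_cancel_left]
    rwa [h2] at h1
  · intro hz
    have hzc := (Subgroup.mem_inf.mp hz).2
    refine Subgroup.mem_inf.mpr ⟨?_, hzc⟩
    rw [mem_cj]
    have h2 : g⁻¹ * z * g = z := by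
      rw [mul_assoc, ← Subgroup.mem_center_iff.mp hzc g, inv_mul_cancel_left]
    rw [h2]; exact (Subgroup.mem_inf.mp hz).1

theorem FLData.conj {p : ℕ} {Y A : Subgroup Λ} (h : FLData p Y A) (g : Λ) :
    FLData p (cj g Y) A := by
  have hAn := h.an
  refine ⟨?_, h.yp.map _, h.ap, h.an, ?_, ?_, ?_, ?_, h.core⟩
  · intro a ha b hb
    rw [mem_cj] at ha hb
    have hc := h.yab _ ha _ hb
    have e1 : a * b = g * ((g⁻¹ * a * g) * (g⁻¹ * b * g)) * g⁻¹ := by group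
    have e2 : b * a = g * ((g⁻¹ * b * g) * (g⁻¹ * a * g)) * g⁻¹ := by group
    rw [e1, e2, hc]
  · have hN : (Subgroup.normalClosure ((cj g Y ⊓ A : Subgroup Λ) : Set Λ)).Normal :=
      Subgroup.normalClosure_normal
    refine h.acl.trans (Subgroup.normalClosure_le_normal ?_)
    intro z hz
    have hz' : g * z * g⁻¹ ∈ cj g Y ⊓ A := by
      refine Subgroup.mem_inf.mpr ⟨?_, hAn.conj_mem z (Subgroup.mem_inf.mp hz).2 g⟩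
      rw [mem_cj]
      have e : g⁻¹ * (g * z * g⁻¹) * g = z := by group
      rw [e]; exact (Subgroup.mem_inf.mp hz).1
    have h1 := hN.conj_mem _ (Subgroup.subset_normalClosure hz') g⁻¹
    have e : g⁻¹ * (g * z * g⁻¹) * g⁻¹⁻¹ = z := by group
    rwa [e] at h1
  · intro a ha
    apply mem_normalizer_of_cj_eq
    have h1 : g⁻¹ * a * g ∈ A := by
      have := hAn.conj_mem a ha g⁻¹
      rwa [inv_inv] at this
    have h2 := cj_eq_self_of_mem_normalizer (h.aN h1)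
    have e : a * g = g * (g⁻¹ * a * g) := by group
    rw [← cj_mul, e, cj_mul, h2]
  · have hN : (Subgroup.normalClosure ((cj g Y : Subgroup Λ) : Set Λ)).Normal :=
      Subgroup.normalClosure_normal
    rw [eq_top_iff, ← h.gen]
    refine Subgroup.normalClosure_le_normal ?_
    intro z hz
    have hz' : g * z * g⁻¹ ∈ cj g Y := by
      rw [mem_cj]
      have e : g⁻¹ * (g * z * g⁻¹) * g = z := by group
      rw [e]; exact hz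
    have h1 := hN.conj_mem _ (Subgroup.subset_normalClosure hz') g⁻¹
    have e : g⁻¹ * (g * z * g⁻¹) * g⁻¹⁻¹ = z := by group
    rwa [e] at h1
  · intro X hYX hX
    have h1 : Y ≤ cj g⁻¹ X := by
      intro y hy
      rw [mem_cj, inv_inv]
      apply hYX
      rw [mem_cj]
      have e : g⁻¹ * (g * y * g⁻¹) * g = y := by group
      rw [e]; exact hy
    have h2 : cj g⁻¹ X ≠ ⊤ := by
      intro htop
      apply hX
      rw [eq_top_iff]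
      intro x _
      have : g⁻¹ * x * g ∈ cj g⁻¹ X := by rw [htop]; exact Subgroup.mem_top _
      rw [mem_cj, inv_inv] at this
      have e : g * (g⁻¹ * x * g) * g⁻¹ = x := by group
      rwa [e] at this
    have h3 := h.mx _ h1 h2
    intro x hx
    apply mem_normalizer_of_cj_eq
    have h4 : g⁻¹ * x * g ∈ cj g⁻¹ X := by
      rw [mem_cj, inv_inv]
      have e : g * (g⁻¹ * x * g) * g⁻¹ = x := by group
      rw [e]; exact hx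
    have h5 := cj_eq_self_of_mem_normalizer (h3 h4)
    have e : x * g = g * (g⁻¹ * x * g) := by group
    rw [← cj_mul, e, cj_mul, h5]

variable [Finite Λ] {p : ℕ} {Y₁ Y₂ A : Subgroup Λ}

theorem fl_conj_D (h₁ : FLData p Y₁ A) {y : Λ} (hy : y ∈ Y₁) :
    ∀ d ∈ (Y₁ ⊓ A) ⊔ (Y₂ ⊓ A), y * d * y⁻¹ ∈ (Y₁ ⊓ A) ⊔ (Y₂ ⊓ A) := by
  have hAn := h₁.an
  have hK : (Y₁ ⊓ A) ⊔ (Y₂ ⊓ A) ≤
      ((Y₁ ⊓ A) ⊔ (Y₂ ⊓ A)).comap (MulAut.conj y).toMonoidHom := by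
    refine sup_le ?_ ?_
    · intro d hd
      rw [Subgroup.mem_comap]
      apply Subgroup.mem_sup_left
      exact Subgroup.mem_inf.mpr ⟨mul_mem (mul_mem hy (Subgroup.mem_inf.mp hd).1) (inv_mem hy),
        hAn.conj_mem d (Subgroup.mem_inf.mp hd).2 y⟩
    · intro d hd
      rw [Subgroup.mem_comap]
      have hdA := (Subgroup.mem_inf.mp hd).2
      have h1 : y * d * y⁻¹ * d⁻¹ ∈ Y₁ ⊓ A := by
        refine Subgroup.mem_inf.mpr ⟨?_, mul_mem (hAn.conj_mem d hdA y) (inv_mem hdA)⟩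
        have h2 : d * y⁻¹ * d⁻¹ ∈ Y₁ :=
          (Subgroup.mem_normalizer_iff.mp (h₁.aN hdA) y⁻¹).mp (inv_mem hy)
        have e : y * d * y⁻¹ * d⁻¹ = y * (d * y⁻¹ * d⁻¹) := by group
        rw [e]; exact mul_mem hy h2
      have e : (MulAut.conj y).toMonoidHom d = (y * d * y⁻¹ * d⁻¹) * d := by
        simp [MulAut.conj_apply]
      rw [e]
      exact mul_mem (Subgroup.mem_sup_left h1) (Subgroup.mem_sup_right hd)
  intro d hd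
  have := hK hd
  rw [Subgroup.mem_comap] at this
  simpa [MulAut.conj_apply] using this

theorem fl_A_le_D (h₁ : FLData p Y₁ A) (h₂ : FLData p Y₂ A) (htop : Y₁ ⊔ Y₂ ⊔ A = ⊤) :
    A ≤ (Y₁ ⊓ A) ⊔ (Y₂ ⊓ A) := by
  have hAn := h₁.an
  have hN : Subgroup.normalizer (((Y₁ ⊓ A) ⊔ (Y₂ ⊓ A) : Subgroup Λ) : Set Λ) = ⊤ := by
    rw [eq_top_iff, ← htop]
    refine sup_le (sup_le ?_ ?_) ?_
    · intro y hy
      exact mem_normalizer_of_conj_le _ (fl_conj_D h₁ hy)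
    · intro y hy
      apply mem_normalizer_of_conj_le
      have := fl_conj_D (Y₂ := Y₁) h₂ hy
      rw [sup_comm] at this
      exact this
    · intro a ha
      apply mem_normalizer_of_conj_le
      have hK : (Y₁ ⊓ A) ⊔ (Y₂ ⊓ A) ≤
          ((Y₁ ⊓ A) ⊔ (Y₂ ⊓ A)).comap (MulAut.conj a).toMonoidHom := by
        refine sup_le ?_ ?_
        · intro d hd
          rw [Subgroup.mem_comap]
          apply Subgroup.mem_sup_left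
          refine Subgroup.mem_inf.mpr ⟨?_, hAn.conj_mem d (Subgroup.mem_inf.mp hd).2 a⟩
          exact (Subgroup.mem_normalizer_iff.mp (h₁.aN ha) d).mp (Subgroup.mem_inf.mp hd).1
        · intro d hd
          rw [Subgroup.mem_comap]
          apply Subgroup.mem_sup_right
          refine Subgroup.mem_inf.mpr ⟨?_, hAn.conj_mem d (Subgroup.mem_inf.mp hd).2 a⟩
          exact (Subgroup.mem_normalizer_iff.mp (h₂.aN ha) d).mp (Subgroup.mem_inf.mp hd).1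
      intro d hd
      have := hK hd
      rw [Subgroup.mem_comap] at this
      simpa [MulAut.conj_apply] using this
  have hDn : ((Y₁ ⊓ A) ⊔ (Y₂ ⊓ A) : Subgroup Λ).Normal := Subgroup.normalizer_eq_top_iff.mp hN
  exact h₁.acl.trans (Subgroup.normalClosure_le_normal (le_sup_left : Y₁ ⊓ A ≤ _))

theorem fl_dec (h₁ : FLData p Y₁ A) (h₂ : FLData p Y₂ A) (htop : Y₁ ⊔ Y₂ ⊔ A = ⊤)
    {a : Λ} (ha : a ∈ A) :
    ∃ y₁, y₁ ∈ Y₁ ∧ y₁ ∈ A ∧ ∃ y₂, y₂ ∈ Y₂ ∧ y₂ ∈ A ∧ a = y₁ * y₂ := by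
  have hAn := h₁.an
  have h1 := fl_A_le_D h₁ h₂ htop ha
  have hLE : Y₁ ⊓ A ≤ Subgroup.normalizer ((Y₂ ⊓ A : Subgroup Λ) : Set Λ) := by
    intro b hb
    apply mem_normalizer_of_conj_le
    intro d hd
    refine Subgroup.mem_inf.mpr ⟨?_, hAn.conj_mem d (Subgroup.mem_inf.mp hd).2 b⟩
    exact (Subgroup.mem_normalizer_iff.mp (h₂.aN (Subgroup.mem_inf.mp hb).2) d).mp
      (Subgroup.mem_inf.mp hd).1
  rw [← SetLike.mem_coe, Subgroup.coe_mul_of_left_le_normalizer_right _ _ hLE] at h1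
  obtain ⟨y₁, hy₁, y₂, hy₂, rfl⟩ := Set.mem_mul.mp h1
  exact ⟨y₁, (Subgroup.mem_inf.mp hy₁).1, (Subgroup.mem_inf.mp hy₁).2, y₂,
    (Subgroup.mem_inf.mp hy₂).1, (Subgroup.mem_inf.mp hy₂).2, rfl⟩

theorem fl_c0 (h₁ : FLData p Y₁ A) (h₂ : FLData p Y₂ A) (htop : Y₁ ⊔ Y₂ ⊔ A = ⊤)
    {z : Λ} (hz₁ : z ∈ Y₁) (hz₂ : z ∈ Y₂) : z ∈ flC Y₁ := by
  refine Subgroup.mem_inf.mpr ⟨hz₁, ?_⟩
  have h1 : Y₁ ≤ Subgroup.centralizer ({z} : Set Λ) := by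
    intro y hy
    rw [Subgroup.mem_centralizer_iff]
    intro w hw
    rw [Set.mem_singleton_iff.mp hw]
    exact h₁.yab _ hz₁ _ hy
  have h2 : Y₂ ≤ Subgroup.centralizer ({z} : Set Λ) := by
    intro y hy
    rw [Subgroup.mem_centralizer_iff]
    intro w hw
    rw [Set.mem_singleton_iff.mp hw]
    exact h₂.yab _ hz₂ _ hy
  have h3 : A ≤ Subgroup.centralizer ({z} : Set Λ) :=
    (fl_A_le_D h₁ h₂ htop).trans (sup_le (inf_le_left.trans h1) (inf_le_left.trans h2))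
  have h4 : Subgroup.centralizer ({z} : Set Λ) = ⊤ := by
    rw [eq_top_iff, ← htop]
    exact sup_le (sup_le h1 h2) h3
  rw [Subgroup.mem_center_iff]
  intro g
  have : g ∈ Subgroup.centralizer ({z} : Set Λ) := by rw [h4]; exact Subgroup.mem_top _
  exact (Subgroup.mem_centralizer_iff.mp this z rfl).symm

theorem fl_ay (h₁ : FLData p Y₁ A) (h₂ : FLData p Y₂ A) (htop : Y₁ ⊔ Y₂ ⊔ A = ⊤)
    {a y : Λ} (ha : a ∈ A) (hy : y ∈ Y₁) (hyA : y ∈ A) : a * y * a⁻¹ * y⁻¹ ∈ flC Y₁ := by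
  have hAn := h₁.an
  obtain ⟨z₁, hz₁, hz₁A, z₂, hz₂, hz₂A, rfl⟩ := fl_dec h₁ h₂ htop ha
  have hw₁ : z₂ * y * z₂⁻¹ * y⁻¹ ∈ Y₁ :=
    mul_mem ((Subgroup.mem_normalizer_iff.mp (h₁.aN hz₂A) y).mp hy) (inv_mem hy)
  have hw₂ : z₂ * y * z₂⁻¹ * y⁻¹ ∈ Y₂ := by
    have h2 : y * z₂⁻¹ * y⁻¹ ∈ Y₂ :=
      (Subgroup.mem_normalizer_iff.mp (h₂.aN hyA) z₂⁻¹).mp (inv_mem hz₂)
    have e : z₂ * y * z₂⁻¹ * y⁻¹ = z₂ * (y * z₂⁻¹ * y⁻¹) := by group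
    rw [e]; exact mul_mem hz₂ h2
  have hw := fl_c0 h₁ h₂ htop hw₁ hw₂
  have e : z₁ * z₂ * y * (z₁ * z₂)⁻¹ * y⁻¹ =
      z₁ * (z₂ * y * z₂⁻¹ * y⁻¹) * z₁⁻¹ * (z₁ * y * z₁⁻¹ * y⁻¹) := by group
  have e2 : z₁ * y * z₁⁻¹ * y⁻¹ = 1 := by
    rw [h₁.yab _ hz₁ _ hy, mul_inv_cancel_right, mul_inv_cancel]
  rw [e, e2, mul_one, flC_conj hw]
  exact hw

theorem fl_comm (h₁ : FLData p Y₁ A) (h₂ : FLData p Y₂ A) (htop : Y₁ ⊔ Y₂ ⊔ A = ⊤)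
    (hC : flC Y₂ = flC Y₁) {a b : Λ} (ha : a ∈ A) (hb : b ∈ A) :
    a * b * a⁻¹ * b⁻¹ ∈ flC Y₁ := by
  obtain ⟨y₁, hy₁, hy₁A, y₂, hy₂, hy₂A, rfl⟩ := fl_dec h₁ h₂ htop hb
  have htop' : Y₂ ⊔ Y₁ ⊔ A = ⊤ := by rw [sup_comm Y₂ Y₁]; exact htop
  have c1 := fl_ay h₁ h₂ htop ha hy₁ hy₁A
  have c2 := fl_ay h₂ h₁ htop' ha hy₂ hy₂A
  rw [hC] at c2
  have e : a * (y₁ * y₂) * a⁻¹ * (y₁ * y₂)⁻¹ =
      (a * y₁ * a⁻¹ * y₁⁻¹) * (y₁ * (a * y₂ * a⁻¹ * y₂⁻¹) * y₁⁻¹) := by group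
  rw [e, flC_conj c2]
  exact mul_mem c1 c2

theorem fl_step4 (h₁ : FLData p Y₁ A) (h₂ : FLData p Y₂ A) (htop : Y₁ ⊔ Y₂ ⊔ A = ⊤)
    {y u : Λ} (hy : y ∈ Y₁) (hyA : y ∈ A) (hu : u * y * u⁻¹ * y⁻¹ ∈ flC Y₁)
    (hgen : Subgroup.zpowers u ⊔ Y₁ ⊔ A = ⊤) : y ∈ flC Y₁ := by
  let S : Subgroup Λ :=
    { carrier := {l | l * y * l⁻¹ * y⁻¹ ∈ flC Y₁}
      mul_mem' := by
        intro l l' hl hl'
        have e : l * l' * y * (l * l')⁻¹ * y⁻¹ =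
            l * (l' * y * l'⁻¹ * y⁻¹) * l⁻¹ * (l * y * l⁻¹ * y⁻¹) := by group
        show l * l' * y * (l * l')⁻¹ * y⁻¹ ∈ flC Y₁
        rw [e, flC_conj hl']
        exact mul_mem hl' hl
      one_mem' := by
        show 1 * y * 1⁻¹ * y⁻¹ ∈ flC Y₁
        simp
      inv_mem' := by
        intro l hl
        have e : l⁻¹ * y * l⁻¹⁻¹ * y⁻¹ = l⁻¹ * (l * y * l⁻¹ * y⁻¹)⁻¹ * l⁻¹⁻¹ := by group
        show l⁻¹ * y * l⁻¹⁻¹ * y⁻¹ ∈ flC Y₁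
        rw [e, flC_conj (inv_mem hl)]
        exact inv_mem hl }
  have hS : S = ⊤ := by
    rw [eq_top_iff, ← hgen]
    refine sup_le (sup_le ?_ ?_) ?_
    · rw [Subgroup.zpowers_le]
      exact hu
    · intro l hl
      show l * y * l⁻¹ * y⁻¹ ∈ flC Y₁
      rw [h₁.yab _ hl _ hy, mul_inv_cancel_right, mul_inv_cancel]
      exact one_mem _
    · intro l hl
      exact fl_ay h₁ h₂ htop hl hy hyA
  have hall : ∀ l : Λ, l * y * l⁻¹ * y⁻¹ ∈ flC Y₁ := by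
    intro l
    have : l ∈ S := by rw [hS]; exact Subgroup.mem_top _
    exact this
  have hTn : (Subgroup.centralizer ({y} : Set Λ)).Normal := by
    constructor
    intro t ht l
    rw [Subgroup.mem_centralizer_iff] at ht ⊢
    intro w hw
    rw [Set.mem_singleton_iff.mp hw]
    have hty : y * t = t * y := ht y rfl
    have hc := hall l⁻¹
    rw [inv_inv] at hc
    -- l⁻¹ y l = c y with c central
    have e1 : l⁻¹ * y * l = (l⁻¹ * y * l * y⁻¹) * y := by group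
    have e2 : y * (l * t * l⁻¹) = l * ((l⁻¹ * y * l) * t) * l⁻¹ := by group
    have e3 : l * t * l⁻¹ * y = l * (t * (l⁻¹ * y * l)) * l⁻¹ := by group
    rw [e2, e3, e1, mul_assoc (l⁻¹ * y * l * y⁻¹) y t, hty, ← mul_assoc (l⁻¹ * y * l * y⁻¹) t y,
      ← flC_comm hc t, mul_assoc t]
  have hT : Subgroup.centralizer ({y} : Set Λ) = ⊤ := by
    rw [eq_top_iff, ← h₁.gen]
    refine Subgroup.normalClosure_le_normal ?_
    intro l hl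
    rw [SetLike.mem_coe, Subgroup.mem_centralizer_iff]
    intro w hw
    rw [Set.mem_singleton_iff.mp hw]
    exact h₁.yab _ hy _ hl
  refine Subgroup.mem_inf.mpr ⟨hy, ?_⟩
  rw [Subgroup.mem_center_iff]
  intro g
  have : g ∈ Subgroup.centralizer ({y} : Set Λ) := by rw [hT]; exact Subgroup.mem_top _
  exact (Subgroup.mem_centralizer_iff.mp this y rfl).symm

/-- the core computation -/
theorem fl_core (h₁ : FLData p Y₁ A) (h₂ : FLData p Y₂ A) (hC : flC Y₂ = flC Y₁)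
    {u₁ u₂ a₀ : Λ} (hu₁ : u₁ ∈ Y₁) (hu₂ : u₂ ∈ Y₂) (ha₀ : a₀ ∈ A)
    (hg₁ : Subgroup.zpowers u₂ ⊔ Y₁ ⊔ A = ⊤) (hg₂ : Subgroup.zpowers u₁ ⊔ Y₂ ⊔ A = ⊤)
    {a : Λ} (ha : a ∈ A)
    (hfix : (u₁ * u₂ * a₀) * a * (u₁ * u₂ * a₀)⁻¹ * a⁻¹ ∈ flC Y₁) : a ∈ flC Y₁ := by
  have hAn := h₁.an
  have htop : Y₁ ⊔ Y₂ ⊔ A = ⊤ := by
    rw [eq_top_iff, ← hg₁]
    refine sup_le (sup_le ?_ (le_sup_left.trans le_sup_left)) le_sup_right
    rw [Subgroup.zpowers_le]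
    exact Subgroup.mem_sup_left (Subgroup.mem_sup_right hu₂)
  have htop' : Y₂ ⊔ Y₁ ⊔ A = ⊤ := by rw [sup_comm Y₂ Y₁]; exact htop
  have hc₀ := fl_comm h₁ h₂ htop hC ha₀ ha
  -- remove `a₀`
  have hE : u₁ * u₂ * a * u₂⁻¹ * u₁⁻¹ * a⁻¹ ∈ flC Y₁ := by
    have e : (u₁ * u₂ * a₀) * a * (u₁ * u₂ * a₀)⁻¹ * a⁻¹ =
        (u₁ * u₂) * (a₀ * a * a₀⁻¹ * a⁻¹) * (u₁ * u₂)⁻¹ * (u₁ * u₂ * a * u₂⁻¹ * u₁⁻¹ * a⁻¹) := by
      group
    rw [e, flC_conj hc₀] at hfix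
    have := mul_mem (inv_mem hc₀) hfix
    rwa [inv_mul_cancel_left] at this
  obtain ⟨y₁, hy₁, hy₁A, y₂, hy₂, hy₂A, rfl⟩ := fl_dec h₁ h₂ htop ha
  -- the two commutators
  have hX₂ : u₂ * y₁ * u₂⁻¹ * y₁⁻¹ ∈ Y₂ := by
    have h2 : y₁ * u₂⁻¹ * y₁⁻¹ ∈ Y₂ :=
      (Subgroup.mem_normalizer_iff.mp (h₂.aN hy₁A) u₂⁻¹).mp (inv_mem hu₂)
    have e : u₂ * y₁ * u₂⁻¹ * y₁⁻¹ = u₂ * (y₁ * u₂⁻¹ * y₁⁻¹) := by group
    rw [e]; exact mul_mem hu₂ h2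
  have hZ₁ : u₁⁻¹ * y₂ * u₁ * y₂⁻¹ ∈ Y₁ := by
    have h2 : y₂ * u₁ * y₂⁻¹ ∈ Y₁ :=
      (Subgroup.mem_normalizer_iff.mp (h₁.aN hy₂A) u₁).mp hu₁
    have e : u₁⁻¹ * y₂ * u₁ * y₂⁻¹ = u₁⁻¹ * (y₂ * u₁ * y₂⁻¹) := by group
    rw [e]; exact mul_mem (inv_mem hu₁) h2
  have hXZ : (u₂ * y₁ * u₂⁻¹ * y₁⁻¹) * (u₁⁻¹ * y₂ * u₁ * y₂⁻¹)⁻¹ ∈ flC Y₁ := by
    have e1 : u₂ * y₂ * u₂⁻¹ = y₂ := by
      rw [h₂.yab _ hu₂ _ hy₂, mul_inv_cancel_right]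
    have e2 : u₁⁻¹ * y₁⁻¹ * u₁ = y₁⁻¹ := by
      rw [h₁.yab _ (inv_mem hu₁) _ (inv_mem hy₁), mul_assoc, inv_mul_cancel, mul_one]
    obtain ⟨X, hXd⟩ : ∃ X, X = u₂ * y₁ * u₂⁻¹ * y₁⁻¹ := ⟨_, rfl⟩
    obtain ⟨Z, hZd⟩ : ∃ Z, Z = u₁⁻¹ * y₂ * u₁ * y₂⁻¹ := ⟨_, rfl⟩
    have hZ₁' : Z ∈ Y₁ := by rw [hZd]; exact hZ₁
    have e3 : y₁ * Z⁻¹ * y₁⁻¹ = Z⁻¹ := by
      rw [h₁.yab _ hy₁ _ (inv_mem hZ₁'), mul_inv_cancel_right]
    have hX' : u₂ * y₁ * u₂⁻¹ = X * y₁ := by rw [hXd]; group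
    have hZ' : y₂ * u₁⁻¹ * y₂⁻¹ * u₁ = Z⁻¹ := by rw [hZd]; group
    have s1 : u₁ * u₂ * (y₁ * y₂) * u₂⁻¹ * u₁⁻¹ * (y₁ * y₂)⁻¹ =
        u₁ * (u₂ * y₁ * u₂⁻¹) * (u₂ * y₂ * u₂⁻¹) * u₁⁻¹ * y₂⁻¹ * y₁⁻¹ := by group
    rw [s1, hX', e1] at hE
    have hconj := flC_conj hE u₁⁻¹
    rw [inv_inv] at hconj
    have s2 : u₁⁻¹ * (u₁ * (X * y₁) * y₂ * u₁⁻¹ * y₂⁻¹ * y₁⁻¹) * u₁ =
        X * (y₁ * (y₂ * u₁⁻¹ * y₂⁻¹ * u₁) * (u₁⁻¹ * y₁⁻¹ * u₁)) := by group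
    rw [s2, hZ', e2, e3] at hconj
    rw [← hXd, ← hZd, hconj]
    exact hE
  have hX₁ : u₂ * y₁ * u₂⁻¹ * y₁⁻¹ ∈ Y₁ := by
    have := mul_mem (Subgroup.mem_inf.mp hXZ).1 hZ₁
    rwa [inv_mul_cancel_right] at this
  have hX := fl_c0 h₁ h₂ htop hX₁ hX₂
  have hZ : u₁⁻¹ * y₂ * u₁ * y₂⁻¹ ∈ flC Y₁ := by
    have := mul_mem (inv_mem hXZ) hX
    rwa [mul_inv_rev, inv_inv, inv_mul_cancel_right] at this
  have hy₁C := fl_step4 h₁ h₂ htop hy₁ hy₁A hX hg₁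
  have hZ' : u₁⁻¹ * y₂ * u₁⁻¹⁻¹ * y₂⁻¹ ∈ flC Y₂ := by
    rw [inv_inv, hC]; exact hZ
  have hg₂' : Subgroup.zpowers u₁⁻¹ ⊔ Y₂ ⊔ A = ⊤ := by
    rw [Subgroup.zpowers_inv]; exact hg₂
  have hy₂C := fl_step4 h₂ h₁ htop' hy₂ hy₂A hZ' hg₂'
  rw [hC] at hy₂C
  exact mul_mem hy₁C hy₂C

end FrakL

end Cfsg.Agent.Lib.Helper56
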