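import Cfsg.Agent.Lib.Helper56.FrakL
import Mathlib

set_option autoImplicit false
open Cfsg
open Cfsg.Agent.Lib.Helper55 (cj mem_cj cj_eq_self_of_mem_normalizer mem_normalizer_of_cj_eq cj_mul)
open Cfsg.Agent.Lib.Helper88 (mem_normalizer_of_conj_le)

namespace Cfsg.Agent.Lib.Helper56

section FrakL2

variable {Λ : Type*} [Group Λ]

theorem map_cj' {H : Type*} [Group H] (f : Λ →* H) (g : Λ) (Y : Subgroup Λ) :
    (cj g Y).map f = cj (f g) (Y.map f) := by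
  ext x
  constructor
  · rintro ⟨_, ⟨y, hy, rfl⟩, rfl⟩
    exact ⟨f y, ⟨y, hy, rfl⟩, by simp⟩
  · rintro ⟨_, ⟨y, hy, rfl⟩, rfl⟩
    exact ⟨_, ⟨y, hy, rfl⟩, by simp⟩

variable [Finite Λ] {p : ℕ} [Fact p.Prime] {Y A : Subgroup Λ}

theorem exists_orderOf_eq_of_mem_pgroup {P : Subgroup Λ} (hP : IsPGroup p P) {x : Λ}
    (hx : x ∈ P) : ∃ k : ℕ, orderOf x = p ^ k := by
  obtain ⟨k, hk⟩ := hP ⟨x, hx⟩
  have h1 : x ^ p ^ k = 1 := by
    have := congrArg Subtype.val hk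
    simpa using this
  obtain ⟨j, -, hj⟩ := (Nat.dvd_prime_pow (Fact.out : p.Prime)).mp (orderOf_dvd_of_pow_eq_one h1)
  exact ⟨j, hj⟩

theorem exists_orderOf_eq_of_pow_mem {P : Subgroup Λ} (hP : IsPGroup p P) {x : Λ} {n : ℕ}
    (hx : x ^ p ^ n ∈ P) : ∃ k : ℕ, orderOf x = p ^ k := by
  obtain ⟨k, hk⟩ := hP ⟨x ^ p ^ n, hx⟩
  have h1 : x ^ p ^ (n + k) = 1 := by
    have := congrArg Subtype.val hk
    rw [pow_add, pow_mul]
    simpa using this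
  obtain ⟨j, -, hj⟩ := (Nat.dvd_prime_pow (Fact.out : p.Prime)).mp (orderOf_dvd_of_pow_eq_one h1)
  exact ⟨j, hj⟩

theorem fl_top {Y₁ : Subgroup Λ} (h₁ : FLData p Y₁ A) {u x : Λ}
    (hu : IsPGroup p (Subgroup.zpowers u))
    (hx : x ∈ Subgroup.zpowers u ⊔ Y₁ ⊔ A) (hxo : ¬ ∃ k : ℕ, orderOf x = p ^ k) :
    Subgroup.zpowers u ⊔ Y₁ ⊔ A = ⊤ := by
  by_contra hne
  haveI hAn := h₁.an
  have hY₁X : Y₁ ≤ Subgroup.zpowers u ⊔ Y₁ ⊔ A := le_sup_right.trans le_sup_left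
  have hXN := h₁.mx _ hY₁X hne
  have huN : u ∈ Subgroup.normalizer (Y₁ : Set Λ) :=
    hXN (Subgroup.mem_sup_left (Subgroup.mem_sup_left (Subgroup.mem_zpowers u)))
  have hP1 : IsPGroup p (Y₁ ⊔ A : Subgroup Λ) := IsPGroup.to_sup_of_normal_right h₁.yp h₁.ap
  have huA : u ∈ Subgroup.normalizer (A : Set Λ) := by
    rw [Subgroup.normalizer_eq_top_iff.mpr hAn]; exact Subgroup.mem_top _
  have huN2 : Subgroup.zpowers u ≤ Subgroup.normalizer ((Y₁ ⊔ A : Subgroup Λ) : Set Λ) := by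
    rw [Subgroup.zpowers_le]
    apply mem_normalizer_of_cj_eq
    show (Y₁ ⊔ A).map (MulAut.conj u).toMonoidHom = Y₁ ⊔ A
    rw [Subgroup.map_sup]
    have e1 : Y₁.map (MulAut.conj u).toMonoidHom = Y₁ := cj_eq_self_of_mem_normalizer huN
    have e2 : A.map (MulAut.conj u).toMonoidHom = A := cj_eq_self_of_mem_normalizer huA
    rw [e1, e2]
  have hP2 : IsPGroup p (Subgroup.zpowers u ⊔ (Y₁ ⊔ A) : Subgroup Λ) :=
    IsPGroup.to_sup_of_normal_right' hu hP1 huN2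
  rw [sup_assoc] at hx
  exact hxo (exists_orderOf_eq_of_mem_pgroup hP2 hx)

/-- a product of two "root elements" of non-`p`-power order acts without fixed points on `A/C` -/
theorem fl_main (h : FLData p Y A) (g₁ g₂ : Λ) {u₁ u₂ a₀ : Λ} (hu₁ : u₁ ∈ cj g₁ Y)
    (hu₂ : u₂ ∈ cj g₂ Y) (ha₀ : a₀ ∈ A) (hxo : ¬ ∃ k : ℕ, orderOf (u₁ * u₂ * a₀) = p ^ k)
    {a : Λ} (ha : a ∈ A)
    (hfix : (u₁ * u₂ * a₀) * a * (u₁ * u₂ * a₀)⁻¹ * a⁻¹ ∈ flC Y) : a ∈ flC Y := by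
  have h₁ := h.conj g₁
  have h₂ := h.conj g₂
  have hC : flC (cj g₂ Y) = flC (cj g₁ Y) := by rw [flC_cj, flC_cj]
  have hg₁ : Subgroup.zpowers u₂ ⊔ cj g₁ Y ⊔ A = ⊤ := by
    refine fl_top h₁ (h₂.yp.to_le (Subgroup.zpowers_le.mpr hu₂)) ?_ hxo
    exact mul_mem (mul_mem (Subgroup.mem_sup_left (Subgroup.mem_sup_right hu₁))
      (Subgroup.mem_sup_left (Subgroup.mem_sup_left (Subgroup.mem_zpowers u₂))))
      (Subgroup.mem_sup_right ha₀)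
  have hg₂ : Subgroup.zpowers u₁ ⊔ cj g₂ Y ⊔ A = ⊤ := by
    refine fl_top h₂ (h₁.yp.to_le (Subgroup.zpowers_le.mpr hu₁)) ?_ hxo
    exact mul_mem (mul_mem (Subgroup.mem_sup_left (Subgroup.mem_sup_left (Subgroup.mem_zpowers u₁)))
      (Subgroup.mem_sup_left (Subgroup.mem_sup_right hu₂)))
      (Subgroup.mem_sup_right ha₀)
  rw [← flC_cj Y g₁] at hfix ⊢
  exact fl_core h₁ h₂ hC hu₁ hu₂ ha₀ hg₁ hg₂ ha hfix

/-- `A/C` is abelian as soon as some product of two root elements has non-`p`-power order -/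
theorem fl_comm_of_prod (h : FLData p Y A) (g₁ g₂ : Λ) {u₁ u₂ a₀ : Λ} (hu₁ : u₁ ∈ cj g₁ Y)
    (hu₂ : u₂ ∈ cj g₂ Y) (ha₀ : a₀ ∈ A) (hxo : ¬ ∃ k : ℕ, orderOf (u₁ * u₂ * a₀) = p ^ k)
    {a b : Λ} (ha : a ∈ A) (hb : b ∈ A) : a * b * a⁻¹ * b⁻¹ ∈ flC Y := by
  have h₁ := h.conj g₁
  have h₂ := h.conj g₂
  have hC : flC (cj g₂ Y) = flC (cj g₁ Y) := by rw [flC_cj, flC_cj]
  have hg₁ : Subgroup.zpowers u₂ ⊔ cj g₁ Y ⊔ A = ⊤ := by
    refine fl_top h₁ (h₂.yp.to_le (Subgroup.zpowers_le.mpr hu₂)) ?_ hxo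
    exact mul_mem (mul_mem (Subgroup.mem_sup_left (Subgroup.mem_sup_right hu₁))
      (Subgroup.mem_sup_left (Subgroup.mem_sup_left (Subgroup.mem_zpowers u₂))))
      (Subgroup.mem_sup_right ha₀)
  have htop : cj g₁ Y ⊔ cj g₂ Y ⊔ A = ⊤ := by
    rw [eq_top_iff, ← hg₁]
    refine sup_le (sup_le ?_ (le_sup_left.trans le_sup_left)) le_sup_right
    rw [Subgroup.zpowers_le]
    exact Subgroup.mem_sup_left (Subgroup.mem_sup_right hu₂)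
  rw [← flC_cj Y g₁]
  exact fl_comm h₁ h₂ htop hC ha hb

/-- passing from `x` to an element `z` which differs from `x` by a commuting `p`-element -/
theorem fl_central (h : FLData p Y A)
    (hAC : ∀ a ∈ A, ∀ b ∈ A, a * b * a⁻¹ * b⁻¹ ∈ flC Y)
    {x z : Λ} (hx : ∀ a ∈ A, x * a * x⁻¹ * a⁻¹ ∈ flC Y → a ∈ flC Y)
    (hxz : ∃ k : ℕ, (x * z⁻¹) ^ p ^ k = 1) (hcomm : x * z * x⁻¹ * z⁻¹ ∈ A)
    {a : Λ} (ha : a ∈ A) (hfix : z * a * z⁻¹ * a⁻¹ ∈ flC Y) : a ∈ flC Y := by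
  haveI hAn := h.an
  let W : Subgroup Λ :=
    { carrier := {w | w ∈ A ∧ z * w * z⁻¹ * w⁻¹ ∈ flC Y}
      mul_mem' := by
        rintro w w' ⟨hw, hwc⟩ ⟨hw', hwc'⟩
        refine ⟨mul_mem hw hw', ?_⟩
        have e : z * (w * w') * z⁻¹ * (w * w')⁻¹ =
            (z * w * z⁻¹ * w⁻¹) * (w * (z * w' * z⁻¹ * w'⁻¹) * w⁻¹) := by group
        rw [e, flC_conj hwc']
        exact mul_mem hwc hwc'
      one_mem' := by
        refine ⟨one_mem _, ?_⟩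
        simp
      inv_mem' := by
        rintro w ⟨hw, hwc⟩
        refine ⟨inv_mem hw, ?_⟩
        have e : z * w⁻¹ * z⁻¹ * w⁻¹⁻¹ = w⁻¹ * (z * w * z⁻¹ * w⁻¹)⁻¹ * w⁻¹⁻¹ := by group
        rw [e, flC_conj (inv_mem hwc)]
        exact inv_mem hwc }
  have hWA : W ≤ A := fun w hw => hw.1
  have hnorm : ∀ w ∈ W, (x * z⁻¹) * w * (x * z⁻¹)⁻¹ ∈ W := by
    rintro w ⟨hw, hwc⟩
    have hw' : (x * z⁻¹) * w * (x * z⁻¹)⁻¹ ∈ A := hAn.conj_mem w hw _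
    refine ⟨hw', ?_⟩
    have hc' := hAC _ (inv_mem hcomm) _ hw'
    have e : z * ((x * z⁻¹) * w * (x * z⁻¹)⁻¹) * z⁻¹ * ((x * z⁻¹) * w * (x * z⁻¹)⁻¹)⁻¹ =
        ((x * z * x⁻¹ * z⁻¹)⁻¹ * ((x * z⁻¹) * (z * w * z⁻¹ * w⁻¹) * (x * z⁻¹)⁻¹) *
            (x * z * x⁻¹ * z⁻¹)⁻¹⁻¹) *
          ((x * z * x⁻¹ * z⁻¹)⁻¹ * ((x * z⁻¹) * w * (x * z⁻¹)⁻¹) * (x * z * x⁻¹ * z⁻¹)⁻¹⁻¹ *
            ((x * z⁻¹) * w * (x * z⁻¹)⁻¹)⁻¹) := by group
    rw [e, flC_conj hwc, flC_conj hwc]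
    exact mul_mem hwc hc'
  have hxN : Subgroup.zpowers (x * z⁻¹) ≤ Subgroup.normalizer (W : Set Λ) := by
    rw [Subgroup.zpowers_le]
    exact mem_normalizer_of_conj_le W hnorm
  have hPz : IsPGroup p (Subgroup.zpowers (x * z⁻¹)) := by
    obtain ⟨k, hk⟩ := hxz
    rintro ⟨y, hy⟩
    obtain ⟨i, rfl⟩ := Subgroup.mem_zpowers_iff.mp hy
    refine ⟨k, ?_⟩
    apply Subtype.ext
    show ((x * z⁻¹) ^ i) ^ p ^ k = 1
    rw [← zpow_natCast, ← zpow_mul, mul_comm, zpow_mul, zpow_natCast, hk, one_zpow]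
  have hP : IsPGroup p (Subgroup.zpowers (x * z⁻¹) ⊔ W : Subgroup Λ) :=
    IsPGroup.to_sup_of_normal_right' hPz (h.ap.to_le hWA) hxN
  have hnil : Group.IsNilpotent ↥(Subgroup.zpowers (x * z⁻¹) ⊔ W : Subgroup Λ) := hP.isNilpotent
  obtain ⟨N, hN⟩ := (Subgroup.isNilpotent_iff_lowerCentralSeries _).mp hnil
  let f : ℕ → Λ := fun n => Nat.rec a (fun _ b => (x * z⁻¹) * b * (x * z⁻¹)⁻¹ * b⁻¹) n
  have hf0 : f 0 = a := rfl
  have hfs : ∀ n, f (n + 1) = (x * z⁻¹) * f n * (x * z⁻¹)⁻¹ * (f n)⁻¹ := fun n => rfl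
  have hfW : ∀ n, f n ∈ W := by
    intro n
    induction n with
    | zero => exact ⟨ha, hfix⟩
    | succ n ih =>
      rw [hfs]
      exact mul_mem (hnorm _ ih) (inv_mem ih)
  have hxP : x * z⁻¹ ∈ (Subgroup.zpowers (x * z⁻¹) ⊔ W : Subgroup Λ) :=
    Subgroup.mem_sup_left (Subgroup.mem_zpowers _)
  have hlcs : ∀ n, f n ∈
      (Subgroup.zpowers (x * z⁻¹) ⊔ W : Subgroup Λ).lowerCentralSeries n := by
    intro n
    induction n with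
    | zero =>
      rw [Subgroup.lowerCentralSeries_zero]
      exact Subgroup.mem_sup_right (hfW 0)
    | succ n ih =>
      rw [Subgroup.lowerCentralSeries_succ]
      have h1 := Subgroup.commutator_mem_commutator ih hxP
      have h2 := inv_mem h1
      rw [commutatorElement_inv] at h2
      rw [hfs]
      rw [commutatorElement_def] at h2
      exact h2
  have hfN : f N = 1 := by
    have := hlcs N
    rwa [hN, Subgroup.mem_bot] at this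
  by_contra hna
  have hex : ∃ n, f n ∈ flC Y := ⟨N, by rw [hfN]; exact one_mem _⟩
  classical
  have hmin : ∀ m, m < Nat.find hex → ¬ f m ∈ flC Y := fun m hm => Nat.find_min hex hm
  have hspec := Nat.find_spec hex
  obtain ⟨k, hk⟩ : ∃ k, Nat.find hex = k + 1 := by
    rcases Nat.exists_eq_succ_of_ne_zero (n := Nat.find hex) (by
      intro h0
      rw [h0] at hspec
      exact hna hspec) with ⟨k, hk⟩
    exact ⟨k, hk⟩
  have hb : f k ∉ flC Y := hmin k (by rw [hk]; exact Nat.lt_succ_self k)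
  rw [hk, hfs] at hspec
  obtain ⟨hbA, hbc⟩ := hfW k
  apply hb
  apply hx _ hbA
  have e : x * f k * x⁻¹ * (f k)⁻¹ =
      (x * z⁻¹) * (z * f k * z⁻¹ * (f k)⁻¹) * (x * z⁻¹)⁻¹ *
        ((x * z⁻¹) * f k * (x * z⁻¹)⁻¹ * (f k)⁻¹) := by group
  rw [e, flC_conj hbc]
  exact mul_mem hbc hspec

variable [hAn : A.Normal]

omit [Finite Λ] [Fact p.Prime] in
theorem fl_lift {hh : Λ} (γ₁ γ₂ : Λ ⧸ A) {υ₁ υ₂ : Λ ⧸ A}
    (hυ₁ : υ₁ ∈ cj γ₁ (Y.map (QuotientGroup.mk' A)))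
    (hυ₂ : υ₂ ∈ cj γ₂ (Y.map (QuotientGroup.mk' A)))
    (hprod : QuotientGroup.mk' A hh = υ₁ * υ₂) :
    ∃ g₁ g₂ u₁ u₂ a₀ : Λ, u₁ ∈ cj g₁ Y ∧ u₂ ∈ cj g₂ Y ∧ a₀ ∈ A ∧ hh = u₁ * u₂ * a₀ := by
  obtain ⟨g₁, rfl⟩ := QuotientGroup.mk'_surjective A γ₁
  obtain ⟨g₂, rfl⟩ := QuotientGroup.mk'_surjective A γ₂
  rw [← map_cj'] at hυ₁ hυ₂
  obtain ⟨u₁, hu₁, rfl⟩ := hυ₁
  obtain ⟨u₂, hu₂, rfl⟩ := hυ₂
  have ha₀ : (u₁ * u₂)⁻¹ * hh ∈ A := by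
    rw [← QuotientGroup.eq_one_iff, ← QuotientGroup.mk'_apply, map_mul, map_inv, hprod,
      map_mul, inv_mul_cancel]
  exact ⟨g₁, g₂, u₁, u₂, (u₁ * u₂)⁻¹ * hh, hu₁, hu₂, ha₀, by group⟩

/-- the quotient form of `fl_main` -/
theorem fl_quot (h : FLData p Y A) {hh : Λ} (hho : ¬ ∃ k : ℕ, orderOf hh = p ^ k)
    (γ₁ γ₂ : Λ ⧸ A) {υ₁ υ₂ : Λ ⧸ A}
    (hυ₁ : υ₁ ∈ cj γ₁ (Y.map (QuotientGroup.mk' A)))
    (hυ₂ : υ₂ ∈ cj γ₂ (Y.map (QuotientGroup.mk' A)))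
    (hprod : QuotientGroup.mk' A hh = υ₁ * υ₂)
    {a : Λ} (ha : a ∈ A) (hfix : hh * a * hh⁻¹ * a⁻¹ ∈ flC Y) : a ∈ flC Y := by
  obtain ⟨g₁, g₂, u₁, u₂, a₀, hu₁, hu₂, ha₀, rfl⟩ := fl_lift γ₁ γ₂ hυ₁ hυ₂ hprod
  exact fl_main h g₁ g₂ hu₁ hu₂ ha₀ hho ha hfix

/-- the quotient form of `fl_comm_of_prod` -/
theorem fl_quot_comm (h : FLData p Y A) {hh : Λ} (hho : ¬ ∃ k : ℕ, orderOf hh = p ^ k)
    (γ₁ γ₂ : Λ ⧸ A) {υ₁ υ₂ : Λ ⧸ A}
    (hυ₁ : υ₁ ∈ cj γ₁ (Y.map (QuotientGroup.mk' A)))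
    (hυ₂ : υ₂ ∈ cj γ₂ (Y.map (QuotientGroup.mk' A)))
    (hprod : QuotientGroup.mk' A hh = υ₁ * υ₂)
    {a b : Λ} (ha : a ∈ A) (hb : b ∈ A) : a * b * a⁻¹ * b⁻¹ ∈ flC Y := by
  obtain ⟨g₁, g₂, u₁, u₂, a₀, hu₁, hu₂, ha₀, rfl⟩ := fl_lift γ₁ γ₂ hυ₁ hυ₂ hprod
  exact fl_comm_of_prod h g₁ g₂ hu₁ hu₂ ha₀ hho ha hb

/-- the case where the image of `Y` in `Λ/A` has order `2` -/
theorem fl_two (h : FLData p Y A) (hU : Nat.card (Y.map (QuotientGroup.mk' A)) = 2)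
    {hh : Λ} (hho : ¬ ∃ k : ℕ, orderOf hh = p ^ k)
    {a : Λ} (ha : a ∈ A) (hfix : hh * a * hh⁻¹ * a⁻¹ ∈ flC Y) : a ∈ flC Y := by
  have hpp : p.Prime := Fact.out
  -- `p = 2`
  have hUp : IsPGroup p (Y.map (QuotientGroup.mk' A)) := h.yp.map _
  have hp2 : p = 2 := by
    obtain ⟨n, hn⟩ := IsPGroup.iff_card.mp hUp
    rw [hU] at hn
    have hn0 : n ≠ 0 := by
      rintro rfl
      simp at hn
    have : p ∣ 2 := by
      rw [hn]; exact dvd_pow_self p hn0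
    exact (Nat.prime_dvd_prime_iff_eq hpp Nat.prime_two).mp this
  -- a conjugate of `Y` generating `Λ` together with `Y`
  obtain ⟨g, hg⟩ : ∃ g : Λ, Y ⊔ cj g Y = ⊤ := by
    by_contra hcon
    push Not at hcon
    have h1 : ∀ g : Λ, cj g Y ≤ Subgroup.normalizer (Y : Set Λ) :=
      fun g => le_sup_right.trans (h.mx _ le_sup_left (hcon g))
    have h2 : Subgroup.normalizer (Y : Set Λ) = ⊤ := by
      rw [eq_top_iff, ← h.gen, Subgroup.normalClosure, Subgroup.closure_le]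
      intro y hy
      obtain ⟨b, hb, hconj⟩ := Group.mem_conjugatesOfSet_iff.mp hy
      obtain ⟨c, rfl⟩ := isConj_iff.mp hconj
      apply h1 c
      rw [mem_cj]
      have e : c⁻¹ * (c * b * c⁻¹) * c = b := by group
      rw [e]; exact hb
    have h3 : Y.Normal := Subgroup.normalizer_eq_top_iff.mp h2
    have h4 : Y ≤ A := h.core Y h3 h.yp
    have h5 : Y.map (QuotientGroup.mk' A) = ⊥ := by
      rw [eq_bot_iff]
      rintro _ ⟨y, hy, rfl⟩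
      rw [Subgroup.mem_bot, QuotientGroup.mk'_apply, QuotientGroup.eq_one_iff]
      exact h4 hy
    rw [h5] at hU
    simp at hU
  -- the involution
  have hUne : Y.map (QuotientGroup.mk' A) ≠ ⊥ := by
    intro hb
    rw [hb] at hU
    simp at hU
  obtain ⟨u, huU, hu1⟩ : ∃ u ∈ Y.map (QuotientGroup.mk' A), u ≠ 1 := by
    by_contra hcon
    push Not at hcon
    apply hUne
    rw [eq_bot_iff]
    intro v hv
    rw [Subgroup.mem_bot]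
    exact hcon v hv
  have hzU : Subgroup.zpowers u = Y.map (QuotientGroup.mk' A) := by
    apply Subgroup.eq_of_le_of_card_ge (Subgroup.zpowers_le.mpr huU)
    rw [hU, Nat.card_zpowers]
    have h0 := orderOf_pos u
    have h1 : orderOf u ≠ 1 := fun h => hu1 (orderOf_eq_one_iff.mp h)
    omega
  have huu : u * u = 1 := by
    have h2 : orderOf u = 2 := by rw [← Nat.card_zpowers, hzU, hU]
    rw [← sq, ← h2, pow_orderOf_eq_one]
  obtain ⟨γ, hγ⟩ : ∃ γ : Λ ⧸ A, γ = QuotientGroup.mk' A g := ⟨_, rfl⟩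
  obtain ⟨u', hu'⟩ : ∃ u' : Λ ⧸ A, u' = γ * u * γ⁻¹ := ⟨_, rfl⟩
  have hu'U : Subgroup.zpowers u' = cj γ (Y.map (QuotientGroup.mk' A)) := by
    rw [← hzU]
    show _ = (Subgroup.zpowers u).map (MulAut.conj γ).toMonoidHom
    rw [MonoidHom.map_zpowers, hu']
    rfl
  have htopQ : Subgroup.zpowers u ⊔ Subgroup.zpowers u' = ⊤ := by
    rw [hzU, hu'U, hγ, ← map_cj', ← Subgroup.map_sup, hg]
    exact Subgroup.map_top_of_surjective _ (QuotientGroup.mk'_surjective A)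
  have hu'u' : u' * u' = 1 := by
    have e : γ * u * γ⁻¹ * (γ * u * γ⁻¹) = γ * (u * u) * γ⁻¹ := by group
    rw [hu', e, huu, mul_one, mul_inv_cancel]
  obtain ⟨ρ, hρ⟩ : ∃ ρ : Λ ⧸ A, ρ = u * u' := ⟨_, rfl⟩
  have huinv : u⁻¹ = u := inv_eq_of_mul_eq_one_right huu
  have hu'inv : u'⁻¹ = u' := inv_eq_of_mul_eq_one_right hu'u'
  have hconj : u * ρ * u⁻¹ = ρ⁻¹ := by
    rw [hρ, mul_inv_rev, huinv, hu'inv, ← mul_assoc, huu, one_mul]
  have hconjz : ∀ j : ℤ, u * ρ ^ j = ρ ^ (-j) * u := by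
    intro j
    have h1 : (u * ρ * u⁻¹) ^ j = u * ρ ^ j * u⁻¹ := conj_zpow
    rw [hconj, inv_zpow, ← zpow_neg] at h1
    rw [h1, inv_mul_cancel_right]
  have hS : ∀ x : Λ ⧸ A, ∃ j : ℤ, x = ρ ^ j ∨ x = ρ ^ j * u := by
    intro x
    have hx : x ∈ Subgroup.closure ({u, u'} : Set (Λ ⧸ A)) := by
      have hcl : Subgroup.closure ({u, u'} : Set (Λ ⧸ A)) = ⊤ := by
        rw [← htopQ, Subgroup.zpowers_eq_closure, Subgroup.zpowers_eq_closure,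
          ← Subgroup.closure_union]
        rfl
      rw [hcl]; exact Subgroup.mem_top _
    induction hx using Subgroup.closure_induction with
    | mem y hy =>
      rcases hy with rfl | rfl
      · exact ⟨0, Or.inr (by simp)⟩
      · refine ⟨-1, Or.inr ?_⟩
        rw [zpow_neg_one, hρ, mul_inv_rev, inv_mul_cancel_right, hu'inv]
    | one => exact ⟨0, Or.inl (by simp)⟩
    | mul y y' _ _ ihy ihy' =>
      obtain ⟨i, hi | hi⟩ := ihy <;> obtain ⟨j, hj | hj⟩ := ihy'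
      · exact ⟨i + j, Or.inl (by rw [hi, hj, zpow_add])⟩
      · exact ⟨i + j, Or.inr (by rw [hi, hj, zpow_add, mul_assoc])⟩
      · exact ⟨i - j, Or.inr (by
          rw [hi, hj, mul_assoc, hconjz, ← mul_assoc, ← zpow_add, sub_eq_add_neg])⟩
      · refine ⟨i - j, Or.inl ?_⟩
        rw [hi, hj, mul_assoc, ← mul_assoc u, hconjz, mul_assoc (ρ ^ (-j)), huu, mul_one,
          ← zpow_add, sub_eq_add_neg]
    | inv y _ ihy =>
      obtain ⟨i, hi | hi⟩ := ihy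
      · exact ⟨-i, Or.inl (by rw [hi, zpow_neg])⟩
      · refine ⟨i, Or.inr ?_⟩
        rw [hi, mul_inv_rev, huinv, ← zpow_neg, hconjz, neg_neg]
  obtain ⟨j, hj | hj⟩ := hS (QuotientGroup.mk' A hh)
  · obtain ⟨k, hk | hk⟩ := Int.even_or_odd' j
    · refine fl_quot h hho (ρ ^ k) 1 (υ₁ := ρ ^ k * u * (ρ ^ k)⁻¹) (υ₂ := u) ?_ ?_ ?_ ha hfix
      · rw [mem_cj]
        have e : (ρ ^ k)⁻¹ * (ρ ^ k * u * (ρ ^ k)⁻¹) * ρ ^ k = u := by group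
        rw [e]; exact huU
      · rw [mem_cj]; simpa using huU
      · rw [hj, hk, mul_assoc (ρ ^ k) u, ← zpow_neg, hconjz, neg_neg, mul_assoc, mul_assoc, huu,
          mul_one, ← zpow_add, two_mul]
    · refine fl_quot h hho (ρ ^ k * u * γ) 1 (υ₁ := (ρ ^ k * u) * u' * (ρ ^ k * u)⁻¹) (υ₂ := u)
        ?_ ?_ ?_ ha hfix
      · rw [mem_cj, hu']
        have e : (ρ ^ k * u * γ)⁻¹ * ((ρ ^ k * u) * (γ * u * γ⁻¹) * (ρ ^ k * u)⁻¹) *
            (ρ ^ k * u * γ) = u := by group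
        rw [e]; exact huU
      · rw [mem_cj]; simpa using huU
      · have e1 : (ρ ^ k * u)⁻¹ = ρ ^ k * u := by
          rw [mul_inv_rev, huinv, ← zpow_neg, hconjz, neg_neg]
        have e2 : ρ ^ k * u * u' * (ρ ^ k * u) * u = ρ ^ k * (u * u') * ρ ^ k * (u * u) := by
          group
        rw [hj, hk, e1, e2, huu, mul_one, ← hρ, ← zpow_add_one, ← zpow_add]
        congr 1
        ring
  · exfalso
    apply hho
    have h1 : QuotientGroup.mk' A hh * QuotientGroup.mk' A hh = 1 := by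
      rw [hj, mul_assoc, ← mul_assoc u, hconjz, mul_assoc (ρ ^ (-j)), huu, mul_one, ← zpow_add]
      simp
    have h2 : hh ^ p ^ 1 ∈ A := by
      rw [pow_one, hp2, sq, ← QuotientGroup.eq_one_iff, ← QuotientGroup.mk'_apply, map_mul]
      exact h1
    exact exists_orderOf_eq_of_pow_mem h.ap h2

end FrakL2

end Cfsg.Agent.Lib.Helper56
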