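import Cfsg.Agent.Lib.Helper56.FrakL2
import Cfsg.Agent.Lib.Helper7.SL2Sylow
import Mathlib

set_option autoImplicit false
open Cfsg
open Cfsg.Agent.Lib.Helper55 (cj mem_cj cj_eq_self_of_mem_normalizer mem_normalizer_of_cj_eq cj_mul)

namespace Cfsg.Agent.Lib.Helper56

section FrakL3

/-- every element which is not a `p`-element is a product of two elements of conjugates of `U`,
or is central and differs by a `p`-element from such a product which is not a `p`-element -/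
def FLGood {Q : Type*} [Group Q] (p : ℕ) (U : Subgroup Q) : Prop :=
  ∀ g : Q, (∀ k : ℕ, g ^ p ^ k ≠ 1) →
    (∃ c₁ c₂ v₁ v₂ : Q, v₁ ∈ cj c₁ U ∧ v₂ ∈ cj c₂ U ∧ g = v₁ * v₂) ∨
    ((∀ x : Q, x * g = g * x) ∧ ∃ x c₁ c₂ v₁ v₂ : Q, v₁ ∈ cj c₁ U ∧ v₂ ∈ cj c₂ U ∧ x = v₁ * v₂ ∧
      (∀ k : ℕ, x ^ p ^ k ≠ 1) ∧ ∃ k : ℕ, (x * g⁻¹) ^ p ^ k = 1)

theorem mem_cj_of_map {Q Q' : Type*} [Group Q] [Group Q'] (φ : Q ≃* Q') {U : Subgroup Q}
    {c v : Q'} (hv : v ∈ cj c (U.map φ.toMonoidHom)) : φ.symm v ∈ cj (φ.symm c) U := by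
  have h1 : (cj (φ.symm c) U).map φ.toMonoidHom = cj c (U.map φ.toMonoidHom) := by
    rw [map_cj']
    simp
  rw [← h1] at hv
  obtain ⟨w, hw, rfl⟩ := hv
  simpa using hw

theorem FLGood.of_equiv {Q Q' : Type*} [Group Q] [Group Q'] {p : ℕ} (φ : Q ≃* Q')
    {U : Subgroup Q} (h : FLGood p (U.map φ.toMonoidHom)) : FLGood p U := by
  intro g hg
  have hg' : ∀ k : ℕ, (φ g) ^ p ^ k ≠ 1 := by
    intro k hk
    apply hg k
    rw [← map_pow] at hk
    exact (MulEquiv.map_eq_one_iff φ).mp hk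
  rcases h (φ g) hg' with ⟨c₁, c₂, v₁, v₂, hv₁, hv₂, hprod⟩ | ⟨hcen, x, c₁, c₂, v₁, v₂, hv₁, hv₂, hx, hxk, k, hk⟩
  · left
    refine ⟨φ.symm c₁, φ.symm c₂, φ.symm v₁, φ.symm v₂, mem_cj_of_map φ hv₁, mem_cj_of_map φ hv₂, ?_⟩
    rw [← map_mul, ← hprod]
    simp
  · right
    constructor
    · intro y
      have := hcen (φ y)
      rw [← map_mul, ← map_mul] at this
      exact φ.injective this
    · refine ⟨φ.symm x, φ.symm c₁, φ.symm c₂, φ.symm v₁, φ.symm v₂, mem_cj_of_map φ hv₁,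
        mem_cj_of_map φ hv₂, ?_, ?_, k, ?_⟩
      · rw [← map_mul, ← hx]
      · intro j hj
        apply hxk j
        rw [← map_pow] at hj
        have := (MulEquiv.map_eq_one_iff φ.symm).mp hj
        exact this
      · apply φ.injective
        rw [map_pow, map_mul, map_inv]
        simpa using hk

variable {Λ : Type*} [Group Λ] [Finite Λ] {p : ℕ} [Fact p.Prime] {Y A : Subgroup Λ}
  [hAn : A.Normal]

theorem fl_of_good (h : FLData p Y A) (hgood : FLGood p (Y.map (QuotientGroup.mk' A)))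
    {hh : Λ} (hho : ¬ ∃ k : ℕ, orderOf hh = p ^ k)
    {a : Λ} (ha : a ∈ A) (hfix : hh * a * hh⁻¹ * a⁻¹ ∈ flC Y) : a ∈ flC Y := by
  have hnp : ∀ {y : Λ}, (¬ ∃ k : ℕ, orderOf y = p ^ k) →
      ∀ k : ℕ, (QuotientGroup.mk' A y) ^ p ^ k ≠ 1 := by
    intro y hy k hk
    apply hy
    rw [← map_pow, QuotientGroup.mk'_apply, QuotientGroup.eq_one_iff] at hk
    exact exists_orderOf_eq_of_pow_mem h.ap hk
  have hnp' : ∀ {y : Λ}, (∀ k : ℕ, (QuotientGroup.mk' A y) ^ p ^ k ≠ 1) →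
      ¬ ∃ k : ℕ, orderOf y = p ^ k := by
    rintro y hy ⟨k, hk⟩
    apply hy k
    rw [← map_pow, ← hk, pow_orderOf_eq_one, map_one]
  rcases hgood _ (hnp hho) with ⟨c₁, c₂, v₁, v₂, hv₁, hv₂, hprod⟩ |
    ⟨hcen, xq, c₁, c₂, v₁, v₂, hv₁, hv₂, hx, hxk, k, hk⟩
  · exact fl_quot h hho c₁ c₂ hv₁ hv₂ hprod ha hfix
  · obtain ⟨x, rfl⟩ := QuotientGroup.mk'_surjective A xq
    have hxo := hnp' hxk
    refine fl_central h (fun a ha b hb => fl_quot_comm h hxo c₁ c₂ hv₁ hv₂ hx ha hb)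
      (x := x) (z := hh) (fun a ha hf => fl_quot h hxo c₁ c₂ hv₁ hv₂ hx ha hf) ?_ ?_ ha hfix
    · rw [← map_inv, ← map_mul, ← map_pow, QuotientGroup.mk'_apply, QuotientGroup.eq_one_iff] at hk
      obtain ⟨j, hj⟩ := h.ap ⟨_, hk⟩
      refine ⟨k + j, ?_⟩
      have := congrArg Subtype.val hj
      rw [pow_add, pow_mul]
      simpa using this
    · rw [← QuotientGroup.eq_one_iff, ← QuotientGroup.mk'_apply, map_mul, map_mul, map_mul,
        map_inv, map_inv, hcen, mul_inv_cancel_right, mul_inv_cancel]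

end FrakL3

end Cfsg.Agent.Lib.Helper56
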