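import Cfsg.Agent.Lib.Helper56.FrakL3
import Mathlib

set_option autoImplicit false
open Cfsg
open Cfsg.Agent.Lib.Helper55 (cj mem_cj)
open Cfsg.Agent.Lib.Helper7 (tu tl tu_coe tl_coe tu_inv sl2_det USLSylow exists_smul_USLSylow
  mem_smul_USLSylow_iff card_USL tu_add tu_zero)
open Matrix Matrix.SpecialLinearGroup

namespace Cfsg.Agent.Lib.Helper56

section FrakL4

variable {F : Type*} [Field F]

/-- conjugate of an upper transvection -/
def SLUni (v : SpecialLinearGroup (Fin 2) F) : Prop :=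
  ∃ (e : SpecialLinearGroup (Fin 2) F) (s : F), v = e * tu s * e⁻¹

theorem SLUni.conj {v : SpecialLinearGroup (Fin 2) F} (h : SLUni v)
    (c : SpecialLinearGroup (Fin 2) F) : SLUni (c * v * c⁻¹) := by
  obtain ⟨e, s, rfl⟩ := h
  exact ⟨c * e, s, by group⟩

theorem sl2_sq_of_trace_two (u : SpecialLinearGroup (Fin 2) F) (ht : u 0 0 + u 1 1 = 2) :
    (u : Matrix (Fin 2) (Fin 2) F) * (u : Matrix (Fin 2) (Fin 2) F) =
      (2 : F) • (u : Matrix (Fin 2) (Fin 2) F) - 1 := by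
  have hdet := sl2_det u
  ext i j
  fin_cases i <;> fin_cases j <;> simp [Matrix.mul_apply, Fin.sum_univ_two]
  · linear_combination (u 0 0) * ht - hdet
  · linear_combination (u 0 1) * ht
  · linear_combination (u 1 0) * ht
  · linear_combination (u 1 1) * ht - hdet

theorem sl2_pow_of_trace_two (u : SpecialLinearGroup (Fin 2) F) (ht : u 0 0 + u 1 1 = 2) (n : ℕ) :
    (u : Matrix (Fin 2) (Fin 2) F) ^ n = (n : F) • (u : Matrix (Fin 2) (Fin 2) F) -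
      ((n : F) - 1) • (1 : Matrix (Fin 2) (Fin 2) F) := by
  induction n with
  | zero => simp
  | succ n ih =>
    rw [pow_succ, ih, sub_mul, smul_mul_assoc, smul_mul_assoc, sl2_sq_of_trace_two u ht, one_mul]
    push_cast
    module

theorem sl2_pow_p_of_trace_two (p : ℕ) [CharP F p] (u : SpecialLinearGroup (Fin 2) F)
    (ht : u 0 0 + u 1 1 = 2) : u ^ p = 1 := by
  apply Subtype.ext
  show (u : Matrix (Fin 2) (Fin 2) F) ^ p = 1
  rw [sl2_pow_of_trace_two u ht, CharP.cast_eq_zero]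
  simp

theorem sluni_of_trace_two [Fintype F] (p : ℕ) [Fact p.Prime] [CharP F p]
    (u : SpecialLinearGroup (Fin 2) F) (ht : u 0 0 + u 1 1 = 2) : SLUni u := by
  have hup := sl2_pow_p_of_trace_two p u ht
  have hpg : IsPGroup p (Subgroup.zpowers u) := by
    rintro ⟨x, hx⟩
    obtain ⟨n, rfl⟩ := Subgroup.mem_zpowers_iff.mp hx
    refine ⟨1, ?_⟩
    apply Subtype.ext
    simp only [pow_one, Subgroup.coe_pow, Subgroup.coe_one]
    rw [← zpow_natCast, ← _root_.zpow_mul, mul_comm, _root_.zpow_mul, zpow_natCast, hup, _root_.one_zpow]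
  obtain ⟨P, hP⟩ := hpg.exists_le_sylow
  obtain ⟨c, rfl⟩ := exists_smul_USLSylow p P
  obtain ⟨t, ht⟩ := (mem_smul_USLSylow_iff p c u).mp (hP (Subgroup.mem_zpowers u))
  exact ⟨c, t, ht⟩

theorem sl2_prod_uni_of_lower [Fintype F] (p : ℕ) [Fact p.Prime] [CharP F p]
    (g : SpecialLinearGroup (Fin 2) F) (hc : g 1 0 ≠ 0) :
    ∃ v₁ v₂ : SpecialLinearGroup (Fin 2) F, SLUni v₁ ∧ SLUni v₂ ∧ g = v₁ * v₂ := by
  obtain ⟨t, ht⟩ : ∃ t : F, t = (g 0 0 + g 1 1 - 2) / g 1 0 := ⟨_, rfl⟩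
  refine ⟨tu t, tu (-t) * g, ⟨1, t, by simp⟩, sluni_of_trace_two p _ ?_, ?_⟩
  · show ((tu (-t) * g : SpecialLinearGroup (Fin 2) F) : Matrix (Fin 2) (Fin 2) F) 0 0 +
      ((tu (-t) * g : SpecialLinearGroup (Fin 2) F) : Matrix (Fin 2) (Fin 2) F) 1 1 = 2
    simp [tu_coe, Matrix.mul_apply, Fin.sum_univ_two]
    rw [ht]
    field_simp
    ring
  · rw [← mul_assoc, ← tu_inv, mul_inv_cancel, one_mul]

theorem sl2_prod_uni_of_upper [Fintype F] (p : ℕ) [Fact p.Prime] [CharP F p]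
    (g : SpecialLinearGroup (Fin 2) F) (hc : g 0 1 ≠ 0) :
    ∃ v₁ v₂ : SpecialLinearGroup (Fin 2) F, SLUni v₁ ∧ SLUni v₂ ∧ g = v₁ * v₂ := by
  obtain ⟨t, ht⟩ : ∃ t : F, t = (g 0 0 + g 1 1 - 2) / g 0 1 := ⟨_, rfl⟩
  have h1 : tl t * tl (-t) = (1 : SpecialLinearGroup (Fin 2) F) := by
    apply Subtype.ext
    ext i j
    fin_cases i <;> fin_cases j <;> simp [tl_coe, Matrix.mul_apply, Fin.sum_univ_two]
  refine ⟨tl t, tl (-t) * g, sluni_of_trace_two p _ ?_, sluni_of_trace_two p _ ?_, ?_⟩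
  · show ((tl t : SpecialLinearGroup (Fin 2) F) : Matrix (Fin 2) (Fin 2) F) 0 0 +
      ((tl t : SpecialLinearGroup (Fin 2) F) : Matrix (Fin 2) (Fin 2) F) 1 1 = 2
    simp [tl_coe]
    norm_num
  · show ((tl (-t) * g : SpecialLinearGroup (Fin 2) F) : Matrix (Fin 2) (Fin 2) F) 0 0 +
      ((tl (-t) * g : SpecialLinearGroup (Fin 2) F) : Matrix (Fin 2) (Fin 2) F) 1 1 = 2
    simp [tl_coe, Matrix.mul_apply, Fin.sum_univ_two]
    rw [ht]
    field_simp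
    ring
  · rw [← mul_assoc, h1, one_mul]

theorem sl2_prod_uni [Fintype F] (p : ℕ) [Fact p.Prime] [CharP F p]
    (g : SpecialLinearGroup (Fin 2) F) (hns : ¬ (g 1 0 = 0 ∧ g 0 1 = 0 ∧ g 0 0 = g 1 1)) :
    ∃ v₁ v₂ : SpecialLinearGroup (Fin 2) F, SLUni v₁ ∧ SLUni v₂ ∧ g = v₁ * v₂ := by
  by_cases h10 : g 1 0 = 0
  · by_cases h01 : g 0 1 = 0
    · have hd : g 0 0 ≠ g 1 1 := fun h => hns ⟨h10, h01, h⟩
      have hne : (tu 1 * g * (tu 1)⁻¹ : SpecialLinearGroup (Fin 2) F) 0 1 ≠ 0 := by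
        show ((tu 1 * g * (tu 1)⁻¹ : SpecialLinearGroup (Fin 2) F) :
          Matrix (Fin 2) (Fin 2) F) 0 1 ≠ 0
        rw [tu_inv]
        simp [tu_coe, Matrix.mul_apply, Fin.sum_univ_two, Matrix.vecMul, dotProduct, h10, h01]
        intro h
        apply hd
        linear_combination -h
      obtain ⟨v₁, v₂, hv₁, hv₂, hprod⟩ := sl2_prod_uni_of_upper p _ hne
      refine ⟨(tu 1)⁻¹ * v₁ * ((tu 1)⁻¹)⁻¹, (tu 1)⁻¹ * v₂ * ((tu 1)⁻¹)⁻¹, hv₁.conj _, hv₂.conj _, ?_⟩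
      have : g = (tu 1)⁻¹ * (tu 1 * g * (tu 1)⁻¹) * tu 1 := by group
      rw [this, hprod]
      group
    · exact sl2_prod_uni_of_upper p g h01
  · exact sl2_prod_uni_of_lower p g h10

theorem sl2_good [Fintype F] (p : ℕ) [Fact p.Prime] [CharP F p]
    (V : Subgroup (SpecialLinearGroup (Fin 2) F)) (hV : IsPGroup p V)
    (hcard : Nat.card V = Fintype.card F) : FLGood p V := by
  obtain ⟨P, hP⟩ := hV.exists_le_sylow
  obtain ⟨c₀, rfl⟩ := exists_smul_USLSylow p P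
  have hcardP : Nat.card ((c₀ • USLSylow p : Sylow p (SpecialLinearGroup (Fin 2) F)) :
      Subgroup (SpecialLinearGroup (Fin 2) F)) = Fintype.card F := by
    rw [← Nat.card_congr ((USLSylow p).equivSMul c₀).toEquiv]
    exact card_USL
  have hVeq : V = ((c₀ • USLSylow p : Sylow p (SpecialLinearGroup (Fin 2) F)) :
      Subgroup (SpecialLinearGroup (Fin 2) F)) :=
    Subgroup.eq_of_le_of_card_ge hP (by rw [hcardP, hcard])
  have huni : ∀ v : SpecialLinearGroup (Fin 2) F, SLUni v → ∃ c, v ∈ cj c V := by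
    rintro v ⟨e, s, rfl⟩
    refine ⟨e * c₀⁻¹, ?_⟩
    rw [mem_cj, hVeq, mem_smul_USLSylow_iff]
    exact ⟨s, by group⟩
  have hprod : ∀ g : SpecialLinearGroup (Fin 2) F, ¬ (g 1 0 = 0 ∧ g 0 1 = 0 ∧ g 0 0 = g 1 1) →
      ∃ c₁ c₂ v₁ v₂ : SpecialLinearGroup (Fin 2) F, v₁ ∈ cj c₁ V ∧ v₂ ∈ cj c₂ V ∧ g = v₁ * v₂ := by
    intro g hg
    obtain ⟨v₁, v₂, hv₁, hv₂, hp⟩ := sl2_prod_uni p g hg
    obtain ⟨c₁, hc₁⟩ := huni v₁ hv₁
    obtain ⟨c₂, hc₂⟩ := huni v₂ hv₂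
    exact ⟨c₁, c₂, v₁, v₂, hc₁, hc₂, hp⟩
  intro g hg
  by_cases hns : g 1 0 = 0 ∧ g 0 1 = 0 ∧ g 0 0 = g 1 1
  · right
    obtain ⟨h10, h01, h00⟩ := hns
    have hdet := sl2_det g
    rw [h10, mul_zero, sub_zero, ← h00] at hdet
    have hcen : ∀ x : SpecialLinearGroup (Fin 2) F, x * g = g * x := by
      intro x
      apply Subtype.ext
      ext i j
      fin_cases i <;> fin_cases j <;>
        simp [Matrix.mul_apply, Fin.sum_univ_two, h10, h01, ← h00, mul_comm]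
    refine ⟨hcen, ?_⟩
    have htu : (tu (1 : F)) ^ p = 1 := by
      apply sl2_pow_p_of_trace_two p
      show ((tu (1 : F) : SpecialLinearGroup (Fin 2) F) : Matrix (Fin 2) (Fin 2) F) 0 0 +
        ((tu (1 : F) : SpecialLinearGroup (Fin 2) F) : Matrix (Fin 2) (Fin 2) F) 1 1 = 2
      simp [tu_coe]
      norm_num
    have hx01 : ¬ ((g * tu 1 : SpecialLinearGroup (Fin 2) F) 1 0 = 0 ∧
        (g * tu 1 : SpecialLinearGroup (Fin 2) F) 0 1 = 0 ∧
        (g * tu 1 : SpecialLinearGroup (Fin 2) F) 0 0 =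
          (g * tu 1 : SpecialLinearGroup (Fin 2) F) 1 1) := by
      rintro ⟨-, h, -⟩
      have h' : ((g * tu 1 : SpecialLinearGroup (Fin 2) F) : Matrix (Fin 2) (Fin 2) F) 0 1 = 0 := h
      simp [tu_coe, Matrix.mul_apply, Fin.sum_univ_two, h01] at h'
      rw [h'] at hdet
      simp at hdet
    obtain ⟨c₁, c₂, v₁, v₂, hv₁, hv₂, hp⟩ := hprod (g * tu 1) hx01
    have hcomm : Commute g (tu 1) := (hcen (tu 1)).symm
    refine ⟨g * tu 1, c₁, c₂, v₁, v₂, hv₁, hv₂, hp, ?_, 1, ?_⟩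
    · intro k hk
      apply hg (k + 1)
      have h2 : (g * tu 1) ^ p ^ (k + 1) = 1 := by
        rw [pow_succ, pow_mul, hk, one_pow]
      rw [hcomm.mul_pow, pow_succ (n := k), mul_comm (p ^ k) p, pow_mul (tu (1 : F)), htu, one_pow,
        mul_one, mul_comm p (p ^ k), ← pow_succ] at h2
      exact h2
    · have : g * tu 1 * g⁻¹ = tu 1 := by
        rw [← hcen (tu 1), mul_inv_cancel_right]
      rw [this, pow_one, htu]
  · left
    exact hprod g hns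

end FrakL4

end Cfsg.Agent.Lib.Helper56
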