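import Cfsg.Agent.Lib.Helper56.FrakL4
import Cfsg.Agent.Lib.Helper8.Sz38
import Cfsg.Agent.Lib.Helper45.SzU
import Cfsg.Agent.Lib.Helper27.SzBridge
import Mathlib

set_option autoImplicit false
open Cfsg
open Cfsg.Agent.Lib.Helper55 (cj mem_cj)

namespace Cfsg.Agent.Lib.Helper56

section FrakL5

open Cfsg.Agent.Lib.Helper8.Sz in
theorem sz_good {F : Type*} [Field F] [Fintype F] {m : ℕ} (hm : 1 ≤ m)
    (hF : Fintype.card F = 2 ^ (2 * m + 1)) (V : Subgroup ↥(Cfsg.Sz F m))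
    (hexp : ∀ v ∈ V, v * v = 1) (hcard : Nat.card V = 2 ^ (2 * m + 1)) : FLGood 2 V := by
  classical
  have hVp : IsPGroup 2 V := by
    rintro ⟨v, hv⟩
    refine ⟨1, ?_⟩
    apply Subtype.ext
    simp only [pow_one, Subgroup.coe_pow, Subgroup.coe_one]
    rw [pow_two]
    exact hexp v hv
  obtain ⟨P, hP⟩ := hVp.exists_le_sylow
  obtain ⟨x, hx⟩ := Cfsg.Agent.Lib.Helper45.SzU.exists_conj_mem_U hm hF P
  have hVT : ∀ v : V, ∃ b : F, x⁻¹ * (v : ↥(Cfsg.Sz F m)) * x = TS hF 0 b := by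
    rintro ⟨v, hv⟩
    by_cases hv1 : v = 1
    · subst hv1
      exact ⟨0, by rw [TS_zero]; group⟩
    · have h1 : x⁻¹ * v * x ∈ Cfsg.Agent.Lib.Helper45.SzU.U hF := (hx v).mp (hP hv)
      obtain ⟨a, b, hab⟩ := h1
      have h2 : x⁻¹ * v * x = TS hF a b := Subtype.ext hab
      have h3 : x⁻¹ * v * x ∈ Bsub F m := by
        rw [h2]
        exact TS_mem_Bsub hF a b
      have h4 : x⁻¹ * v * x ≠ 1 := by
        intro h
        apply hv1
        have : v = x * (x⁻¹ * v * x) * x⁻¹ := by group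
        rw [this, h]
        group
      have h5 : (x⁻¹ * v * x) * (x⁻¹ * v * x) = 1 := by
        have : (x⁻¹ * v * x) * (x⁻¹ * v * x) = x⁻¹ * (v * v) * x := by group
        rw [this, hexp v hv]
        group
      obtain ⟨b', -, hb'⟩ := involution_Bsub hF hm h3 h4 h5
      exact ⟨b', hb'⟩
  choose f hf using hVT
  have hfinj : Function.Injective f := by
    intro v v' hvv
    have h1 := hf v
    rw [hvv, ← hf v'] at h1
    apply Subtype.ext
    have : (v : ↥(Cfsg.Sz F m)) = x * (x⁻¹ * v * x) * x⁻¹ := by group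
    rw [this, h1]
    group
  have hfbij : Function.Bijective f := by
    apply Function.Injective.bijective_of_nat_card_le hfinj
    rw [hcard, Nat.card_eq_fintype_card, hF]
  have hinv : ∀ z : ↥(Cfsg.Sz F m), z ≠ 1 → z * z = 1 → ∃ c, z ∈ cj c V := by
    intro z hz1 hzz
    obtain ⟨c, b, -, rfl⟩ := involution_conj hF hm hz1 hzz
    obtain ⟨v, rfl⟩ := hfbij.2 b
    refine ⟨c * x⁻¹, ?_⟩
    rw [mem_cj, ← hf v]
    have : (c * x⁻¹)⁻¹ * (c * (x⁻¹ * (v : ↥(Cfsg.Sz F m)) * x) * c⁻¹) * (c * x⁻¹) = v := by group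
    rw [this]
    exact v.2
  intro g hg
  left
  have hg4 : g ^ 4 ≠ 1 := by
    have h := hg 2
    norm_num at h
    exact h
  obtain ⟨s, hs1, hss, hsg⟩ := exists_inverting hF hm hg4
  have hsinv : s⁻¹ = s := inv_eq_of_mul_eq_one_left hss
  have h2 : (s * g) * (s * g) = 1 := by
    have : (s * g) * (s * g) = (s * g * s⁻¹) * (s * s) * g := by group
    rw [this, hsg, hss]
    group
  have h3 : s * g ≠ 1 := by
    intro h
    have hgs : g = s := by
      have : g = s⁻¹ * (s * g) := by group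
      rw [this, h, mul_one, hsinv]
    apply hg 1
    rw [pow_one, pow_two, hgs, hss]
  obtain ⟨c₁, hc₁⟩ := hinv s hs1 hss
  obtain ⟨c₂, hc₂⟩ := hinv (s * g) h3 h2
  refine ⟨c₁, c₂, s, s * g, hc₁, hc₂, ?_⟩
  rw [← mul_assoc, hss, one_mul]

variable {Λ : Type*} [Group Λ] [Finite Λ] {p : ℕ} [Fact p.Prime] {Y A : Subgroup Λ}
  [hAn : A.Normal]

theorem fl_final (h : FLData p Y A) (hYexp : ∀ y ∈ Y, y ^ p = 1)
    (hcase : (∃ (F : Type) (_ : Field F) (_ : Fintype F),
        Fintype.card F = Nat.card (Y.map (QuotientGroup.mk' A)) ∧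
          Nonempty (Λ ⧸ A ≃* Matrix.SpecialLinearGroup (Fin 2) F)) ∨
      (p = 2 ∧ ∃ (F : Type) (_ : Field F) (_ : Fintype F) (m : ℕ),
        Fintype.card F = 2 ^ (2 * m + 1) ∧
          Fintype.card F = Nat.card (Y.map (QuotientGroup.mk' A)) ∧
            Nonempty (Λ ⧸ A ≃* ↥(Lie.Sz F (2 ^ (m + 1))))) ∨
      (p = 2 ∧ ∃ r : ℕ, r.Prime ∧ r ≠ 2 ∧ Nonempty (Λ ⧸ A ≃* DihedralGroup r)))
    {hh : Λ} (hho : ¬ ∃ k : ℕ, orderOf hh = p ^ k)
    {a : Λ} (ha : a ∈ A) (hfix : hh * a * hh⁻¹ * a⁻¹ ∈ flC Y) : a ∈ flC Y := by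
  have hp : p.Prime := Fact.out
  have hUp : IsPGroup p (Y.map (QuotientGroup.mk' A)) := h.yp.map _
  rcases hcase with ⟨F, _, _, hcard, ⟨φ⟩⟩ | ⟨rfl, F, _, _, m, hF, hcard, ⟨φ⟩⟩ | ⟨rfl, r, hr, hr2, ⟨φ⟩⟩
  · -- SL₂
    obtain ⟨q, hq⟩ := CharP.exists F
    have : Fact q.Prime := ⟨CharP.char_is_prime F q⟩
    obtain ⟨n, hqp, hn⟩ := FiniteField.card F q
    obtain ⟨k, hk⟩ := IsPGroup.iff_card.mp hUp
    have hqdvd : q ∣ p ^ k := by
      rw [← hk, ← hcard, hn]
      exact dvd_pow_self q n.pos.ne'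
    have hqp' : q = p := (Nat.prime_dvd_prime_iff_eq hqp hp).mp (hqp.dvd_of_dvd_pow hqdvd)
    subst hqp'
    have hgood : FLGood q ((Y.map (QuotientGroup.mk' A)).map φ.toMonoidHom) := by
      apply sl2_good q _ (hUp.map _)
      rw [Subgroup.card_map_of_injective φ.injective, hcard]
    exact fl_of_good h (FLGood.of_equiv φ hgood) hho ha hfix
  · -- Suzuki
    rcases Nat.eq_zero_or_pos m with rfl | hm
    · apply fl_two h _ hho ha hfix
      rw [← hcard, hF]
      norm_num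
    · have hexp : ∀ v ∈ (Y.map (QuotientGroup.mk' A)).map
          (φ.trans (Cfsg.Agent.Lib.Helper27.SzBridge.szEquiv hF hm).symm).toMonoidHom, v * v = 1 := by
        rintro _ ⟨_, ⟨y, hy, rfl⟩, rfl⟩
        rw [← map_mul, ← map_mul, ← pow_two, hYexp y hy, map_one, map_one]
      have hgood : FLGood 2 ((Y.map (QuotientGroup.mk' A)).map
          (φ.trans (Cfsg.Agent.Lib.Helper27.SzBridge.szEquiv hF hm).symm).toMonoidHom) := by
        apply sz_good hm hF _ hexp
        rw [Subgroup.card_map_of_injective (MulEquiv.injective _), ← hcard, hF]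
      exact fl_of_good h (FLGood.of_equiv _ hgood) hho ha hfix
  · -- dihedral
    apply fl_two h _ hho ha hfix
    obtain ⟨k, hk⟩ := IsPGroup.iff_card.mp hUp
    have hcardQ : Nat.card (Λ ⧸ A) = 2 * r := by
      rw [Nat.card_congr φ.toEquiv, DihedralGroup.nat_card]
    have hdvd : 2 ^ k ∣ 2 * r := by
      rw [← hk, ← hcardQ]
      exact Subgroup.card_subgroup_dvd_card _
    have hk1 : k ≤ 1 := by
      by_contra hcon
      push Not at hcon
      have h4 : 2 ^ 2 ∣ 2 * r := (pow_dvd_pow 2 hcon).trans hdvd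
      have h2r : 2 ∣ r := by
        have : 2 * 2 ∣ 2 * r := by simpa using h4
        exact (Nat.mul_dvd_mul_iff_left (by norm_num)).mp this
      exact hr2 ((Nat.prime_dvd_prime_iff_eq Nat.prime_two hr).mp h2r).symm
    rcases Nat.le_one_iff_eq_zero_or_eq_one.mp hk1 with rfl | rfl
    · exfalso
      rw [pow_zero] at hk
      have hbot : Y.map (QuotientGroup.mk' A) = ⊥ := Subgroup.card_eq_one.mp hk
      have hYA : Y ≤ A := by
        intro y hy
        have : QuotientGroup.mk' A y ∈ (⊥ : Subgroup (Λ ⧸ A)) := by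
          rw [← hbot]
          exact Subgroup.mem_map_of_mem _ hy
        rw [Subgroup.mem_bot, QuotientGroup.mk'_apply, QuotientGroup.eq_one_iff] at this
        exact this
      have hAtop : A = ⊤ := by
        rw [eq_top_iff, ← h.gen]
        exact Subgroup.normalClosure_le_normal hYA
      have hc1 : Nat.card (Λ ⧸ A) = 1 := by
        rw [← Subgroup.index_eq_card, hAtop, Subgroup.index_top]
      rw [hcardQ] at hc1
      have := hr.two_le
      omega
    · rw [hk, pow_one]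

end FrakL5

end Cfsg.Agent.Lib.Helper56
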