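import Cfsg.Agent.Lib.Helper56.FrakL5
import Cfsg.Agent.Lib.Helper55.PRed
import Mathlib

set_option autoImplicit false
open Cfsg
open Cfsg.Agent.Lib.Helper55 (pred_largestPReducedOf elemAb_iff)

namespace Cfsg.Agent.Lib.Helper56

section FrakL6

theorem fl_glue {G : Type*} [Group G] [Finite G] {p : ℕ} [Fact p.Prime] (M L : Subgroup G)
    (hL : Cfsg.IsInFrakL p M L) (h : G) (hh : h ∈ L) (hnp : ¬ ∃ k : ℕ, orderOf h = p ^ k) :
    ∀ a ∈ Cfsg.pCoreOf p L,
      h * a * h⁻¹ * a⁻¹ ∈ Cfsg.largestPReducedOf p M ⊓ Subgroup.centralizer ((L : Subgroup G) : Set G) →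
      a ∈ Cfsg.largestPReducedOf p M ⊓ Subgroup.centralizer ((L : Subgroup G) : Set G) := by
  obtain ⟨hYL, hAcl, hAN, ⟨hgen, -⟩, -, ⟨-, hmax⟩, hcase⟩ := hL
  have hpred := pred_largestPReducedOf (p := p) M
  have hYe := (elemAb_iff _).mp hpred.elemAb
  obtain ⟨Y₀, hY₀⟩ : ∃ Y₀ : Subgroup G, Y₀ = Cfsg.largestPReducedOf p M := ⟨_, rfl⟩
  rw [← hY₀] at hYL hAcl hAN hgen hmax hcase hYe ⊢
  have hY₀p : IsPGroup p Y₀ := by
    rw [hY₀]
    exact hpred.isPGroup
  have hAn : (Cfsg.pCore p ↥L).Normal := Cfsg.Agent.Lib.Helper55.pCore_normal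
  have hAp : IsPGroup p (Cfsg.pCore p ↥L) := Cfsg.Agent.Lib.Helper55.pCore_isPGroup
  have hmapY : (Y₀.subgroupOf L).map L.subtype = Y₀ := Subgroup.map_subgroupOf_eq_of_le hYL
  have hdata : FLData p (Y₀.subgroupOf L) (Cfsg.pCore p ↥L) := by
    refine ⟨?_, ?_, hAp, hAn, ?_, ?_, hgen, ?_, ?_⟩
    · intro a ha b hb
      apply Subtype.ext
      exact hYe.1 a ha b hb
    · exact hY₀p.comap_subtype
    · have h1 : (Y₀ ⊓ Cfsg.pCoreOf p L).subgroupOf L = Y₀.subgroupOf L ⊓ Cfsg.pCore p ↥L := by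
        ext x
        rw [Subgroup.mem_subgroupOf, Subgroup.mem_inf, Subgroup.mem_inf, Subgroup.mem_subgroupOf]
        constructor
        · rintro ⟨hx1, hx2⟩
          refine ⟨hx1, ?_⟩
          obtain ⟨y, hy, hyx⟩ := hx2
          have : y = x := Subtype.ext hyx
          rwa [← this]
        · rintro ⟨hx1, hx2⟩
          exact ⟨hx1, Subgroup.mem_map_of_mem _ hx2⟩
      intro a ha
      have h2 : (a : G) ∈ Cfsg.pCoreOf p L := Subgroup.mem_map_of_mem L.subtype ha
      rw [hAcl] at h2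
      obtain ⟨b, hb, hba⟩ := h2
      have : b = a := Subtype.ext hba
      rw [← this, ← h1]
      exact hb
    · intro a ha
      have h2 : (a : G) ∈ Subgroup.normalizer (Y₀ : Set G) :=
        hAN (Subgroup.mem_map_of_mem L.subtype ha)
      rw [Subgroup.mem_normalizer_iff] at h2 ⊢
      intro x
      exact h2 x
    · intro X hYX hXtop
      have h1 : Y₀ ≤ X.map L.subtype := by
        rw [← hmapY]
        exact Subgroup.map_mono hYX
      have h2 : X.map L.subtype < L := by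
        refine lt_of_le_of_ne (Subgroup.map_subtype_le _) ?_
        intro heq
        apply hXtop
        rw [eq_top_iff]
        intro x _
        have hx : (x : G) ∈ X.map L.subtype := by
          rw [heq]
          exact x.2
        obtain ⟨y, hy, hyx⟩ := hx
        have : y = x := Subtype.ext hyx
        rwa [← this]
      have h3 := hmax _ h1 h2
      intro x hx
      have h4 : (x : G) ∈ Subgroup.normalizer (Y₀ : Set G) :=
        (Subgroup.mem_inf.mp (h3 (Subgroup.mem_map_of_mem L.subtype hx))).2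
      rw [Subgroup.mem_normalizer_iff] at h4 ⊢
      intro y
      exact h4 y
    · intro N hN hNp
      exact Cfsg.Agent.Lib.Helper55.le_pCore hN hNp
  have hcardU : Nat.card ((Y₀.subgroupOf L).map (QuotientGroup.mk' (Cfsg.pCore p ↥L))) =
      (Y₀ ⊓ Cfsg.pCoreOf p L).relIndex Y₀ := by
    rw [← Subgroup.relIndex_ker, QuotientGroup.ker_mk', Subgroup.inf_relIndex_left]
    have h1 := Subgroup.relIndex_map_map_of_injective (Cfsg.pCore p ↥L) (Y₀.subgroupOf L)
      (Subgroup.subtype_injective L)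
    rw [hmapY] at h1
    exact h1.symm
  rw [← hcardU] at hcase
  have hexp : ∀ y ∈ Y₀.subgroupOf L, y ^ p = 1 := by
    intro y hy
    apply Subtype.ext
    rw [Subgroup.coe_pow]
    exact hYe.2 y hy
  intro a ha hfix
  obtain ⟨a', ha', rfl⟩ := ha
  have hho : ¬ ∃ k : ℕ, orderOf (⟨h, hh⟩ : ↥L) = p ^ k := by
    rw [← Subgroup.orderOf_coe]
    exact hnp
  have hfix' : (⟨h, hh⟩ : ↥L) * a' * (⟨h, hh⟩ : ↥L)⁻¹ * a'⁻¹ ∈ flC (Y₀.subgroupOf L) := by
    refine Subgroup.mem_inf.mpr ⟨(Subgroup.mem_inf.mp hfix).1, ?_⟩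
    rw [Subgroup.mem_center_iff]
    intro g
    apply Subtype.ext
    exact Subgroup.mem_centralizer_iff.mp (Subgroup.mem_inf.mp hfix).2 g g.2
  have hres := fl_final hdata hexp hcase hho ha' hfix'
  refine Subgroup.mem_inf.mpr ⟨(Subgroup.mem_inf.mp hres).1, ?_⟩
  rw [Subgroup.mem_centralizer_iff]
  intro g hg
  have := Subgroup.mem_center_iff.mp (Subgroup.mem_inf.mp hres).2 ⟨g, hg⟩
  exact congrArg Subtype.val this

end FrakL6

end Cfsg.Agent.Lib.Helper56
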