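import Mathlib

set_option autoImplicit false

namespace Cfsg.Agent.Lib.Helper56

theorem zmod_parity (k : ℕ) (x : ZMod (2 ^ k)) : ∃ y : ZMod (2 ^ k), x = 2 * y ∨ x = 2 * y + 1 := by
  haveI : NeZero (2 ^ k) := ⟨by positivity⟩
  refine ⟨((x.val / 2 : ℕ) : ZMod (2 ^ k)), ?_⟩
  rcases Nat.mod_two_eq_zero_or_one x.val with h | h
  · left
    have e : x.val = 2 * (x.val / 2) := by omega
    calc x = ((x.val : ℕ) : ZMod (2 ^ k)) := (ZMod.natCast_zmod_val x).symm
      _ = ((2 * (x.val / 2) : ℕ) : ZMod (2 ^ k)) := by rw [← e]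
      _ = 2 * ((x.val / 2 : ℕ) : ZMod (2 ^ k)) := by push_cast; ring
  · right
    have e : x.val = 2 * (x.val / 2) + 1 := by omega
    calc x = ((x.val : ℕ) : ZMod (2 ^ k)) := (ZMod.natCast_zmod_val x).symm
      _ = ((2 * (x.val / 2) + 1 : ℕ) : ZMod (2 ^ k)) := by rw [← e]
      _ = 2 * ((x.val / 2 : ℕ) : ZMod (2 ^ k)) + 1 := by push_cast; ring

theorem zmod_two_pow (k : ℕ) : (2 : ZMod (2 ^ k)) ^ k = 0 := by
  have := ZMod.natCast_self (2 ^ k)
  push_cast at this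
  exact this

theorem zmod_isUnit_one_add (k : ℕ) (y : ZMod (2 ^ k)) : IsUnit (1 + 2 * y) := by
  apply IsNilpotent.isUnit_one_add
  exact ⟨k, by rw [mul_pow, zmod_two_pow, zero_mul]⟩

theorem zmod_two_mul_eq_zero (k : ℕ) (hk : 1 ≤ k) (x : ZMod (2 ^ k)) (h : 2 * x = 0) :
    x = 0 ∨ x = 2 ^ (k - 1) := by
  haveI : NeZero (2 ^ k) := ⟨by positivity⟩
  have hx : ((x.val : ℕ) : ZMod (2 ^ k)) = x := ZMod.natCast_zmod_val x
  have h2 : ((2 * x.val : ℕ) : ZMod (2 ^ k)) = 0 := by push_cast; rw [hx]; exact h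
  have hd : 2 ^ k ∣ 2 * x.val := (ZMod.natCast_eq_zero_iff _ _).mp h2
  have hlt : x.val < 2 ^ k := ZMod.val_lt x
  have hk' : 2 ^ k = 2 * 2 ^ (k - 1) := by
    conv_lhs => rw [show k = (k - 1) + 1 by omega]
    rw [pow_succ]; ring
  obtain ⟨n, hn⟩ : ∃ n, x.val = n := ⟨_, rfl⟩
  rw [hn] at hd hlt hx
  rw [hk'] at hd hlt
  have hd' : 2 ^ (k - 1) ∣ n := Nat.dvd_of_mul_dvd_mul_left (by norm_num) hd
  obtain ⟨m, hm⟩ := hd'
  have hm2 : m < 2 := by
    by_contra hcon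
    push Not at hcon
    have : 2 ^ (k - 1) * 2 ≤ 2 ^ (k - 1) * m := Nat.mul_le_mul_left _ hcon
    omega
  interval_cases m
  · left
    rw [← hx, hm]; simp
  · right
    rw [← hx, hm]; simp


section mat
variable {R : Type*} [CommRing R]

/-- companion matrix of `x² + x + 1` -/
def cMat (R : Type*) [CommRing R] : Matrix (Fin 2) (Fin 2) R := !![0, -1; 1, -1]

theorem cMat_cube : cMat R * (cMat R * cMat R) = 1 := by
  simp [cMat, Matrix.one_fin_two]

theorem cMat_cube' : cMat R * cMat R * cMat R = 1 := by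
  rw [mul_assoc]; exact cMat_cube

/-- the companion matrix as an element of `GL₂` -/
def cUnit (R : Type*) [CommRing R] : GL (Fin 2) R := ⟨cMat R, cMat R * cMat R, cMat_cube, cMat_cube'⟩

theorem invol_entries (V : Matrix (Fin 2) (Fin 2) R) (h1 : V * V = 1)
    (h2 : V * (cMat R * V * (cMat R * cMat R)) = cMat R * cMat R * V * cMat R) :
    V 0 0 = V 1 1 ∧ 2 * (V 0 0 - 1) = 0 ∧ 2 * V 1 0 = 0 ∧ V 0 1 = (V 0 0 - 1) + V 1 0 := by
  have hA00 := congrFun (congrFun h1 0) 0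
  have hA01 := congrFun (congrFun h1 0) 1
  have hA10 := congrFun (congrFun h1 1) 0
  have hA11 := congrFun (congrFun h1 1) 1
  have hB00 := congrFun (congrFun h2 0) 0
  have hB01 := congrFun (congrFun h2 0) 1
  have hB10 := congrFun (congrFun h2 1) 0
  have hB11 := congrFun (congrFun h2 1) 1
  simp only [cMat, Matrix.mul_apply, Fin.sum_univ_two, Matrix.one_apply_eq, Matrix.of_apply,
    Matrix.cons_val', Matrix.cons_val_zero, Matrix.cons_val_one, Matrix.cons_val_fin_one,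
    Matrix.empty_val', ne_eq, not_false_eq_true, Matrix.one_apply_ne, zero_ne_one, one_ne_zero,
    Fin.isValue] at hA00 hA01 hA10 hA11 hB00 hB01 hB10 hB11
  generalize V 0 0 = a at *
  generalize V 0 1 = b at *
  generalize V 1 0 = c at *
  generalize V 1 1 = d at *
  refine ⟨?_, ?_, ?_, ?_⟩
  · linear_combination (-2) * hA00 + (2*a + b - 2*c - d - 2) * hA01 + (-2*a + 2) * hA10
      + (-a + 2) * hA11 + (c + d + 1) * hB00 + (-2*a - b + c) * hB01 + (-1) * hB10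
  · linear_combination (-b + c + d) * hA00 + (a - 2) * hA01 + (-a + 1) * hA10 + (-a + 2) * hA11
      + (-c) * hB00 + hB01 + (a - 2) * hB10 + (-2) * hB11
  · linear_combination (-c - d - 3) * hA00 + (3*a + 2*b - 3*c - 2*d - 3) * hA01
      + (-2*a + 3) * hA10 + (-a + 3) * hA11 + (2*c + 2*d + 2) * hB00
      + (-3*a - 2*b + c + 1) * hB01 + (-a - 1) * hB10
  · linear_combination 2 * hA00 + (-2*a - b + 2*c + d + 3) * hA01 + (2*a - 3) * hA10
      + (a - 3) * hA11 + (-c - d - 1) * hB00 + (2*a + b - c - 1) * hB01 + 2 * hB10 + hB11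


theorem zmod_isUnit_sq_add (k : ℕ) (x : ZMod (2 ^ k)) : IsUnit (x * x + x + 1) := by
  obtain ⟨y, rfl | rfl⟩ := zmod_parity k x
  · have h := zmod_isUnit_one_add k (2 * y * y + y)
    have e : 2 * y * (2 * y) + 2 * y + 1 = 1 + 2 * (2 * y * y + y) := by ring
    rw [e]; exact h
  · have h := zmod_isUnit_one_add k (2 * y * y + 3 * y + 1)
    have e : (2 * y + 1) * (2 * y + 1) + (2 * y + 1) + 1 = 1 + 2 * (2 * y * y + 3 * y + 1) := by
      ring
    rw [e]; exact h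

theorem order3_entries (k : ℕ) (T : Matrix (Fin 2) (Fin 2) (ZMod (2 ^ k))) (h3 : T * T * T = 1)
    (hne : T ≠ 1) :
    T 0 0 + T 1 1 = -1 ∧ T 0 0 * T 1 1 - T 0 1 * T 1 0 = 1 ∧ IsUnit (T 1 0) := by
  have h00 := congrFun (congrFun h3 0) 0
  have h01 := congrFun (congrFun h3 0) 1
  have h10 := congrFun (congrFun h3 1) 0
  have h11 := congrFun (congrFun h3 1) 1
  simp only [Matrix.mul_apply, Fin.sum_univ_two, Matrix.one_apply_eq, ne_eq, not_false_eq_true,
    Matrix.one_apply_ne, zero_ne_one, one_ne_zero, Fin.isValue] at h00 h01 h10 h11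
  have hne' : ¬ (T 0 0 = 1 ∧ T 0 1 = 0 ∧ T 1 0 = 0 ∧ T 1 1 = 1) := by
    rintro ⟨e1, e2, e3, e4⟩
    apply hne
    ext i j
    fin_cases i <;> fin_cases j <;> simp [e1, e2, e3, e4]
  generalize T 0 0 = a at *
  generalize T 0 1 = b at *
  generalize T 1 0 = c at *
  generalize T 1 1 = d at *
  have hδ3 : (a * d - b * c) ^ 3 = 1 := by
    linear_combination (a*b*c + 2*b*c*d + d^3) * h00 + (-a^2*c - a*c*d - b*c^2 - c*d^2) * h01 + h11
  have hδ : a * d - b * c = 1 := by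
    have hu := zmod_isUnit_sq_add k (a * d - b * c)
    have h : (a * d - b * c - 1) * ((a * d - b * c) * (a * d - b * c) + (a * d - b * c) + 1) = 0 := by
      linear_combination hδ3
    have h' := (hu.mul_left_eq_zero).mp h
    linear_combination h'
  have E1 : ((a + d) * (a + d) - 1) * b = 0 := by linear_combination h01 + b * hδ
  have E2 : ((a + d) * (a + d) - 1) * c = 0 := by linear_combination h10 + c * hδ
  have E3 : ((a + d) * (a + d) - 1) * a = 1 + (a + d) := by linear_combination h00 + (2*a + d) * hδ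
  have E4 : ((a + d) * (a + d) - 1) * d = 1 + (a + d) := by linear_combination h11 + (a + 2*d) * hδ
  have hτ : a + d = -1 := by
    obtain ⟨s, hs | hs⟩ := zmod_parity k (a + d)
    · exfalso
      have hu : IsUnit ((a + d) * (a + d) - 1) := by
        have h := (zmod_isUnit_one_add k (-(2 * s * s))).neg
        have e : (a + d) * (a + d) - 1 = -(1 + 2 * (-(2 * s * s))) := by rw [hs]; ring
        rw [e]; exact h
      have hb : b = 0 := (hu.mul_right_eq_zero).mp E1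
      have hc : c = 0 := (hu.mul_right_eq_zero).mp E2
      have had : a - d = 0 := by
        have h : ((a + d) * (a + d) - 1) * (a - d) = 0 := by linear_combination E3 - E4
        exact (hu.mul_right_eq_zero).mp h
      have ha : a = 1 := by
        have hu2 := zmod_isUnit_sq_add k a
        have h : (a - 1) * (a * a + a + 1) = 0 := by
          rw [hb] at h00
          linear_combination h00
        have h' := (hu2.mul_left_eq_zero).mp h
        linear_combination h'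
      exact hne' ⟨ha, hb, hc, by linear_combination ha - had⟩
    · have hu : IsUnit ((a + d - 1) * a - 1) := by
        have h := (zmod_isUnit_one_add k (-(s * a))).neg
        have e : (a + d - 1) * a - 1 = -(1 + 2 * (-(s * a))) := by rw [hs]; ring
        rw [e]; exact h
      have h : (a + d + 1) * ((a + d - 1) * a - 1) = 0 := by linear_combination E3
      have h' := (hu.mul_left_eq_zero).mp h
      linear_combination h'
  refine ⟨hτ, hδ, ?_⟩
  have hbc : b * c = -(a * a + a + 1) := by linear_combination (-1 : ZMod (2 ^ k)) * hδ + a * hτ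
  have hu : IsUnit (b * c) := by rw [hbc]; exact (zmod_isUnit_sq_add k a).neg
  exact isUnit_of_mul_isUnit_right hu

theorem exists_conj_eq_cUnit (k : ℕ) (t : GL (Fin 2) (ZMod (2 ^ k))) (h3 : t ^ 3 = 1)
    (h1 : t ≠ 1) : ∃ g : GL (Fin 2) (ZMod (2 ^ k)), g * t * g⁻¹ = cUnit (ZMod (2 ^ k)) := by
  have hT3 : (t : Matrix (Fin 2) (Fin 2) (ZMod (2 ^ k))) * t * t = 1 := by
    have h := congrArg Units.val h3
    rw [pow_succ, pow_two] at h
    simpa using h
  have hT1 : (t : Matrix (Fin 2) (Fin 2) (ZMod (2 ^ k))) ≠ 1 := fun h => h1 (Units.ext h)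
  obtain ⟨hτ, hδ, hc⟩ := order3_entries k _ hT3 hT1
  obtain ⟨a, b, c, d, hT⟩ : ∃ a b c d, (t : Matrix (Fin 2) (Fin 2) (ZMod (2 ^ k))) = !![a, b; c, d] :=
    ⟨_, _, _, _, Matrix.eta_fin_two _⟩
  rw [hT] at hτ hδ hc
  simp only [Matrix.of_apply, Matrix.cons_val', Matrix.cons_val_zero, Matrix.cons_val_one,
    Matrix.cons_val_fin_one, Matrix.empty_val', Fin.isValue] at hτ hδ hc
  let g₀ : GL (Fin 2) (ZMod (2 ^ k)) :=
    Matrix.GeneralLinearGroup.mk'' !![1, a; 0, c] (by simpa [Matrix.det_fin_two] using hc)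
  refine ⟨g₀⁻¹, ?_⟩
  have key : t * g₀ = g₀ * cUnit (ZMod (2 ^ k)) := by
    apply Units.ext
    show (t : Matrix (Fin 2) (Fin 2) (ZMod (2 ^ k))) * !![1, a; 0, c] = !![1, a; 0, c] * cMat _
    rw [hT, cMat, Matrix.mul_fin_two, Matrix.mul_fin_two]
    congr 1
    ext i j
    fin_cases i <;> fin_cases j
    · simp
    · simp
      linear_combination (-1 : ZMod (2 ^ k)) * hδ + a * hτ
    · simp
    · simp
      linear_combination c * hτ
  rw [inv_inv, mul_assoc, key, ← mul_assoc, inv_mul_cancel, one_mul]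

end mat

section a4

/-- a 3-cycle in `A₄` -/
def tA : alternatingGroup (Fin 4) :=
  ⟨Equiv.swap 0 1 * Equiv.swap 1 2, Equiv.Perm.mem_alternatingGroup.mpr (by decide)⟩

/-- a double transposition in `A₄` -/
def vA : alternatingGroup (Fin 4) :=
  ⟨Equiv.swap 0 1 * Equiv.swap 2 3, Equiv.Perm.mem_alternatingGroup.mpr (by decide)⟩

/-- the relations of a generating pair of `A₄` -/
def IsA4Pair {G : Type*} [Group G] (t v : G) : Prop :=
  t ^ 3 = 1 ∧ t ≠ 1 ∧ v * v = 1 ∧ v * (t * v * t⁻¹) = t⁻¹ * v * t ∧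
    (t * v * t⁻¹) * v = t⁻¹ * v * t ∧
    v ≠ t * v * t⁻¹ ∧ v ≠ t⁻¹ * v * t ∧ t * v * t⁻¹ ≠ t⁻¹ * v * t

theorem a4pair_A : IsA4Pair tA vA := by
  unfold IsA4Pair
  decide

theorem genA : ∀ x : alternatingGroup (Fin 4), ∃ i : Fin 3, ∃ j l : Fin 2,
    x = tA ^ (i : ℕ) * vA ^ (j : ℕ) * (tA * vA * tA⁻¹) ^ (l : ℕ) := by decide

theorem a4pair_map {G : Type*} [Group G] (f : alternatingGroup (Fin 4) →* G)
    (hf : Function.Injective f) :
    IsA4Pair (f tA) (f vA) ∧ f.range = Subgroup.closure {f tA, f vA} := by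
  obtain ⟨h1, h2, h3, h4, h5, h6, h7, h8⟩ := a4pair_A
  refine ⟨⟨?_, ?_, ?_, ?_, ?_, ?_, ?_, ?_⟩, ?_⟩
  · rw [← map_pow, h1, map_one]
  · exact fun h => h2 (hf (by rw [h, map_one]))
  · rw [← map_mul, h3, map_one]
  · simpa using congrArg f h4
  · simpa using congrArg f h5
  · exact fun h => h6 (hf (by simpa using h))
  · exact fun h => h7 (hf (by simpa using h))
  · exact fun h => h8 (hf (by simpa using h))
  · apply le_antisymm
    · rintro x ⟨y, rfl⟩
      obtain ⟨i, j, l, hy⟩ := genA y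
      have ht : f tA ∈ Subgroup.closure {f tA, f vA} := Subgroup.subset_closure (by simp)
      have hv : f vA ∈ Subgroup.closure {f tA, f vA} := Subgroup.subset_closure (by simp)
      rw [hy]
      simp only [map_mul, map_pow, map_inv]
      exact Subgroup.mul_mem _ (Subgroup.mul_mem _ (Subgroup.pow_mem _ ht _)
        (Subgroup.pow_mem _ hv _))
        (Subgroup.pow_mem _ (Subgroup.mul_mem _ (Subgroup.mul_mem _ ht hv)
          (Subgroup.inv_mem _ ht)) _)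
    · rw [Subgroup.closure_le]
      rintro x (rfl | rfl)
      · exact ⟨_, rfl⟩
      · exact ⟨_, rfl⟩

end a4

section W

variable {R : Type*} [CommRing R]

/-- the involutions which together with the companion matrix satisfy the `A₄` relations -/
def InW (R : Type*) [CommRing R] (x : GL (Fin 2) R) : Prop :=
  x * x = 1 ∧ x * (cUnit R * x * (cUnit R)⁻¹) = (cUnit R)⁻¹ * x * cUnit R ∧ x ≠ 1

theorem inW_entries (x : GL (Fin 2) R) (hx : InW R x) :
    (x : Matrix (Fin 2) (Fin 2) R) 0 0 = (x : Matrix (Fin 2) (Fin 2) R) 1 1 ∧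
    2 * ((x : Matrix (Fin 2) (Fin 2) R) 0 0 - 1) = 0 ∧
    2 * (x : Matrix (Fin 2) (Fin 2) R) 1 0 = 0 ∧
    (x : Matrix (Fin 2) (Fin 2) R) 0 1 =
      ((x : Matrix (Fin 2) (Fin 2) R) 0 0 - 1) + (x : Matrix (Fin 2) (Fin 2) R) 1 0 := by
  apply invol_entries
  · exact congrArg Units.val hx.1
  · exact congrArg Units.val hx.2.1

theorem inW_ext (x y : GL (Fin 2) R) (hx : InW R x) (hy : InW R y)
    (h00 : (x : Matrix (Fin 2) (Fin 2) R) 0 0 = (y : Matrix (Fin 2) (Fin 2) R) 0 0)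
    (h10 : (x : Matrix (Fin 2) (Fin 2) R) 1 0 = (y : Matrix (Fin 2) (Fin 2) R) 1 0) : x = y := by
  obtain ⟨x1, x2, x3, x4⟩ := inW_entries x hx
  obtain ⟨y1, y2, y3, y4⟩ := inW_entries y hy
  apply Units.ext
  ext i j
  fin_cases i <;> fin_cases j
  · exact h00
  · show (x : Matrix (Fin 2) (Fin 2) R) 0 1 = (y : Matrix (Fin 2) (Fin 2) R) 0 1
    rw [x4, y4, h00, h10]
  · exact h10
  · show (x : Matrix (Fin 2) (Fin 2) R) 1 1 = (y : Matrix (Fin 2) (Fin 2) R) 1 1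
    rw [← x1, ← y1, h00]

/-- the three possible codes -/
def wTbl (k : ℕ) : Fin 3 → ZMod (2 ^ k) × ZMod (2 ^ k) :=
  ![(1 + 2 ^ (k - 1), 0), (1, 2 ^ (k - 1)), (1 + 2 ^ (k - 1), 2 ^ (k - 1))]

theorem inW_code (k : ℕ) (hk : 1 ≤ k) (x : GL (Fin 2) (ZMod (2 ^ k))) (hx : InW (ZMod (2 ^ k)) x) :
    ∃ i : Fin 3, ((x : Matrix (Fin 2) (Fin 2) (ZMod (2 ^ k))) 0 0,
      (x : Matrix (Fin 2) (Fin 2) (ZMod (2 ^ k))) 1 0) = wTbl k i := by
  obtain ⟨x1, x2, x3, x4⟩ := inW_entries x hx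
  rcases zmod_two_mul_eq_zero k hk _ x2 with ha | ha <;>
    rcases zmod_two_mul_eq_zero k hk _ x3 with hc | hc
  · exfalso
    apply hx.2.2
    apply Units.ext
    have h00 : (x : Matrix (Fin 2) (Fin 2) (ZMod (2 ^ k))) 0 0 = 1 := by linear_combination ha
    ext i j
    fin_cases i <;> fin_cases j
    · simpa using h00
    · show (x : Matrix (Fin 2) (Fin 2) (ZMod (2 ^ k))) 0 1 = _
      rw [x4, ha, hc]; simp
    · simpa using hc
    · show (x : Matrix (Fin 2) (Fin 2) (ZMod (2 ^ k))) 1 1 = _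
      rw [← x1, h00]; simp
  · refine ⟨1, ?_⟩
    have h00 : (x : Matrix (Fin 2) (Fin 2) (ZMod (2 ^ k))) 0 0 = 1 := by linear_combination ha
    rw [h00, hc]; rfl
  · refine ⟨0, ?_⟩
    have h00 : (x : Matrix (Fin 2) (Fin 2) (ZMod (2 ^ k))) 0 0 = 1 + 2 ^ (k - 1) := by
      linear_combination ha
    rw [h00, hc]; rfl
  · refine ⟨2, ?_⟩
    have h00 : (x : Matrix (Fin 2) (Fin 2) (ZMod (2 ^ k))) 0 0 = 1 + 2 ^ (k - 1) := by
      linear_combination ha
    rw [h00, hc]; rfl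

theorem fin3_pigeon : ∀ i j l m : Fin 3, i ≠ j → i ≠ l → j ≠ l → m = i ∨ m = j ∨ m = l := by
  decide

theorem a4pair_inW_aux {G : Type*} [Group G] (C v : G) (c3 : C ^ 3 = 1) (v2 : v * v = 1)
    (r1 : v * (C * v * C⁻¹) = C⁻¹ * v * C) (r2 : (C * v * C⁻¹) * v = C⁻¹ * v * C) :
    ((C * v * C⁻¹) * (C * v * C⁻¹) = 1 ∧
      (C * v * C⁻¹) * (C * (C * v * C⁻¹) * C⁻¹) = C⁻¹ * (C * v * C⁻¹) * C) ∧
    ((C⁻¹ * v * C) * (C⁻¹ * v * C) = 1 ∧
      (C⁻¹ * v * C) * (C * (C⁻¹ * v * C) * C⁻¹) = C⁻¹ * (C⁻¹ * v * C) * C) := by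
  have hCC : C * C = C⁻¹ := by
    apply eq_inv_of_mul_eq_one_left
    rw [← pow_two, ← pow_succ]; exact c3
  have hCC' : C⁻¹ * C⁻¹ = C := by
    rw [← mul_inv_rev, hCC, inv_inv]
  refine ⟨⟨?_, ?_⟩, ⟨?_, ?_⟩⟩
  · have e : (C * v * C⁻¹) * (C * v * C⁻¹) = C * (v * v) * C⁻¹ := by group
    rw [e, v2]; group
  · have e1 : (C * v * C⁻¹) * (C * (C * v * C⁻¹) * C⁻¹) = C * (v * (C * v * C⁻¹)) * C⁻¹ := by
      group
    rw [e1, r1]; group
  · have e : (C⁻¹ * v * C) * (C⁻¹ * v * C) = C⁻¹ * (v * v) * C := by group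
    rw [e, v2]; group
  · have e2 : (C⁻¹ * v * C) * (C * (C⁻¹ * v * C) * C⁻¹) = (C⁻¹ * v * C) * v := by group
    have e3 : C⁻¹ * (C⁻¹ * v * C) * C = (C⁻¹ * C⁻¹) * v * (C * C) := by group
    rw [e2, e3, hCC, hCC', ← r2, mul_assoc, v2, mul_one]

theorem a4pair_mem_closure (k : ℕ) (hk : 1 ≤ k) (v w : GL (Fin 2) (ZMod (2 ^ k)))
    (hv : IsA4Pair (cUnit (ZMod (2 ^ k))) v) (hw : IsA4Pair (cUnit (ZMod (2 ^ k))) w) :
    w ∈ Subgroup.closure {cUnit (ZMod (2 ^ k)), v} := by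
  obtain ⟨c3, -, v2, r1, r2, n1, n2, n3⟩ := hv
  obtain ⟨-, -, w2, s1, -, m1, -, -⟩ := hw
  obtain ⟨⟨a1, a2⟩, ⟨b1, b2⟩⟩ := a4pair_inW_aux (cUnit (ZMod (2 ^ k))) v c3 v2 r1 r2
  have hv1 : v ≠ 1 := by
    intro h; apply n1; rw [h]; simp
  have hw1 : w ≠ 1 := by
    intro h; apply m1; rw [h]; simp
  have W0 : InW _ v := ⟨v2, r1, hv1⟩
  have W1 : InW _ (cUnit (ZMod (2 ^ k)) * v * (cUnit (ZMod (2 ^ k)))⁻¹) :=
    ⟨a1, a2, fun h => hv1 (conj_eq_one_iff.mp h)⟩
  have W2 : InW _ ((cUnit (ZMod (2 ^ k)))⁻¹ * v * cUnit (ZMod (2 ^ k))) := by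
    refine ⟨b1, b2, fun h => hv1 ?_⟩
    have h' := congrArg (fun y => cUnit (ZMod (2 ^ k)) * y * (cUnit (ZMod (2 ^ k)))⁻¹) h
    simpa [mul_assoc] using h'
  have Ww : InW _ w := ⟨w2, s1, hw1⟩
  obtain ⟨i0, h0⟩ := inW_code k hk _ W0
  obtain ⟨i1, h1⟩ := inW_code k hk _ W1
  obtain ⟨i2, h2⟩ := inW_code k hk _ W2
  obtain ⟨i3, h3⟩ := inW_code k hk _ Ww
  have d01 : i0 ≠ i1 := by
    intro h; apply n1
    rw [h, ← h1] at h0
    exact inW_ext _ _ W0 W1 (congrArg Prod.fst h0) (congrArg Prod.snd h0)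
  have d02 : i0 ≠ i2 := by
    intro h; apply n2
    rw [h, ← h2] at h0
    exact inW_ext _ _ W0 W2 (congrArg Prod.fst h0) (congrArg Prod.snd h0)
  have d12 : i1 ≠ i2 := by
    intro h; apply n3
    rw [h, ← h2] at h1
    exact inW_ext _ _ W1 W2 (congrArg Prod.fst h1) (congrArg Prod.snd h1)
  have hC : cUnit (ZMod (2 ^ k)) ∈ Subgroup.closure {cUnit (ZMod (2 ^ k)), v} :=
    Subgroup.subset_closure (by simp)
  have hvm : v ∈ Subgroup.closure {cUnit (ZMod (2 ^ k)), v} := Subgroup.subset_closure (by simp)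
  rcases fin3_pigeon i0 i1 i2 i3 d01 d02 d12 with h | h | h
  · have e : w = v := by
      rw [h, ← h0] at h3
      exact inW_ext _ _ Ww W0 (congrArg Prod.fst h3) (congrArg Prod.snd h3)
    rw [e]; exact hvm
  · have e : w = cUnit (ZMod (2 ^ k)) * v * (cUnit (ZMod (2 ^ k)))⁻¹ := by
      rw [h, ← h1] at h3
      exact inW_ext _ _ Ww W1 (congrArg Prod.fst h3) (congrArg Prod.snd h3)
    rw [e]
    exact Subgroup.mul_mem _ (Subgroup.mul_mem _ hC hvm) (Subgroup.inv_mem _ hC)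
  · have e : w = (cUnit (ZMod (2 ^ k)))⁻¹ * v * cUnit (ZMod (2 ^ k)) := by
      rw [h, ← h2] at h3
      exact inW_ext _ _ Ww W2 (congrArg Prod.fst h3) (congrArg Prod.snd h3)
    rw [e]
    exact Subgroup.mul_mem _ (Subgroup.mul_mem _ (Subgroup.inv_mem _ hC) hvm) hC

theorem a4_normal_form (k : ℕ) (H : Subgroup (GL (Fin 2) (ZMod (2 ^ k))))
    (e : ↥H ≃* ↥(alternatingGroup (Fin 4))) :
    ∃ (g v : GL (Fin 2) (ZMod (2 ^ k))), IsA4Pair (cUnit (ZMod (2 ^ k))) v ∧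
      H.map (MulAut.conj g).toMonoidHom = Subgroup.closure {cUnit (ZMod (2 ^ k)), v} := by
  let f : ↥(alternatingGroup (Fin 4)) →* GL (Fin 2) (ZMod (2 ^ k)) :=
    H.subtype.comp e.symm.toMonoidHom
  have hf : Function.Injective f := H.subtype_injective.comp e.symm.injective
  have hrange : f.range = H := by
    ext x
    constructor
    · rintro ⟨y, rfl⟩
      exact (e.symm y).2
    · intro hx
      exact ⟨e ⟨x, hx⟩, by simp [f]⟩
  obtain ⟨hp, -⟩ := a4pair_map f hf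
  obtain ⟨g, hg⟩ := exists_conj_eq_cUnit k (f tA) hp.1 hp.2.1
  let f' : ↥(alternatingGroup (Fin 4)) →* GL (Fin 2) (ZMod (2 ^ k)) :=
    (MulAut.conj g).toMonoidHom.comp f
  have hf' : Function.Injective f' := (MulAut.conj g).injective.comp hf
  obtain ⟨hp', hr'⟩ := a4pair_map f' hf'
  have ht : f' tA = cUnit (ZMod (2 ^ k)) := by
    show MulAut.conj g (f tA) = _
    rw [MulAut.conj_apply]; exact hg
  rw [ht] at hp' hr'
  refine ⟨g, f' vA, hp', ?_⟩
  rw [← hr', ← hrange]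
  exact MonoidHom.map_range _ _

end W


end Cfsg.Agent.Lib.Helper56
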