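import Mathlib

/-! S2049 project (helper70), piece HeM-ORBIT: `conj_of_cert`. -/

set_option autoImplicit false

open scoped commutatorElement

universe u v

namespace Cfsg.Agent.Lib.Helper56.HeMORBIT

theorem conj_of_cert {G : Type u} [Group G] (e : Fin 64 → G) {m : ℕ} (n : Fin m → G)
    (ν : Fin m → Fin 64 → Fin 64) (hn : ∀ j i, n j * e i * (n j)⁻¹ = e (ν j i))
    (i₀ : Fin 64) (cl : Fin 64 → Bool) (par : Fin 64 → Fin 64) (gen : Fin 64 → Fin m)
    (rk : Fin 64 → ℕ)
    (hcert : ∀ i, cl i = true →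
      i = i₀ ∨ (cl (par i) = true ∧ rk (par i) < rk i ∧ ν (gen i) (par i) = i)) :
    ∀ i, cl i = true → ∃ k : G, e i = k * e i₀ * k⁻¹ := by
  have key : ∀ N : ℕ, ∀ i, rk i = N → cl i = true → ∃ k : G, e i = k * e i₀ * k⁻¹ := by
    intro N
    induction N using Nat.strong_induction_on with
    | _ N ih =>
      intro i hi hcl
      rcases hcert i hcl with h | ⟨h1, h2, h3⟩
      · exact ⟨1, by rw [h]; simp⟩
      · obtain ⟨k', hk'⟩ := ih (rk (par i)) (hi ▸ h2) (par i) rfl h1
        refine ⟨n (gen i) * k', ?_⟩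
        have h4 : e i = n (gen i) * e (par i) * (n (gen i))⁻¹ := by rw [hn, h3]
        rw [h4, hk']
        group
  intro i hcl
  exact key (rk i) i rfl hcl

end Cfsg.Agent.Lib.Helper56.HeMORBIT
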