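import Mathlib

/-! Project QB (helper48, S2359), piece CF2 (backup copy by helper56): the normalizer of a
self-centralizing four-group Sylow `2`-subgroup is its centralizer when there are no elements of
order `3`. -/

set_option autoImplicit false

namespace Cfsg.Agent.Lib.Helper48.QB

-- QB-CF2
theorem cf_norm {C : Type*} [Group C] [Finite C] (V : Sylow 2 C) (hV4 : Nat.card V = 4)
    (hE : ∀ x ∈ V, x * x = 1)
    (hcent : ∀ v ∈ V, v ≠ 1 →
      Subgroup.centralizer {v} = Subgroup.centralizer ((V : Subgroup C) : Set C))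
    (h3 : ∀ u : C, orderOf u ≠ 3) :
    Subgroup.normalizer ((V : Subgroup C) : Set C) ≤
      Subgroup.centralizer ((V : Subgroup C) : Set C) := by
  classical
  intro x hx
  have hxV : ∀ v, v ∈ (V : Subgroup C) → x * v * x⁻¹ ∈ (V : Subgroup C) := fun v hv =>
    (Subgroup.mem_normalizer_iff.mp hx v).mp hv
  have hfix : ∀ g v : C, v ∈ (V : Subgroup C) → v ≠ 1 → g * v * g⁻¹ = v →
      g ∈ Subgroup.centralizer ((V : Subgroup C) : Set C) := by
    intro g v hv hv1 hgv
    rw [← hcent v hv hv1, Subgroup.mem_centralizer_iff]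
    intro y hy
    rw [Set.mem_singleton_iff] at hy
    rw [hy]
    calc v * g = (g * v * g⁻¹) * g := by rw [hgv]
      _ = g * v := by group
  have hinvV : ∀ v, v ∈ (V : Subgroup C) → v⁻¹ = v := fun v hv =>
    inv_eq_of_mul_eq_one_right (hE v hv)
  have hcomm : ∀ a, a ∈ (V : Subgroup C) → ∀ b, b ∈ (V : Subgroup C) → a * b = b * a := by
    intro a ha b hb
    have h2 : a * b = (a * b)⁻¹ := (hinvV _ (mul_mem ha hb)).symm
    rw [h2, mul_inv_rev, hinvV a ha, hinvV b hb]
  by_contra hcon
  have hnofix : ∀ v, v ∈ (V : Subgroup C) → v ≠ 1 → x * v * x⁻¹ ≠ v :=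
    fun v hv hv1 h => hcon (hfix x v hv hv1 h)
  obtain ⟨v, hv, hv1⟩ : ∃ v, v ∈ (V : Subgroup C) ∧ v ≠ 1 := by
    by_contra hno
    push Not at hno
    have hb : (V : Subgroup C) = ⊥ := (Subgroup.eq_bot_iff_forall _).mpr hno
    have hc : Nat.card (V : Subgroup C) = 1 := by rw [hb]; exact Subgroup.card_bot
    have hc' : Nat.card V = Nat.card (V : Subgroup C) := rfl
    omega
  obtain ⟨v', hv'⟩ : ∃ v', v' = x * v * x⁻¹ := ⟨_, rfl⟩
  have hv'V : v' ∈ (V : Subgroup C) := by rw [hv']; exact hxV v hv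
  have hv'1 : v' ≠ 1 := by
    intro h
    apply hv1
    have e : v = x⁻¹ * v' * x := by rw [hv']; group
    rw [e, h]; group
  have hv'v : v' ≠ v := by rw [hv']; exact hnofix v hv hv1
  obtain ⟨t, ht⟩ : ∃ t, t = v * v' := ⟨_, rfl⟩
  have htV : t ∈ (V : Subgroup C) := by rw [ht]; exact mul_mem hv hv'V
  have ht1 : t ≠ 1 := by
    intro h
    apply hv'v
    rw [ht] at h
    rw [← inv_eq_of_mul_eq_one_right h]
    exact hinvV v hv
  have htv : t ≠ v := by
    intro h
    apply hv'1
    rw [ht] at h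
    exact mul_left_cancel (a := v) (by rw [mul_one]; exact h)
  have htv' : t ≠ v' := by
    intro h
    apply hv1
    rw [ht] at h
    exact mul_right_cancel (b := v') (by rw [one_mul]; exact h)
  obtain ⟨v'', hv''⟩ : ∃ v'', v'' = x * v' * x⁻¹ := ⟨_, rfl⟩
  have hv''V : v'' ∈ (V : Subgroup C) := by rw [hv'']; exact hxV v' hv'V
  have hv''v' : v'' ≠ v' := by rw [hv'']; exact hnofix v' hv'V hv'1
  have hv''1 : v'' ≠ 1 := by
    intro h
    apply hv'1
    have e : v' = x⁻¹ * v'' * x := by rw [hv'']; group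
    rw [e, h]; group
  have hxt : x * t * x⁻¹ = v' * v'' := by
    rw [ht, hv'', hv']; group
  have hmem : v'' = 1 ∨ v'' = v ∨ v'' = v' ∨ v'' = t := by
    have hScard : ({1, v, v', t} : Finset C).card = 4 := by
      rw [Finset.card_insert_of_notMem, Finset.card_insert_of_notMem,
        Finset.card_insert_of_notMem, Finset.card_singleton]
      · simp [htv'.symm]
      · simp [hv'v.symm, htv.symm]
      · simp [hv1.symm, hv'1.symm, ht1.symm]
    have hSV : ((({1, v, v', t} : Finset C)) : Set C) ⊆ ((V : Subgroup C) : Set C) := by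
      intro y hy
      simp only [Finset.coe_insert, Finset.coe_singleton, Set.mem_insert_iff,
        Set.mem_singleton_iff] at hy
      rcases hy with h | h | h | h
      · rw [h]; exact one_mem _
      · rw [h]; exact hv
      · rw [h]; exact hv'V
      · rw [h]; exact htV
    have hVn : ((V : Subgroup C) : Set C).ncard = 4 := by
      rw [← Nat.card_coe_set_eq]; exact hV4
    have hEq : ((({1, v, v', t} : Finset C)) : Set C) = ((V : Subgroup C) : Set C) :=
      Set.eq_of_subset_of_ncard_le hSV (by rw [hVn, Set.ncard_coe_finset, hScard])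
        (Set.toFinite _)
    have hin : v'' ∈ ((({1, v, v', t} : Finset C)) : Set C) := by rw [hEq]; exact hv''V
    simpa using hin
  rcases hmem with h | h | h | h
  · exact hv''1 h
  · apply hnofix t htV ht1
    rw [hxt, h, ht]; exact hcomm v' hv'V v hv
  · exact hv''v' h
  · have hxt' : x * t * x⁻¹ = v := by
      rw [hxt, h, ht, hcomm v hv v' hv'V, ← mul_assoc, hE v' hv'V, one_mul]
    have hx3 : x ^ 3 * v * (x ^ 3)⁻¹ = v := by
      have e : x ^ 3 * v * (x ^ 3)⁻¹ = x * (x * (x * v * x⁻¹) * x⁻¹) * x⁻¹ := by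
        have e3 : x ^ 3 = x * x * x := by rw [pow_succ, pow_succ, pow_one]
        rw [e3]
        simp only [mul_inv_rev, mul_assoc]
      rw [e, ← hv', ← hv'', h, hxt']
    have hx3Z : x ^ 3 ∈ Subgroup.centralizer ((V : Subgroup C) : Set C) :=
      hfix (x ^ 3) v hv hv1 hx3
    by_cases h3n : 3 ∣ orderOf x
    · exact h3 _ (orderOf_pow_orderOf_div (orderOf_pos x).ne' h3n)
    · have hcop : Nat.Coprime 3 (orderOf x) :=
        (Nat.Prime.coprime_iff_not_dvd Nat.prime_three).mpr h3n
      obtain ⟨k, hk⟩ := exists_pow_eq_self_of_coprime hcop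
      apply hcon
      rw [← hk]
      exact pow_mem hx3Z k

end Cfsg.Agent.Lib.Helper48.QB
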