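import Mathlib
import Cfsg.Agent.Lib.Helper11.S983Tools
import Cfsg.Agent.Lib.Helper23.Syl
import Cfsg.Agent.Lib.Helper23.Syl2
import Cfsg.Agent.Lib.Helper23.SylInter

/-!
# S0983 piece N4500 (helper56 for helper11): no simple group of order 4500
-/

set_option autoImplicit false

namespace Cfsg.Agent.S983

open Cfsg.Agent.Lib.Helper23

set_option maxRecDepth 100000 in
theorem n4500_cands : candsPow 4500 5 3 = [36] := by decide +kernel

theorem ns4500 {G : Type*} [Group G] [Finite G] [IsSimpleGroup G] (h : Nat.card G = 4500) :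
    False := by
  have hG : ¬ IsMulCommutative G :=
    not_comm_of_simple_of_not_prime (by rw [h]; norm_num)
  have : Fact (Nat.Prime 5) := ⟨by norm_num⟩
  have h1 : Nat.card G = 5 ^ 3 * 36 := h.trans (by norm_num)
  have hm : ¬ 5 ∣ 36 := by norm_num
  have hmem := mem_candsPow hG (p := 5) (a := 3) (m := 36) h (by norm_num) hm (by norm_num)
  rw [n4500_cands] at hmem
  have h2 : Nat.card (Sylow 5 G) = 36 := by simpa using hmem
  have hidx : ∀ H : Subgroup G, H ≠ ⊤ → 7 ≤ H.index := by
    intro H hH
    have h2 := simple_two_mul_card_dvd_factorial hG H hH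
    rw [h] at h2
    by_contra hlt
    have hlt' : H.index < 7 := Nat.lt_of_not_le hlt
    interval_cases H.index <;> revert h2 <;> decide
  have hmod : ¬ Nat.card (Sylow 5 G) ≡ 1 [MOD 5 ^ 2] := by rw [h2]; decide
  obtain ⟨P⟩ : Nonempty (Sylow 5 G) := inferInstance
  obtain ⟨R, hPR, hle⟩ := exists_sylow_pair_large_inter 5 2 hmod P
  have hPc : Nat.card (P : Subgroup G) = 5 ^ 3 := sylow_card_of_eq h1 hm P
  have hRc : Nat.card (R : Subgroup G) = 5 ^ 3 := sylow_card_of_eq h1 hm R
  have hD := card_inf_mul_index_subgroupOf (P : Subgroup G) (R : Subgroup G)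
  have hD' := card_inf_mul_index_subgroupOf (R : Subgroup G) (P : Subgroup G)
  rw [inf_comm] at hD'
  -- the index is not 1
  have hi1 : ((R : Subgroup G).subgroupOf (P : Subgroup G)).index ≠ 1 := by
    intro hi
    rw [Subgroup.index_eq_one, Subgroup.subgroupOf_eq_top] at hi
    exact hPR (Sylow.ext (Subgroup.eq_of_le_of_card_ge hi (by rw [hPc, hRc])))
  have hi0 : ((R : Subgroup G).subgroupOf (P : Subgroup G)).index ≠ 0 := by
    intro hi
    rw [hi, mul_zero, hPc] at hD
    norm_num at hD
  have hi5 : ((R : Subgroup G).subgroupOf (P : Subgroup G)).index = 5 := by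
    have hdvd : ((R : Subgroup G).subgroupOf (P : Subgroup G)).index ∣ 125 := by
      rw [hPc] at hD
      exact ⟨_, by rw [mul_comm]; exact hD.symm⟩
    norm_num at hle
    generalize ((R : Subgroup G).subgroupOf (P : Subgroup G)).index = i at hdvd hle hi0 hi1
    interval_cases i <;> first | rfl | omega
  rw [hi5, hPc] at hD
  have hDc : Nat.card ((P : Subgroup G) ⊓ (R : Subgroup G) : Subgroup G) = 25 := by omega
  rw [hDc, hRc] at hD'
  have hi5' : ((P : Subgroup G).subgroupOf (R : Subgroup G)).index = 5 := by omega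
  have hmf : (5 ^ 3 : ℕ).minFac = 5 := by norm_num
  have hn1 : ((R : Subgroup G).subgroupOf (P : Subgroup G)).Normal := by
    apply Subgroup.normal_of_index_eq_minFac_card
    rw [hPc, hmf]
    exact hi5
  have hn2 : ((P : Subgroup G).subgroupOf (R : Subgroup G)).Normal := by
    apply Subgroup.normal_of_index_eq_minFac_card
    rw [hRc, hmf]
    exact hi5'
  have hPN : (P : Subgroup G) ≤
      Subgroup.normalizer (((P : Subgroup G) ⊓ (R : Subgroup G) : Subgroup G) : Set G) := by
    have := Subgroup.normal_subgroupOf_iff_le_normalizer_inf.mp hn1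
    rwa [inf_comm] at this
  have hRN : (R : Subgroup G) ≤
      Subgroup.normalizer (((P : Subgroup G) ⊓ (R : Subgroup G) : Subgroup G) : Set G) :=
    Subgroup.normal_subgroupOf_iff_le_normalizer_inf.mp hn2
  generalize hDdef : ((P : Subgroup G) ⊓ (R : Subgroup G) : Subgroup G) = D at hDc hPN hRN
  have hDbot : D ≠ ⊥ := by
    intro hb
    rw [hb, Subgroup.card_bot] at hDc
    omega
  have hDtop : D ≠ ⊤ := by
    intro ht
    rw [ht, Subgroup.card_top, h] at hDc
    omega
  have hNtop := simple_normalizer_ne_top D hDbot hDtop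
  obtain ⟨j, hj1, hj2, hj3, hj4⟩ := card_sylow_subgroup_facts
    (Subgroup.normalizer (D : Set G)) P R hPN hRN hPR
  have h5 := hidx _ hNtop
  have h6 := Subgroup.card_mul_index (Subgroup.normalizer (D : Set G))
  rw [hj1, hPc, h] at h6
  have hjpos : 0 < j := by
    rcases Nat.eq_zero_or_pos j with h0 | h0
    · rw [h0] at h6
      omega
    · exact h0
  have h7 := Nat.le_of_dvd hjpos hj2
  have h9 : 6 ≤ j := by omega
  nlinarith

end Cfsg.Agent.S983
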