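import Mathlib
import Cfsg.Agent.Lib.Helper50.SU4Q3Def
import Cfsg.Agent.Lib.Helper71.Asch5

/-! Project SU4 (helper50), piece Q3NOR (insurance copy by helper56): the unimodular unitary
monomial group of the standard frame normalises the two-qubit Pauli group (`q = 3`). -/

set_option autoImplicit false

namespace Cfsg.Agent.Lib.Helper56.SU4Q3NOR

open Matrix Cfsg.Geo Cfsg.Agent.Lib.Helper71.Asch Cfsg.Agent.Lib.Helper50.SU4Q3Def

variable {F : Type*} [Field F] [Fintype F] {q : ℕ}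

/-- the three fixed-point-free involutions of `Fin 4` -/
def su4q3nor_s1 : Equiv.Perm (Fin 4) := ⟨![1, 0, 3, 2], ![1, 0, 3, 2], by decide, by decide⟩
def su4q3nor_s2 : Equiv.Perm (Fin 4) := ⟨![2, 3, 0, 1], ![2, 3, 0, 1], by decide, by decide⟩
def su4q3nor_s3 : Equiv.Perm (Fin 4) := ⟨![3, 2, 1, 0], ![3, 2, 1, 0], by decide, by decide⟩

theorem su4q3nor_klein1 : ∀ π : Equiv.Perm (Fin 4),
    π * su4q3nor_s1 * π⁻¹ = su4q3nor_s1 ∨ π * su4q3nor_s1 * π⁻¹ = su4q3nor_s2 ∨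
      π * su4q3nor_s1 * π⁻¹ = su4q3nor_s3 := by
  decide

theorem su4q3nor_klein2 : ∀ π : Equiv.Perm (Fin 4),
    π * su4q3nor_s2 * π⁻¹ = su4q3nor_s1 ∨ π * su4q3nor_s2 * π⁻¹ = su4q3nor_s2 ∨
      π * su4q3nor_s2 * π⁻¹ = su4q3nor_s3 := by
  decide

/-- being the matrix of an element of the Pauli group -/
def su4q3nor_InP (ι : F) (M : Matrix (Fin 4) (Fin 4) F) : Prop :=
  ∃ u : GL (Fin 4) F, u ∈ su4Pauli ι ∧ u.1 = M

omit [Fintype F] in
theorem su4q3nor_InP_mul (ι : F) {M N : Matrix (Fin 4) (Fin 4) F}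
    (hM : su4q3nor_InP ι M) (hN : su4q3nor_InP ι N) : su4q3nor_InP ι (M * N) := by
  obtain ⟨u, hu, rfl⟩ := hM
  obtain ⟨v, hv, rfl⟩ := hN
  exact ⟨u * v, mul_mem hu hv, rfl⟩

omit [Fintype F] in
theorem su4q3nor_InP_one (ι : F) : su4q3nor_InP ι 1 := ⟨1, one_mem _, rfl⟩

omit [Fintype F] in
theorem su4q3nor_InP_gen (ι : F) (M N : Matrix (Fin 4) (Fin 4) F) (h1 : M * N = 1)
    (h2 : N * M = 1)
    (hg : M = ι • (1 : Matrix (Fin 4) (Fin 4) F) ∨
      M = Matrix.diagonal ![1, 1, -1, -1] ∨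
      M = Matrix.diagonal ![1, -1, 1, -1] ∨
      M = !![0, 0, 1, 0; 0, 0, 0, 1; 1, 0, 0, 0; 0, 1, 0, 0] ∨
      M = !![0, 1, 0, 0; 1, 0, 0, 0; 0, 0, 0, 1; 0, 0, 1, 0]) : su4q3nor_InP ι M :=
  ⟨⟨M, N, h1, h2⟩, Subgroup.subset_closure hg, rfl⟩

omit [Fintype F] in
theorem su4q3nor_InP_iota (ι : F) (hι : ι ^ 2 = -1) :
    su4q3nor_InP ι (ι • (1 : Matrix (Fin 4) (Fin 4) F)) := by
  have h : ι * -ι = 1 := by linear_combination -hι
  have h' : -ι * ι = 1 := by linear_combination -hι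
  refine su4q3nor_InP_gen ι _ ((-ι) • 1) ?_ ?_ (Or.inl rfl)
  · rw [Matrix.smul_mul, Matrix.one_mul, smul_smul, h, one_smul]
  · rw [Matrix.smul_mul, Matrix.one_mul, smul_smul, h', one_smul]

omit [Fintype F] in
theorem su4q3nor_InP_Z1 (ι : F) :
    su4q3nor_InP ι (Matrix.diagonal ![1, 1, -1, -1] : Matrix (Fin 4) (Fin 4) F) := by
  have h : (Matrix.diagonal ![1, 1, -1, -1] : Matrix (Fin 4) (Fin 4) F) *
      Matrix.diagonal ![1, 1, -1, -1] = 1 := by
    rw [Matrix.diagonal_mul_diagonal, ← Matrix.diagonal_one]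
    congr 1; funext i; fin_cases i <;> simp
  exact su4q3nor_InP_gen ι _ _ h h (Or.inr (Or.inl rfl))

omit [Fintype F] in
theorem su4q3nor_InP_Z2 (ι : F) :
    su4q3nor_InP ι (Matrix.diagonal ![1, -1, 1, -1] : Matrix (Fin 4) (Fin 4) F) := by
  have h : (Matrix.diagonal ![1, -1, 1, -1] : Matrix (Fin 4) (Fin 4) F) *
      Matrix.diagonal ![1, -1, 1, -1] = 1 := by
    rw [Matrix.diagonal_mul_diagonal, ← Matrix.diagonal_one]
    congr 1; funext i; fin_cases i <;> simp
  exact su4q3nor_InP_gen ι _ _ h h (Or.inr (Or.inr (Or.inl rfl)))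

omit [Fintype F] in
theorem su4q3nor_InP_X1 (ι : F) :
    su4q3nor_InP ι (!![0, 0, 1, 0; 0, 0, 0, 1; 1, 0, 0, 0; 0, 1, 0, 0] :
      Matrix (Fin 4) (Fin 4) F) := by
  have h : (!![0, 0, 1, 0; 0, 0, 0, 1; 1, 0, 0, 0; 0, 1, 0, 0] : Matrix (Fin 4) (Fin 4) F) *
      !![0, 0, 1, 0; 0, 0, 0, 1; 1, 0, 0, 0; 0, 1, 0, 0] = 1 := by
    ext i j; fin_cases i <;> fin_cases j <;> simp [Matrix.mul_apply, Fin.sum_univ_four]
  exact su4q3nor_InP_gen ι _ _ h h (Or.inr (Or.inr (Or.inr (Or.inl rfl))))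

omit [Fintype F] in
theorem su4q3nor_InP_X2 (ι : F) :
    su4q3nor_InP ι (!![0, 1, 0, 0; 1, 0, 0, 0; 0, 0, 0, 1; 0, 0, 1, 0] :
      Matrix (Fin 4) (Fin 4) F) := by
  have h : (!![0, 1, 0, 0; 1, 0, 0, 0; 0, 0, 0, 1; 0, 0, 1, 0] : Matrix (Fin 4) (Fin 4) F) *
      !![0, 1, 0, 0; 1, 0, 0, 0; 0, 0, 0, 1; 0, 0, 1, 0] = 1 := by
    ext i j; fin_cases i <;> fin_cases j <;> simp [Matrix.mul_apply, Fin.sum_univ_four]
  exact su4q3nor_InP_gen ι _ _ h h (Or.inr (Or.inr (Or.inr (Or.inr rfl))))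

omit [Fintype F] in
theorem su4q3nor_InP_smul (ι : F) {c d : F}
    (hc : su4q3nor_InP ι (c • (1 : Matrix (Fin 4) (Fin 4) F)))
    (hd : su4q3nor_InP ι (d • (1 : Matrix (Fin 4) (Fin 4) F))) :
    su4q3nor_InP ι ((c * d) • (1 : Matrix (Fin 4) (Fin 4) F)) := by
  have := su4q3nor_InP_mul ι hc hd
  rwa [Matrix.smul_mul, Matrix.one_mul, smul_smul] at this

omit [Fintype F] in
theorem su4q3nor_InP_scalar (ι : F) (hι : ι ^ 2 = -1) (c : F) (hc : c ^ 4 = 1) :
    su4q3nor_InP ι (c • (1 : Matrix (Fin 4) (Fin 4) F)) := by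
  have h0 := su4q3nor_InP_iota ι hι
  have h2 : su4q3nor_InP ι ((ι * ι) • (1 : Matrix (Fin 4) (Fin 4) F)) :=
    su4q3nor_InP_smul ι h0 h0
  have h3 : su4q3nor_InP ι ((ι * ι * ι) • (1 : Matrix (Fin 4) (Fin 4) F)) :=
    su4q3nor_InP_smul ι h2 h0
  have hfac : (c ^ 2 - 1) * (c ^ 2 + 1) = 0 := by linear_combination hc
  rcases mul_eq_zero.mp hfac with h | h
  · have hfac2 : (c - 1) * (c + 1) = 0 := by linear_combination h
    rcases mul_eq_zero.mp hfac2 with h' | h'
    · have e : c = 1 := by linear_combination h'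
      rw [e, one_smul]; exact su4q3nor_InP_one ι
    · have e : c = ι * ι := by linear_combination h' - hι
      rw [e]; exact h2
  · have hfac2 : (c - ι) * (c + ι) = 0 := by linear_combination h - hι
    rcases mul_eq_zero.mp hfac2 with h' | h'
    · have e : c = ι := by linear_combination h'
      rw [e]; exact h0
    · have e : c = ι * ι * ι := by linear_combination h' - ι * hι
      rw [e]; exact h3

omit [Fintype F] in
theorem su4q3nor_InP_pm (ι : F) (d1 d2 : F) (h1 : d1 = 1 ∨ d1 = -1) (h2 : d2 = 1 ∨ d2 = -1) :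
    su4q3nor_InP ι (Matrix.diagonal ![1, d1, d2, d1 * d2] : Matrix (Fin 4) (Fin 4) F) := by
  rcases h1 with rfl | rfl <;> rcases h2 with rfl | rfl
  · have e : (Matrix.diagonal ![1, 1, 1, 1 * 1] : Matrix (Fin 4) (Fin 4) F) = 1 := by
      rw [← Matrix.diagonal_one]; congr 1; funext i; fin_cases i <;> simp
    rw [e]; exact su4q3nor_InP_one ι
  · have e : (Matrix.diagonal ![1, 1, -1, 1 * -1] : Matrix (Fin 4) (Fin 4) F) =
        Matrix.diagonal ![1, 1, -1, -1] := by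
      congr 1; funext i; fin_cases i <;> simp
    rw [e]; exact su4q3nor_InP_Z1 ι
  · have e : (Matrix.diagonal ![1, -1, 1, -1 * 1] : Matrix (Fin 4) (Fin 4) F) =
        Matrix.diagonal ![1, -1, 1, -1] := by
      congr 1; funext i; fin_cases i <;> simp
    rw [e]; exact su4q3nor_InP_Z2 ι
  · have e : (Matrix.diagonal ![1, -1, -1, -1 * -1] : Matrix (Fin 4) (Fin 4) F) =
        Matrix.diagonal ![1, 1, -1, -1] * Matrix.diagonal ![1, -1, 1, -1] := by
      rw [Matrix.diagonal_mul_diagonal]; congr 1; funext i; fin_cases i <;> simp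
    rw [e]; exact su4q3nor_InP_mul ι (su4q3nor_InP_Z1 ι) (su4q3nor_InP_Z2 ι)

omit [Fintype F] in
theorem su4q3nor_InP_diag (ι : F) (hι : ι ^ 2 = -1) (c : Fin 4 → F) (s : F) (hs : s ^ 2 = 1)
    (hc : ∀ i, c i ^ 2 = s) (hprod : ∏ i, c i = 1) :
    su4q3nor_InP ι (Matrix.diagonal c) := by
  have hc4 : ∀ i, c i ^ 4 = 1 := fun i => by
    have := hc i
    calc c i ^ 4 = (c i ^ 2) ^ 2 := by ring
      _ = 1 := by rw [this, hs]
  have hP : c 0 * c 1 * c 2 * c 3 = 1 := by rw [← hprod, Fin.prod_univ_four]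
  have hpm : ∀ d : F, d ^ 2 = 1 → d = 1 ∨ d = -1 := fun d hd => by
    have h : (d - 1) * (d + 1) = 0 := by linear_combination hd
    rcases mul_eq_zero.mp h with h | h
    · left; linear_combination h
    · right; linear_combination h
  have hd1s : (c 1 * c 0 ^ 3) ^ 2 = 1 := by
    have e1 := hc 1
    have e0 := hc 0
    calc (c 1 * c 0 ^ 3) ^ 2 = (c 1 ^ 2) * (c 0 ^ 2) ^ 3 := by ring
      _ = 1 := by rw [e1, e0]; linear_combination (s ^ 2 + 1) * hs
  have hd2s : (c 2 * c 0 ^ 3) ^ 2 = 1 := by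
    have e1 := hc 2
    have e0 := hc 0
    calc (c 2 * c 0 ^ 3) ^ 2 = (c 2 ^ 2) * (c 0 ^ 2) ^ 3 := by ring
      _ = 1 := by rw [e1, e0]; linear_combination (s ^ 2 + 1) * hs
  have hmat : Matrix.diagonal c = (c 0 • (1 : Matrix (Fin 4) (Fin 4) F)) *
      Matrix.diagonal ![1, c 1 * c 0 ^ 3, c 2 * c 0 ^ 3, (c 1 * c 0 ^ 3) * (c 2 * c 0 ^ 3)] := by
    rw [Matrix.smul_mul, Matrix.one_mul]
    ext i j
    rw [Matrix.smul_apply, Matrix.diagonal_apply, Matrix.diagonal_apply]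
    by_cases hij : i = j
    · subst hij
      rw [if_pos rfl, if_pos rfl, smul_eq_mul]
      fin_cases i
      · simp
      · simp only [Fin.mk_one, Fin.isValue, Matrix.cons_val_one, Matrix.cons_val_zero]
        linear_combination (-(c 1)) * hc4 0
      · simp only [Fin.reduceFinMk, Fin.isValue, Matrix.cons_val]
        linear_combination (-(c 2)) * hc4 0
      · simp only [Fin.reduceFinMk, Fin.isValue, Matrix.cons_val]
        linear_combination (-(c 1 * c 2 * c 0 ^ 3)) * (hc4 0) + (c 1 * c 2 * c 0 ^ 3) * hP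
          - (c 3 * c 1 ^ 2 * c 2 ^ 2) * (hc4 0) - (c 3 * c 2 ^ 2) * (hc 1) - (c 3 * s) * (hc 2)
          - c 3 * hs
    · rw [if_neg hij, if_neg hij, smul_zero]
  rw [hmat]
  exact su4q3nor_InP_mul ι (su4q3nor_InP_scalar ι hι (c 0) (hc4 0))
    (su4q3nor_InP_pm ι _ _ (hpm _ hd1s) (hpm _ hd2s))

omit [Fintype F] in
theorem su4q3nor_InP_perm (ι : F) (σ : Equiv.Perm (Fin 4))
    (hσ : σ = 1 ∨ σ = su4q3nor_s1 ∨ σ = su4q3nor_s2 ∨ σ = su4q3nor_s3) :
    su4q3nor_InP ι (Matrix.of fun i j : Fin 4 => if i = σ j then (1 : F) else 0) := by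
  rcases hσ with rfl | rfl | rfl | rfl
  · have e : (Matrix.of fun i j : Fin 4 =>
        if i = (1 : Equiv.Perm (Fin 4)) j then (1 : F) else 0) = 1 := by
      ext i j
      by_cases hij : i = j <;> simp [Matrix.one_apply, hij]
    rw [e]; exact su4q3nor_InP_one ι
  · have e : (Matrix.of fun i j : Fin 4 => if i = su4q3nor_s1 j then (1 : F) else 0) =
        !![0, 1, 0, 0; 1, 0, 0, 0; 0, 0, 0, 1; 0, 0, 1, 0] := by
      ext i j; fin_cases i <;> fin_cases j <;> simp [su4q3nor_s1]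
    rw [e]; exact su4q3nor_InP_X2 ι
  · have e : (Matrix.of fun i j : Fin 4 => if i = su4q3nor_s2 j then (1 : F) else 0) =
        !![0, 0, 1, 0; 0, 0, 0, 1; 1, 0, 0, 0; 0, 1, 0, 0] := by
      ext i j; fin_cases i <;> fin_cases j <;> simp [su4q3nor_s2]
    rw [e]; exact su4q3nor_InP_X1 ι
  · have e : (Matrix.of fun i j : Fin 4 => if i = su4q3nor_s3 j then (1 : F) else 0) =
        (!![0, 0, 1, 0; 0, 0, 0, 1; 1, 0, 0, 0; 0, 1, 0, 0] : Matrix (Fin 4) (Fin 4) F) *
        !![0, 1, 0, 0; 1, 0, 0, 0; 0, 0, 0, 1; 0, 0, 1, 0] := by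
      ext i j; fin_cases i <;> fin_cases j <;>
        simp [su4q3nor_s3, Matrix.mul_apply, Fin.sum_univ_four]
    rw [e]; exact su4q3nor_InP_mul ι (su4q3nor_InP_X1 ι) (su4q3nor_InP_X2 ι)

omit [Fintype F] in
theorem su4q3nor_crit (ι : F) (hι : ι ^ 2 = -1) (M : Matrix (Fin 4) (Fin 4) F)
    (σ : Equiv.Perm (Fin 4))
    (hσ : σ = 1 ∨ σ = su4q3nor_s1 ∨ σ = su4q3nor_s2 ∨ σ = su4q3nor_s3)
    (c : Fin 4 → F) (s : F) (hs : s ^ 2 = 1)
    (hc : ∀ i, c i ^ 2 = s) (hprod : ∏ i, c i = 1)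
    (hM : ∀ i j, M i j = if i = σ j then c i else 0) : su4q3nor_InP ι M := by
  have e : M = Matrix.diagonal c *
      (Matrix.of fun i j : Fin 4 => if i = σ j then (1 : F) else 0) := by
    ext i j
    rw [Matrix.diagonal_mul, hM i j, Matrix.of_apply]
    split_ifs <;> simp
  rw [e]
  exact su4q3nor_InP_mul ι (su4q3nor_InP_diag ι hι c s hs hc hprod) (su4q3nor_InP_perm ι σ hσ)

omit [Fintype F] in
theorem su4q3nor_conj_mem (ι : F) (x h : GL (Fin 4) F) (M : Matrix (Fin 4) (Fin 4) F)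
    (hM : su4q3nor_InP ι M) (hMx : M * x.1 = x.1 * h.1) : x * h * x⁻¹ ∈ su4Pauli ι := by
  obtain ⟨u, hu, rfl⟩ := hM
  have e1 : u * x = x * h := Units.ext (by simpa using hMx)
  have e2 : x * h * x⁻¹ = u := by rw [← e1]; group
  rw [e2]; exact hu

omit [Fintype F] in
theorem su4q3nor_main (ι : F) (hι : ι ^ 2 = -1) (x h : GL (Fin 4) F)
    (π : Equiv.Perm (Fin 4)) (a : Fin 4 → F)
    (hx : ∀ i j, x.1 i j = if i = π j then a j else 0)
    (ha : ∀ j, a j ^ 4 = 1)
    (τ : Equiv.Perm (Fin 4)) (ε : Fin 4 → F)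
    (hh : ∀ k l, h.1 k l = if k = τ l then ε k else 0)
    (hσ : π * τ * π⁻¹ = 1 ∨ π * τ * π⁻¹ = su4q3nor_s1 ∨ π * τ * π⁻¹ = su4q3nor_s2 ∨
      π * τ * π⁻¹ = su4q3nor_s3)
    (s : F) (hs : s ^ 2 = 1) (hc : ∀ k, (a k * ε k * (a (τ.symm k))⁻¹) ^ 2 = s)
    (hprod : ∏ k, (a k * ε k * (a (τ.symm k))⁻¹) = 1) :
    x * h * x⁻¹ ∈ su4Pauli ι := by
  have ha0 : ∀ j, a j ≠ 0 := by
    intro j h0
    have := ha j
    rw [h0] at this
    simp at this
  apply su4q3nor_conj_mem ι x h (Matrix.of fun i j : Fin 4 =>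
    if i = (π * τ * π⁻¹) j then (a (π.symm i) * ε (π.symm i) * (a (τ.symm (π.symm i)))⁻¹) else 0)
  · apply su4q3nor_crit ι hι _ (π * τ * π⁻¹) hσ
      (fun i => a (π.symm i) * ε (π.symm i) * (a (τ.symm (π.symm i)))⁻¹) s hs
    · intro i; exact hc (π.symm i)
    · rw [← hprod]
      exact Equiv.prod_comp π.symm (fun k => a k * ε k * (a (τ.symm k))⁻¹)
    · intro i j; rfl
  · ext i l
    rw [Matrix.mul_apply, Matrix.mul_apply]
    simp only [hx, hh, Matrix.of_apply]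
    rw [Finset.sum_eq_single (π l), Finset.sum_eq_single (τ l)]
    · by_cases hi : i = π (τ l)
      · subst hi
        have e1 : π (τ l) = (π * τ * π⁻¹) (π l) := by simp
        rw [if_pos e1, if_pos rfl, if_pos rfl, if_pos rfl]
        simp only [Equiv.symm_apply_apply]
        have := ha0 l
        field_simp
      · have e1 : ¬ i = (π * τ * π⁻¹) (π l) := by
          intro h'; apply hi; rw [h']; simp
        rw [if_neg e1, if_neg hi]; simp
    · intro b _ hb
      rw [if_neg hb]; simp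
    · intro hm; exact absurd (Finset.mem_univ _) hm
    · intro b _ hb
      have : ¬ b = π l := hb
      rw [if_neg this]; simp
    · intro hm; exact absurd (Finset.mem_univ _) hm

omit [Fintype F] in
theorem su4q3nor_inv (a : F) (h : a ^ 4 = 1) : a⁻¹ = a ^ 3 :=
  inv_eq_of_mul_eq_one_right (by linear_combination h)

omit [Fintype F] in
/-- the conjugation statement for the five generators -/
theorem su4q3nor_gens (ι : F) (hι : ι ^ 2 = -1) (x : GL (Fin 4) F)
    (π : Equiv.Perm (Fin 4)) (a : Fin 4 → F)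
    (hx : ∀ i j, x.1 i j = if i = π j then a j else 0)
    (ha : ∀ j, a j ^ 4 = 1) (hp : (a 0 * a 1 * a 2 * a 3) ^ 2 = 1)
    (h : GL (Fin 4) F) (hh : h ∈ su4PauliGens ι) : x * h * x⁻¹ ∈ su4Pauli ι := by
  have ha0 : ∀ j, a j ≠ 0 := by
    intro j h0
    have := ha j
    rw [h0] at this
    simp at this
  have hinv : ∀ j, (a j)⁻¹ = a j ^ 3 := fun j => su4q3nor_inv (a j) (ha j)
  have hone : π * 1 * π⁻¹ = 1 := by simp
  rcases hh with hh | hh | hh | hh | hh
  · -- the scalar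
    refine su4q3nor_main ι hι x h π a hx ha 1 (fun _ => ι) ?_ (Or.inl hone) (-1) (by ring) ?_ ?_
    · intro k l
      rw [hh, Matrix.smul_apply, Matrix.one_apply, Equiv.Perm.one_apply]
      by_cases hkl : k = l <;> simp [hkl]
    · intro k
      have e : a k * ι * (a ((1 : Equiv.Perm (Fin 4)).symm k))⁻¹ = ι := by
        have : (1 : Equiv.Perm (Fin 4)).symm k = k := rfl
        rw [this]; have := ha0 k; field_simp
      rw [e, hι]
    · have e : ∀ k, a k * ι * (a ((1 : Equiv.Perm (Fin 4)).symm k))⁻¹ = ι := by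
        intro k
        have : (1 : Equiv.Perm (Fin 4)).symm k = k := rfl
        rw [this]; have := ha0 k; field_simp
      simp only [e]
      rw [Finset.prod_const, Finset.card_univ, Fintype.card_fin]
      linear_combination (ι ^ 2 - 1) * hι
  · -- Z1
    refine su4q3nor_main ι hι x h π a hx ha 1 ![1, 1, -1, -1] ?_ (Or.inl hone) 1 (by ring) ?_ ?_
    · intro k l
      rw [hh, Matrix.diagonal_apply, Equiv.Perm.one_apply]
    · intro k
      have e : a k * (![1, 1, -1, -1] : Fin 4 → F) k *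
          (a ((1 : Equiv.Perm (Fin 4)).symm k))⁻¹ = (![1, 1, -1, -1] : Fin 4 → F) k := by
        have : (1 : Equiv.Perm (Fin 4)).symm k = k := rfl
        rw [this]; have := ha0 k; field_simp
      rw [e]; fin_cases k <;> simp
    · have e : ∀ k, a k * (![1, 1, -1, -1] : Fin 4 → F) k *
          (a ((1 : Equiv.Perm (Fin 4)).symm k))⁻¹ = (![1, 1, -1, -1] : Fin 4 → F) k := by
        intro k
        have : (1 : Equiv.Perm (Fin 4)).symm k = k := rfl
        rw [this]; have := ha0 k; field_simp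
      simp only [e]
      rw [Fin.prod_univ_four]; simp
  · -- Z2
    refine su4q3nor_main ι hι x h π a hx ha 1 ![1, -1, 1, -1] ?_ (Or.inl hone) 1 (by ring) ?_ ?_
    · intro k l
      rw [hh, Matrix.diagonal_apply, Equiv.Perm.one_apply]
    · intro k
      have e : a k * (![1, -1, 1, -1] : Fin 4 → F) k *
          (a ((1 : Equiv.Perm (Fin 4)).symm k))⁻¹ = (![1, -1, 1, -1] : Fin 4 → F) k := by
        have : (1 : Equiv.Perm (Fin 4)).symm k = k := rfl
        rw [this]; have := ha0 k; field_simp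
      rw [e]; fin_cases k <;> simp
    · have e : ∀ k, a k * (![1, -1, 1, -1] : Fin 4 → F) k *
          (a ((1 : Equiv.Perm (Fin 4)).symm k))⁻¹ = (![1, -1, 1, -1] : Fin 4 → F) k := by
        intro k
        have : (1 : Equiv.Perm (Fin 4)).symm k = k := rfl
        rw [this]; have := ha0 k; field_simp
      simp only [e]
      rw [Fin.prod_univ_four]; simp
  · -- X1, the permutation s2
    refine su4q3nor_main ι hι x h π a hx ha su4q3nor_s2 (fun _ => 1) ?_
      (Or.inr (su4q3nor_klein2 π)) (a 0 ^ 2 * a 2 ^ 2) ?_ ?_ ?_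
    · intro k l
      rw [hh]
      fin_cases k <;> fin_cases l <;> simp [su4q3nor_s2]
    · linear_combination (a 2 ^ 4) * ha 0 + ha 2
    · intro k
      fin_cases k
      · have e : su4q3nor_s2.symm (0 : Fin 4) = 2 := rfl
        simp only [Fin.zero_eta, e, hinv]
        linear_combination (a 0 ^ 2 * a 2 ^ 2) * ha 2
      · have e : su4q3nor_s2.symm (1 : Fin 4) = 3 := rfl
        simp only [Fin.mk_one, e, hinv]
        linear_combination (a 1 ^ 2 * a 3 ^ 2) * ha 3 - (a 1 ^ 2 * a 3 ^ 2) * hp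
          + (a 0 ^ 2 * a 2 ^ 2) * (a 3 ^ 4 * ha 1 + ha 3)
      · have e : su4q3nor_s2.symm (2 : Fin 4) = 0 := rfl
        simp only [Fin.reduceFinMk, e, hinv]
        linear_combination (a 0 ^ 2 * a 2 ^ 2) * ha 0
      · have e : su4q3nor_s2.symm (3 : Fin 4) = 1 := rfl
        simp only [Fin.reduceFinMk, e, hinv]
        linear_combination (a 1 ^ 2 * a 3 ^ 2) * ha 1 - (a 1 ^ 2 * a 3 ^ 2) * hp
          + (a 0 ^ 2 * a 2 ^ 2) * (a 3 ^ 4 * ha 1 + ha 3)
    · rw [Fin.prod_univ_four]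
      have e0 : su4q3nor_s2.symm (0 : Fin 4) = 2 := rfl
      have e1 : su4q3nor_s2.symm (1 : Fin 4) = 3 := rfl
      have e2 : su4q3nor_s2.symm (2 : Fin 4) = 0 := rfl
      have e3 : su4q3nor_s2.symm (3 : Fin 4) = 1 := rfl
      rw [e0, e1, e2, e3]
      have := ha0 0; have := ha0 1; have := ha0 2; have := ha0 3
      field_simp
  · -- X2, the permutation s1
    refine su4q3nor_main ι hι x h π a hx ha su4q3nor_s1 (fun _ => 1) ?_
      (Or.inr (su4q3nor_klein1 π)) (a 0 ^ 2 * a 1 ^ 2) ?_ ?_ ?_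
    · intro k l
      rw [hh]
      fin_cases k <;> fin_cases l <;> simp [su4q3nor_s1]
    · linear_combination (a 1 ^ 4) * ha 0 + ha 1
    · intro k
      fin_cases k
      · have e : su4q3nor_s1.symm (0 : Fin 4) = 1 := rfl
        simp only [Fin.zero_eta, e, hinv]
        linear_combination (a 0 ^ 2 * a 1 ^ 2) * ha 1
      · have e : su4q3nor_s1.symm (1 : Fin 4) = 0 := rfl
        simp only [Fin.mk_one, e, hinv]
        linear_combination (a 0 ^ 2 * a 1 ^ 2) * ha 0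
      · have e : su4q3nor_s1.symm (2 : Fin 4) = 3 := rfl
        simp only [Fin.reduceFinMk, e, hinv]
        linear_combination (a 2 ^ 2 * a 3 ^ 2) * ha 3 - (a 2 ^ 2 * a 3 ^ 2) * hp
          + (a 0 ^ 2 * a 1 ^ 2) * (a 3 ^ 4 * ha 2 + ha 3)
      · have e : su4q3nor_s1.symm (3 : Fin 4) = 2 := rfl
        simp only [Fin.reduceFinMk, e, hinv]
        linear_combination (a 2 ^ 2 * a 3 ^ 2) * ha 2 - (a 2 ^ 2 * a 3 ^ 2) * hp
          + (a 0 ^ 2 * a 1 ^ 2) * (a 3 ^ 4 * ha 2 + ha 3)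
    · rw [Fin.prod_univ_four]
      have e0 : su4q3nor_s1.symm (0 : Fin 4) = 1 := rfl
      have e1 : su4q3nor_s1.symm (1 : Fin 4) = 0 := rfl
      have e2 : su4q3nor_s1.symm (2 : Fin 4) = 3 := rfl
      have e3 : su4q3nor_s1.symm (3 : Fin 4) = 2 := rfl
      rw [e0, e1, e2, e3]
      have := ha0 0; have := ha0 1; have := ha0 2; have := ha0 3
      field_simp

omit [Fintype F] in
/-- conjugation by an element of the monomial group preserves the Pauli group -/
theorem su4q3nor_key (hq : q = 3) (ι : F) (hι : ι ^ 2 = -1)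
    (x : GL (Fin 4) F)
    (hx : x ∈ decompositionStabilizer
        (fun j : Fin 4 => Submodule.span F {(Pi.single j 1 : Fin 4 → F)}) ⊓
      (Cfsg.GU 4 F q ⊓ specialLinear (Fin 4) F))
    (h : GL (Fin 4) F) (hh : h ∈ su4Pauli ι) : x * h * x⁻¹ ∈ su4Pauli ι := by
  subst hq
  obtain ⟨⟨π, hπ⟩, hx2, hx3⟩ := hx
  have hG : ∀ u v : Fin 4 → F, Cfsg.hermForm 4 F 3 (x.1 *ᵥ u) (x.1 *ᵥ v) =
      Cfsg.hermForm 4 F 3 u v := fun u v => hx2 u v
  have hex : ∀ j : Fin 4, ∃ c : F, ∀ i, x.1 i j = if i = π j then c else 0 := by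
    intro j
    have h1 : Matrix.toLin' x.1 (Pi.single j 1) ∈
        (Submodule.span F {(Pi.single j 1 : Fin 4 → F)}).map (Matrix.toLin' x.1) :=
      Submodule.mem_map_of_mem (Submodule.mem_span_singleton_self _)
    have h2 := hπ j
    simp only at h2
    rw [h2] at h1
    obtain ⟨c, hc⟩ := Submodule.mem_span_singleton.mp h1
    refine ⟨c, fun i => ?_⟩
    have h3 := congrFun hc i
    rw [Matrix.toLin'_apply, Matrix.mulVec_single_one] at h3
    have h4 : x.1 i j = c * (Pi.single (π j) (1 : F) : Fin 4 → F) i := by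
      rw [← smul_eq_mul, ← Pi.smul_apply]; exact h3.symm
    rw [h4, Pi.single_apply]
    split_ifs <;> simp
  choose a hxa using hex
  have hxa' : ∀ i j, x.1 i j = if i = π j then a j else 0 := fun i j => hxa j i
  have h4 : ∀ j, a j ^ 4 = 1 := by
    intro j
    have h := hG (Pi.single j 1) (Pi.single j 1)
    have hcol : x.1 *ᵥ (Pi.single j 1 : Fin 4 → F) = fun i => if i = π j then a j else 0 := by
      funext i
      rw [Matrix.mulVec_single_one]
      exact hxa j i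
    rw [hcol] at h
    unfold Cfsg.hermForm at h
    rw [Finset.sum_eq_single (π j), Finset.sum_eq_single j] at h
    · simp only [if_true, Pi.single_eq_same, one_pow, mul_one] at h
      linear_combination h
    · intro b _ hb
      simp [hb]
    · intro hm; exact absurd (Finset.mem_univ _) hm
    · intro b _ hb
      simp [hb]
    · intro hm; exact absurd (Finset.mem_univ _) hm
  have hp : (a 0 * a 1 * a 2 * a 3) ^ 2 = 1 := by
    have hd : x.1.det = 1 := by
      have h1 := MonoidHom.mem_ker.mp hx3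
      have h2 := congrArg Units.val h1
      simpa using h2
    have hxm : x.1 = (Matrix.diagonal a).submatrix π.symm id := by
      ext i j
      rw [hxa' i j, Matrix.submatrix_apply, Matrix.diagonal_apply]
      by_cases hij : i = π j
      · subst hij; simp
      · have hne : ¬ π.symm i = j := fun h' => hij (by rw [← h']; simp)
        simp [hij, hne]
    rw [hxm, Matrix.det_permute, Matrix.det_diagonal, Fin.prod_univ_four] at hd
    have hsq : ∀ e : ℤˣ, (((e : ℤ) : F)) ^ 2 = 1 := by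
      intro e
      rcases Int.units_eq_one_or e with h1 | h1 <;> rw [h1] <;> simp
    have hs1 := hsq (Equiv.Perm.sign π.symm)
    calc (a 0 * a 1 * a 2 * a 3) ^ 2
        = (((Equiv.Perm.sign π.symm : ℤˣ) : ℤ) : F) ^ 2 * (a 0 * a 1 * a 2 * a 3) ^ 2 := by
          rw [hs1, one_mul]
      _ = ((((Equiv.Perm.sign π.symm : ℤˣ) : ℤ) : F) * (a 0 * a 1 * a 2 * a 3)) ^ 2 := by
          ring
      _ = 1 := by rw [hd, one_pow]
  have hh' : h ∈ Subgroup.closure (su4PauliGens ι) := hh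
  refine Subgroup.closure_induction (p := fun g _ => x * g * x⁻¹ ∈ su4Pauli ι) ?_ ?_ ?_ ?_ hh'
  · intro g hg
    exact su4q3nor_gens ι hι x π a hxa' h4 hp g hg
  · simp only [mul_one, mul_inv_cancel]
    exact one_mem _
  · intro g1 g2 _ _ ih1 ih2
    have e : x * (g1 * g2) * x⁻¹ = (x * g1 * x⁻¹) * (x * g2 * x⁻¹) := by group
    rw [e]; exact mul_mem ih1 ih2
  · intro g _ ih
    have e : x * g⁻¹ * x⁻¹ = (x * g * x⁻¹)⁻¹ := by group
    rw [e]; exact inv_mem ih

/-- Q3NOR: the unimodular unitary monomial group of the standard frame normalises the Pauli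
group (`q = 3`). -/
theorem Q3NOR (hF : Fintype.card F = q ^ 2) (hq : q = 3) (ι : F) (hι : ι ^ 2 = -1) :
    decompositionStabilizer (fun j : Fin 4 => Submodule.span F {(Pi.single j 1 : Fin 4 → F)}) ⊓
      (Cfsg.GU 4 F q ⊓ specialLinear (Fin 4) F) ≤ subgroupNormalizer (su4Pauli ι) := by
  have _hF := hF
  intro x hx
  unfold subgroupNormalizer
  rw [Subgroup.mem_normalizer_iff]
  intro h
  constructor
  · intro hh
    exact su4q3nor_key hq ι hι x hx h hh
  · intro hh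
    have h1 := su4q3nor_key hq ι hι x⁻¹ (inv_mem hx) _ hh
    have e : x⁻¹ * (x * h * x⁻¹) * x⁻¹⁻¹ = h := by group
    rw [e] at h1
    exact h1

end Cfsg.Agent.Lib.Helper56.SU4Q3NOR
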