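import Mathlib

/-!
# Project TG (S2197, helper99), piece TG-IDX8

No subgroup of order 1280 in `P` (of order 10240), given that `f` acts trivially on the cosets of
every such subgroup and that `P` modulo the normal closure of `f` is cyclic of order at most 4.
-/

set_option autoImplicit false

namespace Cfsg.Agent.Lib.Helper99.TG

theorem tg_no_index_eight {Γ : Type*} [Group Γ] [Finite Γ] (P : Subgroup Γ)
    (hP : Nat.card P = 10240) (f t : Γ) (hfP : f ∈ P) (htP : t ∈ P) (gens : Set Γ)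
    (hgen : P = Subgroup.closure gens)
    (hslp : ∀ g ∈ gens, ∃ k : ℕ, g * t ^ k ∈ Subgroup.closure {x | ∃ p ∈ P, x = p * f * p⁻¹})
    (ht4 : t ^ 4 ∈ Subgroup.closure {x | ∃ p ∈ P, x = p * f * p⁻¹})
    (hX : ∀ R : Subgroup Γ, R ≤ P → Nat.card R = 1280 →
      ∀ x : ↥P ⧸ R.subgroupOf P, (⟨f, hfP⟩ : ↥P) • x = x) :
    ∀ R : Subgroup Γ, R ≤ P → Nat.card R ≠ 1280 := by
  intro R hRP hR
  have hNn : ((R.subgroupOf P).normalCore).Normal := Subgroup.normalCore_normal _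
  -- `f'` lies in the normal core
  have hfN : (⟨f, hfP⟩ : ↥P) ∈ (R.subgroupOf P).normalCore := by
    rw [Subgroup.normalCore_eq_ker, MonoidHom.mem_ker]
    ext x
    exact hX R hRP hR x
  -- the normal closure of `f` lies in the image of the core
  have hD : Subgroup.closure {x | ∃ p ∈ P, x = p * f * p⁻¹} ≤
      ((R.subgroupOf P).normalCore).map P.subtype := by
    rw [Subgroup.closure_le]
    rintro x ⟨p, hp, rfl⟩
    exact ⟨⟨p, hp⟩ * ⟨f, hfP⟩ * ⟨p, hp⟩⁻¹, hNn.conj_mem _ hfN _, rfl⟩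
  have hback : ∀ (y : Γ) (hy : y ∈ P), y ∈ ((R.subgroupOf P).normalCore).map P.subtype →
      (⟨y, hy⟩ : ↥P) ∈ (R.subgroupOf P).normalCore := by
    rintro y hy ⟨n, hn, hny⟩
    have : n = ⟨y, hy⟩ := Subtype.ext hny
    rwa [this] at hn
  -- the quotient
  let π : ↥P →* ↥P ⧸ (R.subgroupOf P).normalCore := QuotientGroup.mk' _
  have hπ1 : ∀ g : ↥P, g ∈ (R.subgroupOf P).normalCore → π g = 1 := fun g hg =>
    (QuotientGroup.eq_one_iff g).mpr hg
  have hτ4 : (π ⟨t, htP⟩) ^ 4 = 1 := by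
    rw [← map_pow]
    exact hπ1 _ (hback (t ^ 4) (P.pow_mem htP 4) (hD ht4))
  have hgensP : ∀ g ∈ gens, g ∈ P := fun g hg => hgen ▸ Subgroup.subset_closure hg
  have hgens : gens ⊆ (((Subgroup.zpowers (π ⟨t, htP⟩)).comap π).map P.subtype : Subgroup Γ) := by
    intro g hg
    obtain ⟨k, hk⟩ := hslp g hg
    have h1 : π (⟨g, hgensP g hg⟩ * ⟨t, htP⟩ ^ k) = 1 :=
      hπ1 _ (hback (g * t ^ k) (P.mul_mem (hgensP g hg) (P.pow_mem htP k)) (hD hk))
    rw [map_mul, map_pow] at h1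
    have h2 : π ⟨g, hgensP g hg⟩ = ((π ⟨t, htP⟩) ^ k)⁻¹ := eq_inv_of_mul_eq_one_left h1
    refine ⟨⟨g, hgensP g hg⟩, ?_, rfl⟩
    show π ⟨g, hgensP g hg⟩ ∈ Subgroup.zpowers (π ⟨t, htP⟩)
    rw [h2]
    exact (Subgroup.zpowers _).inv_mem ((Subgroup.zpowers _).pow_mem (Subgroup.mem_zpowers _) k)
  have hall : ∀ g : ↥P, π g ∈ Subgroup.zpowers (π ⟨t, htP⟩) := by
    intro g
    have h1 : (g : Γ) ∈ (((Subgroup.zpowers (π ⟨t, htP⟩)).comap π).map P.subtype : Subgroup Γ) := by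
      have h2 : P ≤ (((Subgroup.zpowers (π ⟨t, htP⟩)).comap π).map P.subtype : Subgroup Γ) :=
        hgen.le.trans ((Subgroup.closure_le _).mpr hgens)
      exact h2 g.2
    obtain ⟨g', hg', hgg'⟩ := h1
    have : g' = g := Subtype.ext hgg'
    rw [this] at hg'
    exact hg'
  have htop : Subgroup.zpowers (π ⟨t, htP⟩) = ⊤ := by
    rw [eq_top_iff]
    intro x _
    obtain ⟨g, rfl⟩ := QuotientGroup.mk'_surjective _ x
    exact hall g
  have hcardQ : Nat.card (↥P ⧸ (R.subgroupOf P).normalCore) ≤ 4 := by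
    rw [← Subgroup.card_top (G := ↥P ⧸ (R.subgroupOf P).normalCore), ← htop, Nat.card_zpowers]
    exact Nat.le_of_dvd (by norm_num) (orderOf_dvd_of_pow_eq_one hτ4)
  have hidx : ((R.subgroupOf P).normalCore).index ≤ 4 := by
    rw [Subgroup.index_eq_card]
    exact hcardQ
  have hmul := Subgroup.card_mul_index ((R.subgroupOf P).normalCore)
  have hNle : Nat.card ((R.subgroupOf P).normalCore) ≤ 1280 := by
    have h1 := Subgroup.card_le_of_le (Subgroup.normalCore_le (R.subgroupOf P))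
    rw [Nat.card_congr (Subgroup.subgroupOfEquivOfLe hRP).toEquiv, hR] at h1
    exact h1
  rw [hP] at hmul
  have := Nat.mul_le_mul hNle hidx
  omega

end Cfsg.Agent.Lib.Helper99.TG
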