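import Mathlib

set_option autoImplicit false
open scoped Pointwise

namespace Cfsg.Agent.Lib.Helper56

/-- a maximal subgroup of a finite `p`-group has index `p` -/
theorem coatom_index_of_pgroup {P : Type*} [Group P] [Finite P] {p : ℕ} [Fact p.Prime]
    (hP : IsPGroup p P) (M : Subgroup P) (hM : IsCoatom M) : M.index = p := by
  have hpp : p.Prime := Fact.out
  obtain ⟨N, hN⟩ := IsPGroup.iff_card.mp hP
  obtain ⟨n, hn'⟩ := IsPGroup.iff_card.mp (hP.to_subgroup M)
  have hlt : n < N := by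
    have h1 : Nat.card M < Nat.card P :=
      lt_of_le_of_ne (Subgroup.card_le_card_group M)
        (fun h => hM.1 ((Subgroup.card_eq_iff_eq_top M).mp h))
    rw [hn', hN] at h1
    exact (Nat.pow_lt_pow_iff_right hpp.one_lt).mp h1
  obtain ⟨K, hK, hMK⟩ := Sylow.exists_subgroup_card_pow_succ (p := p) (n := n)
    (by rw [hN]; exact pow_dvd_pow p hlt) hn'
  have hKtop : K = ⊤ := by
    rcases hM.le_iff.mp hMK with h | h
    · exact h
    · exfalso
      rw [h, hn'] at hK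
      have := Nat.pow_right_injective hpp.two_le hK
      omega
  have hcard : Nat.card P = p ^ (n + 1) := by rw [← hK, hKtop, Subgroup.card_top]
  have h2 := M.card_mul_index
  rw [hn', hcard, pow_succ] at h2
  exact Nat.eq_of_mul_eq_mul_left (pow_pos hpp.pos n) h2

/-- the sign character of a subgroup of index two -/
noncomputable def indexTwoHom {P : Type*} [Group P] (M : Subgroup P) (hM : M.index = 2) :
    P →* ℤˣ := by
  classical
  exact
  { toFun := fun x => if x ∈ M then 1 else -1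
    map_one' := by simp [M.one_mem]
    map_mul' := fun a b => by
      have := Subgroup.mul_mem_iff_of_index_two hM (a := a) (b := b)
      by_cases ha : a ∈ M <;> by_cases hb : b ∈ M <;> simp_all }

theorem indexTwoHom_apply_of_not_mem {P : Type*} [Group P] (M : Subgroup P) (hM : M.index = 2)
    {x : P} (hx : x ∉ M) : indexTwoHom M hM x = -1 := by
  classical
  unfold indexTwoHom
  simp [hx]

section ext

variable {G : Type*} [Group G] {H : Subgroup G} {A : Type*} [CommGroup A]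

/-- extension of a map on `H` by one -/
noncomputable def ext1 (ϕ : H →* A) (x : G) : A := by
  classical exact if h : x ∈ H then ϕ ⟨x, h⟩ else 1

theorem ext1_mem (ϕ : H →* A) {x : G} (h : x ∈ H) : ext1 ϕ x = ϕ ⟨x, h⟩ := by
  unfold ext1; simp [h]

theorem ext1_one (ϕ : H →* A) : ext1 ϕ (1 : G) = 1 := by
  rw [ext1_mem ϕ H.one_mem]
  exact map_one ϕ

theorem ext1_mul (ϕ : H →* A) {x y : G} (hx : x ∈ H) (hy : y ∈ H) :
    ext1 ϕ (x * y) = ext1 ϕ x * ext1 ϕ y := by
  rw [ext1_mem ϕ hx, ext1_mem ϕ hy, ext1_mem ϕ (H.mul_mem hx hy), ← map_mul]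
  rfl

theorem ext1_conj (ϕ : H →* A) {x h : G} (hx : x ∈ H) (hh : h ∈ H) :
    ext1 ϕ (h⁻¹ * x * h) = ext1 ϕ x := by
  rw [ext1_mul ϕ (H.mul_mem (H.inv_mem hh) hx) hh, ext1_mul ϕ (H.inv_mem hh) hx,
    ext1_mem ϕ (H.inv_mem hh), ext1_mem ϕ hh]
  have : (⟨h⁻¹, H.inv_mem hh⟩ : H) = (⟨h, hh⟩ : H)⁻¹ := rfl
  rw [this, map_inv, mul_comm, ← mul_assoc, mul_inv_cancel, one_mul]

theorem ext1_rep (ϕ : H →* A) (z g₁ g₂ : G) (h12 : (g₁ : G ⧸ H) = g₂)
    (hfix : g₁⁻¹ * z * g₁ ∈ H) : ext1 ϕ (g₂⁻¹ * z * g₂) = ext1 ϕ (g₁⁻¹ * z * g₁) := by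
  have hh : g₁⁻¹ * g₂ ∈ H := QuotientGroup.eq.mp h12
  have e : g₂⁻¹ * z * g₂ = (g₁⁻¹ * g₂)⁻¹ * (g₁⁻¹ * z * g₁) * (g₁⁻¹ * g₂) := by group
  rw [e, ext1_conj ϕ hfix hh]

theorem conj_mem_of_smul_eq (z g : G) (h : z • (g : G ⧸ H) = g) : g⁻¹ * z * g ∈ H := by
  rw [mul_assoc, ← QuotientGroup.eq]
  exact h.symm

theorem out_conj_mem_of_smul_eq (z : G) (q : G ⧸ H) (hq : z • q = q) :
    q.out⁻¹ * z * q.out ∈ H := by
  apply conj_mem_of_smul_eq
  rw [QuotientGroup.out_eq', hq]

end ext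

/-- the transfer of an involution into `ℤˣ` is a sign given by a count of fixed cosets -/
theorem transfer_involution_units {G : Type*} [Group G] {H : Subgroup G} [H.FiniteIndex]
    (ϕ : H →* ℤˣ) (z : G) (hz : z * z = 1) :
    MonoidHom.transfer ϕ z =
      (-1) ^ Nat.card {q : G ⧸ H // z • q = q ∧ ext1 ϕ (q.out⁻¹ * z * q.out) = -1} := by
  classical
  letI := H.fintypeQuotientOfFiniteIndex
  let T : H.LeftTransversal := default
  let t : G ⧸ H → G := fun q => (T.2.leftQuotientEquiv q : G)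
  have ht : ∀ q : G ⧸ H, ((t q : G) : G ⧸ H) = q :=
    fun q => T.2.quotientGroupMk_leftQuotientEquiv q
  have hzinv : z⁻¹ = z := inv_eq_of_mul_eq_one_left hz
  have hzz : ∀ q : G ⧸ H, z • z • q = q := fun q => by rw [smul_smul, hz, one_smul]
  have hmem : ∀ q : G ⧸ H, (t q)⁻¹ * (z * t (z⁻¹ • q)) ∈ H := by
    intro q
    rw [← QuotientGroup.eq, ht q]
    have : ((z * t (z⁻¹ • q) : G) : G ⧸ H) = z • ((t (z⁻¹ • q) : G) : G ⧸ H) := rfl
    rw [this, ht, smul_inv_smul]
  have h1 : MonoidHom.transfer ϕ z = ∏ q : G ⧸ H, ext1 ϕ ((t q)⁻¹ * (z * t (z⁻¹ • q))) := by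
    rw [MonoidHom.transfer_def ϕ T z]
    unfold Subgroup.leftTransversals.diff
    refine Finset.prod_congr rfl (fun q _ => ?_)
    rw [ext1_mem ϕ (hmem q)]
    congr 1
    apply Subtype.ext
    simp only [Subgroup.smul_apply_eq_smul_apply_inv_smul, smul_eq_mul]
    rfl
  rw [h1, ← Finset.prod_filter_mul_prod_filter_not Finset.univ (fun q : G ⧸ H => z • q = q)]
  have h2 : ∏ q : G ⧸ H with ¬ (z • q = q), ext1 ϕ ((t q)⁻¹ * (z * t (z⁻¹ • q))) = 1 := by
    refine Finset.prod_involution (fun q _ => z • q) ?_ ?_ ?_ ?_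
    · intro q _
      rw [hzinv, hzz q, ← ext1_mul ϕ (by simpa [hzinv] using hmem q)
        (by simpa [hzinv, hzz q] using hmem (z • q))]
      have e : (t q)⁻¹ * (z * t (z • q)) * ((t (z • q))⁻¹ * (z * t q)) = 1 := by
        have : (t q)⁻¹ * (z * t (z • q)) * ((t (z • q))⁻¹ * (z * t q))
            = (t q)⁻¹ * (z * z) * t q := by group
        rw [this, hz]; group
      rw [e, ext1_one]
    · intro q hq _
      exact (Finset.mem_filter.mp hq).2
    · intro q hq
      refine Finset.mem_filter.mpr ⟨Finset.mem_univ _, ?_⟩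
      rw [hzz q]
      exact fun h => (Finset.mem_filter.mp hq).2 h.symm
    · intro q _
      exact hzz q
  rw [h2, mul_one]
  have h3 : ∏ q : G ⧸ H with z • q = q, ext1 ϕ ((t q)⁻¹ * (z * t (z⁻¹ • q)))
      = ∏ q : G ⧸ H with z • q = q, ext1 ϕ (q.out⁻¹ * z * q.out) := by
    refine Finset.prod_congr rfl (fun q hq => ?_)
    have hq' : z • q = q := (Finset.mem_filter.mp hq).2
    have hq'' : z⁻¹ • q = q := by rw [hzinv]; exact hq'
    rw [hq'', ← mul_assoc]
    refine ext1_rep ϕ z q.out (t q) ?_ ?_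
    · rw [ht q]; exact QuotientGroup.out_eq' q
    · rw [mul_assoc, ← QuotientGroup.eq]
      have : ((z * q.out : G) : G ⧸ H) = z • ((q.out : G) : G ⧸ H) := rfl
      rw [this, QuotientGroup.out_eq', hq']
  rw [h3, ← Finset.prod_filter_ne_one, Finset.filter_filter]
  have h4 : ∀ q ∈ Finset.filter (fun q : G ⧸ H => z • q = q ∧ ext1 ϕ (q.out⁻¹ * z * q.out) ≠ 1)
      Finset.univ, ext1 ϕ (q.out⁻¹ * z * q.out) = -1 := by
    intro q hq
    rcases Int.units_eq_one_or (ext1 ϕ (q.out⁻¹ * z * q.out)) with h | h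
    · exact absurd h (Finset.mem_filter.mp hq).2.2
    · exact h
  rw [Finset.prod_eq_pow_card h4]
  congr 1
  rw [Nat.card_eq_fintype_card, Fintype.card_subtype]
  congr 1
  ext q
  simp only [Finset.mem_filter, Finset.mem_univ, true_and, ne_eq, and_congr_right_iff]
  intro _
  constructor
  · intro h
    rcases Int.units_eq_one_or (ext1 ϕ (q.out⁻¹ * z * q.out)) with h' | h'
    · exact absurd h' h
    · exact h'
  · intro h h'
    rw [h] at h'
    exact absurd h' (by decide)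

end Cfsg.Agent.Lib.Helper56
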