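import Mathlib
import Cfsg.Prelude.Def_GeometricClasses
import Cfsg.Prelude.Def_LieClassical
import Cfsg.Agent.Lib.Helper71.Asch0

/-! Project U9 (helper44, statement S5832), piece RG1 (helper56): the first tensor factor of a
group of isometries of a tensor product form preserves the first Gram matrix. -/

set_option autoImplicit false

namespace Cfsg.Agent.Lib.Helper44.U9

open Matrix Cfsg.Geo Cfsg.Agent.Lib.Helper71.Asch
open scoped Kronecker

variable {n : ℕ} {F : Type*} [Field F] [Fintype F] {q : ℕ}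

omit [Fintype F] in
theorem RG1_tmat_mulVec (e : Fin n ≃ Fin 3 × Fin 3) (P : GL (Fin n) F)
    (y : Matrix (Fin 3) (Fin 3) F) (x : Fin 3 × Fin 3 → F) :
    tmat e P y 1 *ᵥ (P.1 *ᵥ (x ∘ e)) =
      P.1 *ᵥ (((y ⊗ₖ (1 : Matrix (Fin 3) (Fin 3) F)) *ᵥ x) ∘ e) := by
  unfold tmat
  have hP : (P⁻¹ : GL (Fin n) F).1 * P.1 = 1 := by
    rw [← Units.val_mul, inv_mul_cancel, Units.val_one]
  have key : (Matrix.reindex e.symm e.symm (y ⊗ₖ (1 : Matrix (Fin 3) (Fin 3) F))) *ᵥ (x ∘ e) =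
      ((y ⊗ₖ (1 : Matrix (Fin 3) (Fin 3) F)) *ᵥ x) ∘ e := by
    rw [Matrix.reindex_apply, Matrix.submatrix_mulVec_equiv]
    have hx : (x ∘ ⇑e) ∘ ⇑e.symm = x := by
      funext p
      simp
    show ((y ⊗ₖ (1 : Matrix (Fin 3) (Fin 3) F)) *ᵥ ((x ∘ ⇑e) ∘ ⇑e.symm)) ∘ ⇑e = _
    rw [hx]
  rw [Matrix.mulVec_mulVec, Matrix.mul_assoc, Matrix.mul_assoc, hP, Matrix.mul_one,
    ← Matrix.mulVec_mulVec, key]

omit [Fintype F] in
theorem RG1_kron_mulVec (y : Matrix (Fin 3) (Fin 3) F) (u w : Fin 3 → F) :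
    (y ⊗ₖ (1 : Matrix (Fin 3) (Fin 3) F)) *ᵥ (fun p : Fin 3 × Fin 3 => u p.1 * w p.2) =
      fun p => (y *ᵥ u) p.1 * w p.2 := by
  funext p
  obtain ⟨i, j⟩ := p
  simp only [Matrix.mulVec, dotProduct, Fintype.sum_prod_type, Matrix.kroneckerMap_apply]
  rw [Finset.sum_mul]
  apply Finset.sum_congr rfl
  intro k _
  rw [Finset.sum_eq_single j]
  · rw [Matrix.one_apply_eq]; ring
  · intro l _ hl
    rw [Matrix.one_apply_ne (Ne.symm hl)]; ring
  · intro h; exact absurd (Finset.mem_univ j) h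

omit [Fintype F] in
theorem RG1_form_tensor (σ : F → F) (hσ : ∀ a b, σ (a * b) = σ a * σ b)
    (G₁ G₂ : Matrix (Fin 3) (Fin 3) F) (u v w w' : Fin 3 → F) :
    formOfGram σ (G₁ ⊗ₖ G₂) (fun p => u p.1 * w p.2) (fun p => v p.1 * w' p.2) =
      formOfGram σ G₁ u v * formOfGram σ G₂ w w' := by
  unfold formOfGram
  simp only [Fintype.sum_prod_type, Matrix.kroneckerMap_apply, hσ, Fin.sum_univ_three]
  ring

/-- RG1: the first tensor factor of a group of isometries preserves the first Gram matrix. -/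
theorem RG1 (hF : Fintype.card F = q ^ 2) (e : Fin n ≃ Fin 3 × Fin 3) (P : GL (Fin n) F)
    (G₁ G₂ : Matrix (Fin 3) (Fin 3) F) (hd2 : G₂.det ≠ 0)
    (hid : ∀ x y : Fin 3 × Fin 3 → F,
      Cfsg.hermForm n F q (P.1 *ᵥ (x ∘ e)) (P.1 *ᵥ (y ∘ e)) =
        formOfGram (fun c : F => c ^ q) (G₁ ⊗ₖ G₂) x y)
    (N : Subgroup (GL (Fin n) F)) (hN : N ≤ Cfsg.GU n F q) (R : Subgroup (GL (Fin 3) F))
    (h2 : ∀ y ∈ R, ∃ x ∈ N, x.1 = tmat e P y.1 1) :
    ∀ y ∈ R, ∀ u v : Fin 3 → F,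
      formOfGram (fun c : F => c ^ q) G₁ (y.1 *ᵥ u) (y.1 *ᵥ v) =
        formOfGram (fun c : F => c ^ q) G₁ u v := by
  classical
  intro y hy u v
  have hq0 : q ≠ 0 := by
    rintro rfl
    have h0 := Fintype.card_pos (α := F)
    rw [hF] at h0
    norm_num at h0
  obtain ⟨j, l, hjl⟩ : ∃ j l, G₂ j l ≠ 0 := by
    by_contra hcon
    push Not at hcon
    apply hd2
    have h0 : G₂ = 0 := by
      ext a b
      exact hcon a b
    rw [h0, Matrix.det_zero]
  obtain ⟨x, hxN, hx⟩ := h2 y hy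
  have hxGU := hN hxN
  have hpres : ∀ a b : Fin n → F,
      Cfsg.hermForm n F q (x.1 *ᵥ a) (x.1 *ᵥ b) = Cfsg.hermForm n F q a b := by
    intro a b
    exact hxGU a b
  have hw : formOfGram (fun c : F => c ^ q) G₂ (Pi.single j 1) (Pi.single l 1) = G₂ j l := by
    unfold formOfGram
    rw [Finset.sum_eq_single j]
    · rw [Finset.sum_eq_single l]
      · simp
      · intro b _ hb
        simp [Pi.single_eq_of_ne hb, hq0]
      · intro h; exact absurd (Finset.mem_univ l) h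
    · intro a _ ha
      simp [Pi.single_eq_of_ne ha]
    · intro h; exact absurd (Finset.mem_univ j) h
  have key := hpres (P.1 *ᵥ ((fun p : Fin 3 × Fin 3 => u p.1 * (Pi.single j 1 : Fin 3 → F) p.2) ∘ e))
    (P.1 *ᵥ ((fun p : Fin 3 × Fin 3 => v p.1 * (Pi.single l 1 : Fin 3 → F) p.2) ∘ e))
  rw [hx, RG1_tmat_mulVec, RG1_tmat_mulVec, hid, hid, RG1_kron_mulVec, RG1_kron_mulVec,
    RG1_form_tensor (fun c : F => c ^ q) (fun a b => mul_pow a b q),
    RG1_form_tensor (fun c : F => c ^ q) (fun a b => mul_pow a b q), hw] at key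
  exact mul_right_cancel₀ hjl key

end Cfsg.Agent.Lib.Helper44.U9
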